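import Cfsg.Prelude
import Cfsg.Agent.H6.Fus4
import Cfsg.Agent.H1.PCon

/-! the Goldschmidt family -/

set_option autoImplicit false

open Cfsg Subgroup

namespace Cfsg.Agent.H6

section
variable {G : Type*} [Group G] [Finite G] {p : ℕ} [hp : Fact p.Prime]

/-- `O_{p'}(N)` and `O_{p'p}(N)` as subgroups of `G` -/
def OPr (p : ℕ) (N : Subgroup G) : Subgroup G := (pPrimeCore p ↥N).map N.subtype
def OPP (p : ℕ) (N : Subgroup G) : Subgroup G := (pPrimePCore p ↥N).map N.subtype

theorem norm_map_char {N : Subgroup G} {C : Subgroup ↥N} [hC : C.Normal] : N ≤ normalizer ((C.map N.subtype : Subgroup G) : Set G) := by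
  rw [le_norm_iff]
  rintro n hn _ ⟨c, hc, rfl⟩
  exact ⟨⟨n, hn⟩ * c * ⟨n, hn⟩⁻¹, hC.conj_mem c hc _, rfl⟩

theorem OPr_le (N : Subgroup G) : OPr p N ≤ N := Subgroup.map_subtype_le _
theorem OPP_le (N : Subgroup G) : OPP p N ≤ N := Subgroup.map_subtype_le _
theorem OPr_norm (N : Subgroup G) : N ≤ normalizer ((OPr p N : Subgroup G) : Set G) := norm_map_char
theorem OPP_norm (N : Subgroup G) : N ≤ normalizer ((OPP p N : Subgroup G) : Set G) := by
  haveI : (pPrimePCore p ↥N).Normal := by unfold pPrimePCore; infer_instance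
  exact norm_map_char
theorem OPr_le_OPP (N : Subgroup G) : OPr p N ≤ OPP p N := Subgroup.map_mono H1.pPrimePCore_le

theorem OPr_coprime (N : Subgroup G) : (Nat.card (OPr p N)).Coprime p := by
  unfold OPr
  rw [Subgroup.card_map_of_injective N.subtype_injective]
  exact L0.pPrimeCore_coprime p ↥N

theorem le_OPr {N K : Subgroup G} (hK : K ≤ N) (hn : N ≤ normalizer (K : Set G)) (h : (Nat.card K).Coprime p) : K ≤ OPr p N := by
  haveI : (K.subgroupOf N).Normal := by
    rw [normal_subgroupOf_iff hK]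
    intro c k hc hk
    exact (Subgroup.mem_normalizer_iff.1 (hn hk) c).1 hc
  have h1 : K.subgroupOf N ≤ pPrimeCore p ↥N := by
    refine L0.le_pPrimeCore ?_
    rwa [Nat.card_congr (subgroupOfEquivOfLe hK).toEquiv]
  have h2 := Subgroup.map_mono (f := N.subtype) h1
  rwa [map_subgroupOf_eq_of_le hK] at h2

theorem OPP_pow {N : Subgroup G} {x : G} (hx : x ∈ OPP p N) : ∃ k : ℕ, x ^ p ^ k ∈ OPr p N := by
  obtain ⟨y, hy, rfl⟩ := hx
  have h1 : QuotientGroup.mk' (pPrimeCore p ↥N) y ∈ pCore p (↥N ⧸ pPrimeCore p ↥N) := hy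
  obtain ⟨k, hk⟩ := (L0.pCore_isPGroup p (↥N ⧸ pPrimeCore p ↥N)) ⟨_, h1⟩
  refine ⟨k, y ^ p ^ k, ?_, by simp⟩
  have h2 : QuotientGroup.mk' (pPrimeCore p ↥N) (y ^ p ^ k) = 1 := by
    rw [map_pow]; simpa using congrArg Subtype.val hk
  exact (QuotientGroup.eq_one_iff _).1 h2

theorem le_OPP {N K : Subgroup G} (hK : K ≤ N) (hn : N ≤ normalizer (K : Set G)) (h : IsPGroup p ↥K) : K ≤ OPP p N := by
  haveI : (K.subgroupOf N).Normal := by
    rw [normal_subgroupOf_iff hK]
    intro c k hc hk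
    exact (Subgroup.mem_normalizer_iff.1 (hn hk) c).1 hc
  have h0 : IsPGroup p ↥(K.subgroupOf N) := h.of_equiv (subgroupOfEquivOfLe hK).symm
  have h1 : K.subgroupOf N ≤ pPrimePCore p ↥N := by
    unfold pPrimePCore
    rw [← Subgroup.map_le_iff_le_comap]
    haveI : ((K.subgroupOf N).map (QuotientGroup.mk' (pPrimeCore p ↥N))).Normal :=
      Subgroup.Normal.map inferInstance _ (QuotientGroup.mk'_surjective _)
    exact L0.le_pCore (h0.map _)
  have h2 := Subgroup.map_mono (f := N.subtype) h1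
  rwa [map_subgroupOf_eq_of_le hK] at h2

theorem commute_of_coprime {A B : Subgroup G} (hA : IsPGroup p ↥A) (hB : (Nat.card B).Coprime p)
    (h1 : A ≤ normalizer (B : Set G)) (h2 : B ≤ normalizer (A : Set G)) : ∀ a ∈ A, ∀ b ∈ B, a * b = b * a := by
  intro a ha b hb
  have h3 : A ⊓ B = ⊥ := inf_eq_bot_of_coprime hA hB
  have h4 : a * b * a⁻¹ * b⁻¹ ∈ A ⊓ B := by
    refine mem_inf.2 ⟨?_, ?_⟩
    · have : b * a⁻¹ * b⁻¹ ∈ A := (Subgroup.mem_normalizer_iff.1 (h2 hb) _).1 (inv_mem ha)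
      have e : a * b * a⁻¹ * b⁻¹ = a * (b * a⁻¹ * b⁻¹) := by group
      rw [e]; exact mul_mem ha this
    · exact mul_mem ((Subgroup.mem_normalizer_iff.1 (h1 ha) _).1 hb) (inv_mem hb)
  rw [h3, mem_bot] at h4
  have := congrArg (fun y => y * b * a) h4
  simpa [mul_assoc] using this

/-- a subgroup `D` with `Syl_p(C_G(D))` inside `D`: `C_G(D) = Z(D) × O_{p'}(C_G(D))` -/
theorem centric_split {D : Subgroup G} (hD : IsPGroup p ↥D) (hc : SylIn p (D ⊓ centralizer (D : Set G)) (centralizer (D : Set G))) :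
    (Nat.card (opR p (centralizer (D : Set G)))).Coprime p ∧
    (D ⊓ centralizer (D : Set G)) ⊔ opR p (centralizer (D : Set G)) = centralizer (D : Set G) := by
  have h1 : PN p (centralizer (D : Set G)) := by
    refine pn_of_central hc ?_
    intro z hz c hcc
    exact (mem_centralizer_iff.1 hcc z (mem_inf.1 hz).1)
  refine ⟨h1, ?_⟩
  rw [sup_comm]
  exact sup_of_pow hc (opR_le p _) (le_norm_opR _) (fun x hx => pow_mem_opR hx)

/-- the members of the Goldschmidt family -/
def GF (p : ℕ) (P D : Subgroup G) : Prop :=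
  D ≤ P ∧ centralizer (D : Set G) ≤ OPP p (normalizer (D : Set G)) ∧
  IsInternalDirectProduct (OPr p (normalizer (D : Set G))) D (OPP p (normalizer (D : Set G))) ∧ FN p P D

theorem gf_of_rad {P D : Subgroup G} (hP : IsPGroup p ↥P) (hD : D ≤ P) (hfn : FN p P D) (hrad : Rad p P D) : GF p P D := by
  obtain ⟨N, hN⟩ : ∃ N, N = normalizer (D : Set G) := ⟨_, rfl⟩
  have hDN : D ≤ N := hN ▸ le_normalizer
  have hND : N ≤ normalizer (D : Set G) := hN.le
  have hDp := hP.to_le hD
  have hcomm : ∀ a ∈ D, ∀ b ∈ OPr p N, a * b = b * a :=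
    commute_of_coprime hDp (OPr_coprime N) (hDN.trans (OPr_norm N)) ((OPr_le N).trans hND)
  have hOC : OPr p N ≤ centralizer (D : Set G) := fun b hb => by
    rw [mem_centralizer_iff]
    intro a ha
    exact hcomm a ha b hb
  have hCN : centralizer (D : Set G) ≤ N := hN ▸ centralizer_le_normalizer _
  have hNC : N ≤ normalizer ((centralizer (D : Set G) : Subgroup G) : Set G) := by
    intro x hx
    rw [mem_norm, cj_centralizer, cj_of_mem_norm (hND hx)]
  have hDO : D ≤ OPP p N := le_OPP hDN hND hDp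
  -- `K = OPP ⊔ C`
  have hPK : P ⊓ (OPP p N ⊔ centralizer (D : Set G)) ≤ D := by
    refine hrad _ ?_ ?_ le_sup_right ?_
    · rw [← hN]; exact sup_le (OPP_le N) hCN
    · rw [← hN]; exact le_norm_sup (OPP_norm N) hNC
    · intro x hx
      have hx' : x ∈ ((OPP p N ⊔ centralizer (D : Set G) : Subgroup G) : Set G) := hx
      rw [coe_mul_of_left_le_normalizer_right _ _ ((OPP_le N).trans hNC)] at hx'
      obtain ⟨w, hw, c, hc, hwc⟩ := hx'
      have hwc' : w * c = x := hwc
      obtain ⟨k, hk⟩ := OPP_pow hw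
      refine ⟨k, ?_⟩
      have hnk : ∀ m : ℕ, (w ^ m)⁻¹ * (w * c) ^ m ∈ centralizer (D : Set G) := by
        intro m
        induction m with
        | zero => simp
        | succ m ihm =>
          have e : (w ^ (m + 1))⁻¹ * (w * c) ^ (m + 1) = (w⁻¹ * ((w ^ m)⁻¹ * (w * c) ^ m) * w) * c := by
            rw [pow_succ, pow_succ]; group
          rw [e]
          refine mul_mem ?_ hc
          have := (Subgroup.mem_normalizer_iff.1 (inv_mem (hNC (OPP_le N hw))) _).1 ihm
          simpa [mul_assoc] using this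
      have h1 := mul_mem (hOC hk) (hnk (p ^ k))
      rw [hwc'] at h1
      simpa [mul_assoc] using h1
  have hPO : P ⊓ OPP p N = D := le_antisymm ((inf_le_inf_left _ le_sup_left).trans hPK) (le_inf hD hDO)
  have hsO : SylIn p D (OPP p N) := by
    have := sylIn_of_norm hfn (K := OPP p N) (hN ▸ OPP_le N) (by rw [← hN]; exact OPP_norm N)
    rwa [hPO] at this
  have hsup : OPr p N ⊔ D = OPP p N :=
    sup_of_pow hsO (OPr_le_OPP N) ((OPP_le N).trans (OPr_norm N)) (fun x hx => OPP_pow hx)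
  have hsC : SylIn p (D ⊓ centralizer (D : Set G)) (centralizer (D : Set G)) := by
    have h1 := sylIn_of_norm hfn (K := centralizer (D : Set G)) (hN ▸ hCN) (by rw [← hN]; exact hNC)
    have h2 : P ⊓ centralizer (D : Set G) = D ⊓ centralizer (D : Set G) :=
      le_antisymm (le_inf ((inf_le_inf_left _ le_sup_right).trans hPK) inf_le_right) (inf_le_inf_right _ hD)
    rwa [h2] at h1
  obtain ⟨hc1, hc2⟩ := centric_split hDp hsC
  have hnopR : N ≤ normalizer ((opR p (centralizer (D : Set G)) : Subgroup G) : Set G) := by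
    intro x hx
    rw [mem_norm, opR_cj, cj_centralizer, cj_of_mem_norm (hND hx)]
  have hC : centralizer (D : Set G) ≤ OPP p N := by
    rw [← hc2, ← hsup]
    exact sup_le (inf_le_left.trans le_sup_right) ((le_OPr ((opR_le p _).trans hCN) hnopR hc1).trans le_sup_left)
  refine ⟨hD, hN ▸ hC, ?_, hfn⟩
  rw [← hN]
  exact ⟨OPr_le_OPP N, hDO, fun a ha b hb => (hcomm b hb a ha).symm, by rw [inf_comm]; exact inf_eq_bot_of_coprime hDp (OPr_coprime N), hsup⟩

theorem rad_self (P : Subgroup G) : Rad p P P := fun _ _ _ _ _ => inf_le_left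

theorem goldschmidt (P : Sylow p G) (A : Set G) (g : G) (hA : A ⊆ (P : Subgroup G))
    (hg : rc g A ⊆ (P : Subgroup G)) : ∃ c ∈ centralizer A, ∃ h : G, Ch (FStep {D | GF p (P : Subgroup G) D}) A h ∧ g = c * h := by
  refine alperin_rad P (fun A g => ∃ c ∈ centralizer A, ∃ h : G, Ch (FStep {D | GF p (P : Subgroup G) D}) A h ∧ g = c * h) ?_ ?_ ?_ ?_ A g hA hg
  · intro A c hc
    exact ⟨c, hc, 1, Ch.nil _, by simp⟩
  · rintro A B g hBA ⟨c, hc, h, hh, rfl⟩
    exact ⟨c, centralizer_le hBA hc, h, hh.mono FStep.mono hBA, rfl⟩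
  · rintro A g k ⟨c, hc, h, hh, rfl⟩ ⟨c', hc', h', hh', rfl⟩
    have hrc : rc c A = A := by
      ext y
      rw [mem_rc]
      constructor
      · intro hy
        have := mem_centralizer_iff.1 (inv_mem hc) _ hy
        have e : y = c⁻¹ * (c * y * c⁻¹) * c := by group
        have e2 : c⁻¹ * (c * y * c⁻¹) * c = c * y * c⁻¹ := by rw [← this]; group
        rw [e, e2]; exact hy
      · intro hy
        have := mem_centralizer_iff.1 hc _ hy
        rw [← this]; simpa using hy
    rw [rc_mul, hrc] at hc' hh'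
    refine ⟨c * (h * c' * h⁻¹), mul_mem hc ?_, h * h', hh.trans hh', by group⟩
    rw [mem_centralizer_iff]
    intro a ha
    have h1 := mem_centralizer_iff.1 hc' (h⁻¹ * a * h) ⟨a, ha, rfl⟩
    calc a * (h * c' * h⁻¹) = h * (h⁻¹ * a * h * c') * h⁻¹ := by group
      _ = h * (c' * (h⁻¹ * a * h)) * h⁻¹ := by rw [h1]
      _ = h * c' * h⁻¹ * a := by group
  · intro D hD hfn hrad g hg
    exact ⟨1, one_mem _, g, Ch.single ⟨D, gf_of_rad P.2 hD hfn hrad, le_rfl, hg⟩, by simp⟩

end

end Cfsg.Agent.H6
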