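import Cfsg.Agent.H6.SCh3
import Cfsg.Agent.H6.Repl

/-! miscellaneous -/

set_option autoImplicit false
set_option linter.unusedSectionVars false
open Cfsg Subgroup
open scoped commutatorElement

namespace Cfsg.Agent.H6

section
variable {G : Type*} [Group G] [Finite G] {p : ℕ} [hp : Fact p.Prime]

theorem pPrimePCore_pow {x : G} (hx : x ∈ pPrimePCore p G) : ∃ k : ℕ, x ^ p ^ k ∈ pPrimeCore p G := by
  have h1 : QuotientGroup.mk' (pPrimeCore p G) x ∈ pCore p (G ⧸ pPrimeCore p G) := hx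
  obtain ⟨k, hk⟩ := (L0.pCore_isPGroup p (G ⧸ pPrimeCore p G)) ⟨_, h1⟩
  refine ⟨k, (QuotientGroup.eq_one_iff _).1 ?_⟩
  have h2 := congrArg Subtype.val hk
  have h3 : (QuotientGroup.mk' (pPrimeCore p G) x) ^ p ^ k = 1 := by simpa using h2
  rw [← map_pow] at h3
  exact h3

instance pPrimePCore_normal' : (pPrimePCore p G).Normal := by unfold pPrimePCore; infer_instance

theorem norm_inf_ppcore {P : Subgroup G} (hP : IsPGroup p ↥P) {H : Subgroup G} (hH : H ≤ P) {u : G} (hu : u ∈ pPrimeCore p G)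
    (hun : u ∈ normalizer (H : Set G)) : u ∈ centralizer (H : Set G) := by
  rw [mem_centralizer_iff]
  intro h hh
  have h1 : u * h * u⁻¹ * h⁻¹ ∈ H ⊓ pPrimeCore p G := by
    refine mem_inf.2 ⟨mul_mem ((Subgroup.mem_normalizer_iff.1 hun h).1 hh) (inv_mem hh), ?_⟩
    have e : u * h * u⁻¹ * h⁻¹ = u * (h * u⁻¹ * h⁻¹) := by group
    rw [e]
    exact mul_mem hu ((inferInstance : (pPrimeCore p G).Normal).conj_mem _ (inv_mem hu) h)
  rw [inf_eq_bot_of_coprime (hP.to_le hH) (L0.pPrimeCore_coprime p G), mem_bot] at h1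
  have := congrArg (fun s => s * h * u) h1
  simpa [mul_assoc] using this.symm

theorem ppc_fusion_a {P : Subgroup G} (hP : IsPGroup p ↥P) {H : Subgroup G} (hH : H ≤ P) {y : G}
    (hy : y ∈ normalizer (H : Set G)) (hyo : ∃ k : ℕ, orderOf y = p ^ k) {d : G} (hd : d ∈ pPrimeCore p G)
    (hyd : d⁻¹ * y * d ∈ normalizer (H : Set G)) :
    ∃ d₁ ∈ pPrimeCore p G ⊓ centralizer ({y} : Set G), ∃ d₂ ∈ pPrimeCore p G ⊓ centralizer (H : Set G), d = d₁ * d₂ := by
  have hDn : (pPrimeCore p G).Normal := inferInstance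
  obtain ⟨m, hm, c, hc, hmc⟩ := L0.exists_mul_centralizer_of_comm_mem (A := zpowers y) (N := pPrimeCore p G)
    (M := pPrimeCore p G ⊓ centralizer (H : Set G)) (n := d⁻¹)
    (by rw [Subgroup.normalizer_eq_top]; exact le_top)
    (by
      refine le_norm_inf (by rw [Subgroup.normalizer_eq_top]; exact le_top) ?_
      rw [zpowers_le, mem_norm, cj_centralizer, cj_of_mem_norm hy])
    inf_le_left
    (by
      obtain ⟨k, hk⟩ := hyo
      rw [Nat.card_zpowers, hk]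
      exact (L0.pPrimeCore_coprime p G).symm.pow_left k)
    (Or.inl (H1.isSolvable_of_isPGroup (p := p) (by
      obtain ⟨k, hk⟩ := hyo
      exact IsPGroup.of_card (n := k) (by rw [Nat.card_zpowers, hk]))))
    (inv_mem hd) (by
      intro a ha
      have haN : a ∈ normalizer (H : Set G) := (zpowers_le.2 hy) ha
      have haN' : d⁻¹ * a * d ∈ normalizer (H : Set G) := by
        obtain ⟨k, rfl⟩ := mem_zpowers_iff.1 ha
        have e : d⁻¹ * y ^ k * d = (d⁻¹ * y * d) ^ k := by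
          have := conj_zpow (i := k) (a := d⁻¹) (b := y)
          rw [inv_inv] at this
          exact this.symm
        rw [e]; exact zpow_mem hyd k
      have h1 : d⁻¹ * a * d⁻¹⁻¹ * a⁻¹ ∈ pPrimeCore p G := by
        have e : d⁻¹ * a * d⁻¹⁻¹ * a⁻¹ = d⁻¹ * (a * d * a⁻¹) := by group
        rw [e]; exact mul_mem (inv_mem hd) (hDn.conj_mem _ hd a)
      have h2 : d⁻¹ * a * d⁻¹⁻¹ * a⁻¹ ∈ normalizer (H : Set G) := by
        rw [inv_inv]; exact mul_mem haN' (inv_mem haN)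
      exact mem_inf.2 ⟨h1, norm_inf_ppcore hP hH h1 h2⟩)
  refine ⟨c⁻¹, mem_inf.2 ⟨inv_mem (mem_inf.1 hc).1, inv_mem ?_⟩, m⁻¹, inv_mem hm, ?_⟩
  · have := (mem_inf.1 hc).2
    rw [mem_centralizer_iff] at this
    rw [mem_centralizer_singleton_iff]
    exact (this y (mem_zpowers y)).symm
  · rw [← mul_inv_rev, ← hmc, inv_inv]

theorem ppc_frattini (P : Sylow p G) (g : G) : ∃ d ∈ pPrimeCore p G,
    ∃ n ∈ normalizer (((P : Subgroup G) ⊓ pPrimePCore p G : Subgroup G) : Set G), g = d * n := by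
  have hPt : SylIn p (P : Subgroup G) ⊤ := sylow_sylIn_top P
  have hs : SylIn p ((P : Subgroup G) ⊓ pPrimePCore p G) (pPrimePCore p G) :=
    sylIn_inf_normal hPt (M := pPrimePCore p G) le_top (by rw [Subgroup.normalizer_eq_top])
  obtain ⟨c, hc, m, hm, rfl⟩ := frattini_sub hPt (C := pPrimePCore p G) le_top (by rw [Subgroup.normalizer_eq_top]) (mem_top g)
  have h1 : pPrimeCore p G ⊔ ((P : Subgroup G) ⊓ pPrimePCore p G) = pPrimePCore p G :=
    sup_of_pow hs H1.pPrimePCore_le (by rw [Subgroup.normalizer_eq_top]; exact le_top) (fun x hx => pPrimePCore_pow hx)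
  rw [← h1] at hc
  obtain ⟨d, hd, h, hh, rfl⟩ := (L0.mem_sup_of_normalizes (M := pPrimeCore p G)
    (A := (P : Subgroup G) ⊓ pPrimePCore p G) (by rw [Subgroup.normalizer_eq_top]; exact le_top)).1 hc
  exact ⟨d, hd, h * m, mul_mem (le_normalizer hh) (mem_inf.1 hm).2, by group⟩

theorem ppc_fusion_b (P : Sylow p G) {x y : G} (hx : x ∈ (P : Subgroup G)) (hy : y ∈ (P : Subgroup G)) (h : IsConj x y) :
    ∃ n ∈ normalizer (((P : Subgroup G) ⊓ pPrimePCore p G : Subgroup G) : Set G), n * x * n⁻¹ = y := by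
  obtain ⟨g, hg⟩ := isConj_iff.1 h
  obtain ⟨d, hd, n, hn, rfl⟩ := ppc_frattini P g
  have hPN : (P : Subgroup G) ≤ normalizer (((P : Subgroup G) ⊓ pPrimePCore p G : Subgroup G) : Set G) :=
    le_norm_inf le_normalizer (by rw [Subgroup.normalizer_eq_top]; exact le_top)
  have hyo : ∃ k : ℕ, orderOf y = p ^ k := by
    obtain ⟨k, hk⟩ := IsPGroup.iff_orderOf.1 P.2 ⟨y, hy⟩
    exact ⟨k, by rwa [Subgroup.orderOf_mk] at hk⟩
  have e1 : d⁻¹ * y * d = n * x * n⁻¹ := by rw [← hg]; group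
  obtain ⟨d₁, hd₁, d₂, hd₂, rfl⟩ := ppc_fusion_a P.2 (H := (P : Subgroup G) ⊓ pPrimePCore p G) inf_le_left (hPN hy) hyo hd (by
    rw [e1]; exact mul_mem (mul_mem hn (hPN hx)) (inv_mem hn))
  refine ⟨d₂ * n, mul_mem (centralizer_le_normalizer _ (mem_inf.1 hd₂).2) hn, ?_⟩
  have h1 := mem_centralizer_singleton_iff.1 (mem_inf.1 hd₁).2
  calc d₂ * n * x * (d₂ * n)⁻¹ = d₁⁻¹ * (d₁ * d₂ * n * x * (d₁ * d₂ * n)⁻¹) * d₁ := by group
    _ = d₁⁻¹ * (y * d₁) := by rw [hg]; group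
    _ = d₁⁻¹ * (d₁ * y) := by rw [h1]
    _ = y := by group

end

end Cfsg.Agent.H6
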