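import Cfsg.Agent.H6.S4Thom2
import Cfsg.Agent.H6.SecFusion

set_option autoImplicit false
set_option linter.unusedSectionVars false
set_option linter.unusedSimpArgs false
set_option linter.unusedVariables false
set_option linter.style.haveILetI false
open Cfsg
open scoped commutatorElement

namespace Cfsg.Agent.H6

section
variable {G : Type*} [Group G] [Finite G]

/-- in a solvable group without normal 2-subgroups the odd core is self-centralizing -/
theorem centralizer_pPrimeCore_le {H : Type*} [Group H] [Finite H] {p : ℕ} [hp : Fact p.Prime] (hs : Group.IsSolvable H)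
    (hO : pCore p H = ⊥) : Subgroup.centralizer ((pPrimeCore p H : Subgroup H) : Set H) ≤ pPrimeCore p H := by
  have h1 : (Nat.card ↥(fittingSubgroup H)).Coprime p := by
    have h2 := L0.not_dvd_index_pCore_of_nilpotent (p := p) (G := ↥(fittingSubgroup H)) (L0.fittingSubgroup_isNilpotent H)
    have h3 : pCore p ↥(fittingSubgroup H) = ⊥ := by
      have h4 := L0.pCore_subgroup_le p (fittingSubgroup H)
      rw [hO] at h4
      exact (Subgroup.map_eq_bot_iff_of_injective _ (Subgroup.subtype_injective _)).1 (le_bot_iff.1 h4)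
    rw [h3, Subgroup.index_bot] at h2
    exact ((Nat.Prime.coprime_iff_not_dvd hp.out).2 h2).symm
  have h2 : fittingSubgroup H ≤ pPrimeCore p H := L0.le_pPrimeCore h1
  exact ((Subgroup.centralizer_le (SetLike.coe_subset_coe.2 h2)).trans (L0.centralizer_fitting_le_of_isSolvable hs)).trans h2

theorem EH_le_pCore (hsol : Group.IsSolvable G) (hO : pPrimeCore 2 G = ⊥) (hS4 : ¬ Sec (Equiv.Perm (Fin 4)) G) (S : Sylow 2 G)
    (hcl : ∀ a ∈ (S : Subgroup G), ∀ b ∈ (S : Subgroup G), ∀ c ∈ (S : Subgroup G),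
      c * (a * b * a⁻¹ * b⁻¹) = (a * b * a⁻¹ * b⁻¹) * c) {A : Subgroup G} (hA : A ∈ H1.EH 2 (S : Subgroup G)) :
    A ≤ pCore 2 G := by
  obtain ⟨hAS, hAel, hAmax⟩ := hA
  set Q := pCore 2 G with hQ
  haveI hQn : Q.Normal := inferInstance
  have hQ2 : IsPGroup 2 ↥Q := L0.pCore_isPGroup 2 G
  have hQS : Q ≤ (S : Subgroup G) := L0.pCore_le_sylow S
  set V : Subgroup G :=
    { carrier := {v | v ∈ Q ∧ v ^ 2 = 1 ∧ ∀ q ∈ Q, v * q = q * v}
      one_mem' := ⟨Q.one_mem, one_pow _, fun q _ => by simp⟩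
      mul_mem' := by
        rintro a b ⟨ha, ha2, hac⟩ ⟨hb, hb2, hbc⟩
        refine ⟨Q.mul_mem ha hb, ?_, ?_⟩
        · rw [(show Commute a b from hac b hb).mul_pow, ha2, hb2, one_mul]
        · intro q hq
          exact (Commute.mul_left (hac q hq) (hbc q hq)).eq
      inv_mem' := by
        rintro a ⟨ha, ha2, hac⟩
        refine ⟨Q.inv_mem ha, by rw [inv_pow, ha2, inv_one], ?_⟩
        intro q hq
        exact (Commute.inv_left (hac q hq)).eq } with hV
  have hVn : V.Normal := by
    constructor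
    rintro v ⟨hv, hv2, hvc⟩ g
    refine ⟨hQn.conj_mem v hv g, ?_, ?_⟩
    · rw [conj_pow, hv2]; group
    · intro q hq
      have h1 := hvc _ (hQn.conj_mem q hq g⁻¹)
      calc g * v * g⁻¹ * q = g * (v * (g⁻¹ * q * g⁻¹⁻¹)) * g⁻¹ := by group
        _ = g * ((g⁻¹ * q * g⁻¹⁻¹) * v) * g⁻¹ := by rw [h1]
        _ = _ := by group
  have h : QV Q V :=
    { qn := hQn
      vn := hVn
      q2 := hQ2
      le := fun v hv => hv.1
      cent := fun v hv q hq => hv.2.2 q hq
      v2 := fun v hv => hv.2.1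
      self := cons_of_solvable hO hsol }
  have hVS : V ≤ (S : Subgroup G) := h.le.trans hQS
  have hAc : ∀ a ∈ A, ∀ b ∈ A, a * b = b * a := fun a ha b hb => H1.ea_comm hAel ha hb
  have hA2 : ∀ a ∈ A, a ^ 2 = 1 := hAel.2
  have hAQ : ∀ a ∈ A, ∀ q ∈ Q, a * q * a⁻¹ * q⁻¹ ∈ V := by
    intro a ha q hq
    have hc := hcl a (hAS ha) q (hQS hq)
    refine ⟨?_, ?_, ?_⟩
    · exact Q.mul_mem (hQn.conj_mem q hq a) (Q.inv_mem hq)
    · set w := a * q * a⁻¹ * q⁻¹ with hw
      have h1 : Commute a w := hc a (hAS ha)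
      have h2 : a * q * a⁻¹ = w * q := by rw [hw]; group
      have h3 : a * (a * q * a⁻¹) * a⁻¹ = q := by
        have e : a * (a * q * a⁻¹) * a⁻¹ = a ^ 2 * q * (a ^ 2)⁻¹ := by rw [pow_two]; group
        rw [e, hA2 a ha]; group
      rw [h2] at h3
      have h4 : a * (w * q) * a⁻¹ = w ^ 2 * q := by
        calc a * (w * q) * a⁻¹ = (a * w) * q * a⁻¹ := by group
          _ = (w * a) * q * a⁻¹ := by rw [h1.eq]
          _ = w * (a * q * a⁻¹) := by group
          _ = w * (w * q) := by rw [h2]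
          _ = w ^ 2 * q := by rw [pow_two]; group
      rw [h4] at h3
      have : w ^ 2 * q = 1 * q := by rw [h3, one_mul]
      exact mul_right_cancel this
    · intro r hr
      exact (hc r (hQS hr)).symm
  by_contra hAnot
  -- the quotient
  set R := pPrimeCore 2 (G ⧸ Q) with hR
  have hsolQ : Group.IsSolvable (G ⧸ Q) := by
    haveI := hsol
    infer_instance
  have hRodd : Odd (Nat.card R) := by
    have := L0.pPrimeCore_coprime 2 (G ⧸ Q)
    exact Nat.coprime_two_right.1 this
  have hself : Subgroup.centralizer (R : Set (G ⧸ Q)) ≤ R := centralizer_pPrimeCore_le hsolQ (L0.pCore_quotient_pCore 2 G)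
  obtain ⟨-, hch⟩ := h.chain S.2 hVS (R := R) hRodd hself hAS hAc hA2 hAQ (Nat.card A) A le_rfl rfl
  -- the offender inequality
  have hoff : (V ⊓ Subgroup.centralizer (A : Set G)).relIndex V ≤ (A ⊓ Q).relIndex A := by
    have h1 : IsElementaryAbelian 2 ((A ⊓ Q) ⊔ V) := by
      apply H1.ea_sup (H1.ea_mono inf_le_left hAel)
      · exact H1.ea_of (fun v hv w hw => h.cent v hv w (h.le hw)) h.v2
      · intro a ha v hv
        exact (h.cent v hv a (Subgroup.mem_inf.1 ha).2).symm
    have h2 := hAmax _ (sup_le (inf_le_left.trans hAS) hVS) h1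
    have h3 : (A ⊓ V).relIndex V ≤ (A ⊓ Q).relIndex A := by
      have e1 : Nat.card ↥(V ⊔ (A ⊓ Q)) = Nat.card V * V.relIndex (A ⊓ Q) := by
        have e2 := Subgroup.relIndex_mul_relIndex ⊥ V (V ⊔ (A ⊓ Q)) bot_le le_sup_left
        rw [Subgroup.relIndex_bot_left, Subgroup.relIndex_bot_left,
          L0.relIndex_sup_of_normalizes (norm_of_normal (A ⊓ Q))] at e2
        exact e2.symm
      have e3 : V.relIndex (A ⊓ Q) * Nat.card ↥(A ⊓ V) = Nat.card ↥(A ⊓ Q) := by
        have hle : A ⊓ V ≤ A ⊓ Q := inf_le_inf_left _ h.le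
        have e4 := Subgroup.relIndex_mul_relIndex ⊥ (A ⊓ V) (A ⊓ Q) bot_le hle
        rw [Subgroup.relIndex_bot_left, Subgroup.relIndex_bot_left] at e4
        have e5 : (A ⊓ V).relIndex (A ⊓ Q) = V.relIndex (A ⊓ Q) := by
          rw [← Subgroup.inf_relIndex_right V (A ⊓ Q)]
          congr 1
          apply le_antisymm
          · exact le_inf inf_le_right (le_inf inf_le_left (inf_le_right.trans h.le))
          · exact le_inf (inf_le_right.trans inf_le_left) inf_le_left
        rw [e5] at e4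
        rw [mul_comm]; exact e4
      have e6 : (A ⊓ V).relIndex V * Nat.card ↥(A ⊓ V) = Nat.card V := by
        have e7 := Subgroup.relIndex_mul_relIndex ⊥ (A ⊓ V) V bot_le inf_le_right
        rw [Subgroup.relIndex_bot_left, Subgroup.relIndex_bot_left] at e7
        rw [mul_comm]; exact e7
      have e8 : (A ⊓ Q).relIndex A * Nat.card ↥(A ⊓ Q) = Nat.card A := by
        have e9 := Subgroup.relIndex_mul_relIndex ⊥ (A ⊓ Q) A bot_le inf_le_left
        rw [Subgroup.relIndex_bot_left, Subgroup.relIndex_bot_left] at e9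
        rw [mul_comm]; exact e9
      rw [sup_comm, e1, ← e8, ← e6] at h2
      have e10 : 0 < Nat.card ↥(A ⊓ Q) := Nat.card_pos
      have e11 : (A ⊓ V).relIndex V * Nat.card ↥(A ⊓ V) * V.relIndex (A ⊓ Q) = (A ⊓ V).relIndex V * Nat.card ↥(A ⊓ Q) := by
        rw [← e3]; ring
      rw [e11] at h2
      exact Nat.le_of_mul_le_mul_right h2 e10
    refine le_trans (Subgroup.relIndex_le_of_le_left ?_ (relIndex_ne _ _)) h3
    rintro v ⟨hvA, hvV⟩
    refine ⟨hvV, ?_⟩
    change v ∈ Subgroup.centralizer _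
    rw [Subgroup.mem_centralizer_iff]
    intro a ha
    exact hAc a ha v hvA
  obtain ⟨a, haA, haQ', ha2⟩ := hch hAnot hoff
  apply hS4
  set f := QuotientGroup.mk' Q with hf
  have hfm : ∀ g : G, f g = 1 ↔ g ∈ Q := fun g => QuotientGroup.eq_one_iff g
  obtain ⟨x', hx'R, hx'a⟩ : ∃ x' ∈ R, x' * f a ≠ f a * x' := by
    by_contra hcon
    push Not at hcon
    apply haQ'
    rw [← hfm]
    have h1 : f a ∈ R := by
      apply hself
      rw [Subgroup.mem_centralizer_iff]
      intro x hx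
      exact hcon x hx
    have h2 : (f a) ^ 2 = 1 := by rw [← map_pow, hA2 a haA, map_one]
    have h3 : (f a) ^ (Nat.card R) = 1 := by
      have := pow_card_eq_one' (x := (⟨f a, h1⟩ : ↥R))
      exact congrArg Subtype.val this
    exact eq_one_of_sq_odd hRodd h3 h2
  obtain ⟨x, rfl⟩ := QuotientGroup.mk'_surjective Q x'
  change f x ∈ R at hx'R
  change f x * f a ≠ f a * f x at hx'a
  have hRn : R.Normal := inferInstance
  have hyR : f (x * a * x⁻¹ * a⁻¹) ∈ R := by
    have e : f (x * a * x⁻¹ * a⁻¹) = f x * (f a * (f x)⁻¹ * (f a)⁻¹) := by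
      simp only [map_mul, map_inv]; group
    rw [e]
    exact R.mul_mem hx'R (hRn.conj_mem _ (R.inv_mem hx'R) (f a))
  refine h.sec (a := a) (x := x) (hA2 a haA) (hAQ a haA) hRodd ?_ ?_ ha2
  · rw [← hfm, map_pow]
    have := pow_card_eq_one' (x := (⟨_, hyR⟩ : ↥R))
    exact congrArg Subtype.val this
  · intro h1
    rw [← hfm] at h1
    apply hx'a
    have e : f (x * a * x⁻¹ * a⁻¹) = (f x * f a) * (f a * f x)⁻¹ := by
      simp only [map_mul, map_inv]; group
    rw [e] at h1
    exact mul_inv_eq_one.1 h1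

theorem card_map_of_injOn {H : Type*} [Group H] {f : G →* H} {A : Subgroup G} (h : Set.InjOn f (A : Set G)) :
    Nat.card ↥(A.map f) = Nat.card A :=
  (Nat.card_congr (Equiv.Set.imageOfInjOn f (A : Set G) h)).symm

theorem exists_lift_of_le_map {H : Type*} [Group H] {f : G →* H} {S : Subgroup G} {B : Subgroup H} (hB : B ≤ S.map f) :
    (S ⊓ B.comap f).map f = B := by
  apply le_antisymm
  · rw [Subgroup.map_le_iff_le_comap]; exact inf_le_right
  · intro b hb
    obtain ⟨s, hs, rfl⟩ := hB hb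
    exact ⟨s, ⟨hs, hb⟩, rfl⟩

theorem thompsonOf_map {H : Type*} [Group H] [Finite H] {p : ℕ} {f : G →* H} {S : Subgroup G} (hinj : Set.InjOn f (S : Set G)) :
    (thompsonSubgroupOf p S).map f = thompsonSubgroupOf p (S.map f) := by
  rw [H1.thompsonSubgroupOf_eq, H1.thompsonSubgroupOf_eq, H1.map_sSup_eq]
  have lift : ∀ B : Subgroup H, B ≤ S.map f → IsElementaryAbelian p B → IsElementaryAbelian p (S ⊓ B.comap f) ∧
      Nat.card ↥(S ⊓ B.comap f) = Nat.card B := by
    intro B hB hBe
    refine ⟨?_, ?_⟩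
    · apply H1.ea_of
      · intro x hx y hy
        apply hinj (S.mul_mem hx.1 hy.1) (S.mul_mem hy.1 hx.1)
        rw [map_mul, map_mul]
        exact H1.ea_comm hBe hx.2 hy.2
      · intro x hx
        apply hinj (S.pow_mem hx.1 p) S.one_mem
        rw [map_pow, map_one]
        exact hBe.2 _ hx.2
    · rw [← card_map_of_injOn (hinj.mono inf_le_left), exists_lift_of_le_map hB]
  apply le_antisymm
  · apply iSup₂_le
    intro A hA
    apply le_sSup
    obtain ⟨h1, h2, h3⟩ := hA
    refine ⟨Subgroup.map_mono h1, H1.ea_map f h2, ?_⟩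
    intro B hB hBe
    obtain ⟨h4, h5⟩ := lift B hB hBe
    rw [card_map_of_injOn (hinj.mono h1), ← h5]
    exact h3 _ inf_le_left h4
  · apply sSup_le
    intro B hB
    obtain ⟨h1, h2, h3⟩ := hB
    obtain ⟨h4, h5⟩ := lift B h1 h2
    have h6 : (S ⊓ B.comap f) ∈ H1.EH p S := by
      refine ⟨inf_le_left, h4, ?_⟩
      intro C hC hCe
      rw [h5, ← card_map_of_injOn (hinj.mono hC)]
      exact h3 _ (Subgroup.map_mono hC) (H1.ea_map f hCe)
    have h7 := le_iSup₂ (f := fun (A : Subgroup G) (_ : A ∈ H1.EH p S) => A.map f) _ h6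
    rw [exists_lift_of_le_map h1] at h7
    exact h7

/-- if every maximal elementary abelian subgroup of `S` lies in `O_p(G)`, the Thompson subgroup is normal -/
theorem thompsonOf_normal {p : ℕ} [hp : Fact p.Prime] (S : Sylow p G) (h : ∀ A ∈ H1.EH p (S : Subgroup G), A ≤ pCore p G) :
    (thompsonSubgroupOf p (S : Subgroup G)).Normal := by
  have hQn : (pCore p G).Normal := inferInstance
  have hQS : pCore p G ≤ (S : Subgroup G) := L0.pCore_le_sylow S
  rw [H1.thompsonSubgroupOf_eq]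
  have key : ∀ g : G, ∀ A ∈ H1.EH p (S : Subgroup G), cj g A ∈ H1.EH p (S : Subgroup G) := by
    intro g A hA
    have h1 : cj g A ≤ pCore p G := by
      have h2 : cj g (pCore p G) = pCore p G := cj_of_mem_norm (norm_of_normal (⊤ : Subgroup G) (Subgroup.mem_top g))
      rw [← h2]
      exact cj_mono (h A hA)
    refine ⟨h1.trans hQS, H1.ea_map _ hA.2.1, ?_⟩
    intro B hB hBe
    rw [card_cj]
    exact hA.2.2 B hB hBe
  constructor
  intro n hn g
  have h2 : g * n * g⁻¹ ∈ (sSup (H1.EH p (S : Subgroup G))).map (MulAut.conj g).toMonoidHom := ⟨n, hn, rfl⟩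
  rw [H1.map_sSup_eq] at h2
  refine (iSup₂_le ?_ : (⨆ A ∈ H1.EH p (S : Subgroup G), A.map (MulAut.conj g).toMonoidHom) ≤ _) h2
  intro A hA
  exact le_sSup (key g A hA)

end
end Cfsg.Agent.H6
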