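import Cfsg.Agent.H6.Functor

set_option autoImplicit false
set_option linter.unusedSectionVars false
set_option linter.unusedSimpArgs false
set_option linter.style.haveILetI false
open Cfsg

namespace Cfsg.Agent.H6

section rc
variable {G : Type*} [Group G]

/-- right conjugate of a set: `x⁻¹ A x` -/
def rc (x : G) (A : Set G) : Set G := (fun a => x⁻¹ * a * x) '' A

theorem mem_rc {x y : G} {A : Set G} : y ∈ rc x A ↔ x * y * x⁻¹ ∈ A := by
  constructor
  · rintro ⟨a, ha, rfl⟩
    simpa [mul_assoc] using ha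
  · intro h
    exact ⟨_, h, by simp [mul_assoc]⟩

theorem rc_mul (x y : G) (A : Set G) : rc (x * y) A = rc y (rc x A) := by
  ext z; simp only [mem_rc]; simp [mul_assoc]

@[simp] theorem rc_one (A : Set G) : rc 1 A = A := by
  ext z; simp [mem_rc]

@[simp] theorem rc_inv_rc (x : G) (A : Set G) : rc x⁻¹ (rc x A) = A := by
  rw [← rc_mul]; simp

@[simp] theorem rc_rc_inv (x : G) (A : Set G) : rc x (rc x⁻¹ A) = A := by
  rw [← rc_mul]; simp

theorem rc_mono {x : G} {A B : Set G} (h : A ⊆ B) : rc x A ⊆ rc x B := Set.image_mono h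

theorem rc_subgroup (x : G) (T : Subgroup G) : rc x (T : Set G) = (cj x⁻¹ T : Subgroup G) := by
  ext z; rw [mem_rc, SetLike.mem_coe, SetLike.mem_coe, mem_cj]; simp

theorem rc_norm {x : G} {T : Subgroup G} (h : x ∈ Subgroup.normalizer (T : Set G)) :
    rc x (T : Set G) = T := by
  rw [rc_subgroup, cj_of_mem_norm (Subgroup.inv_mem _ h)]

/-- exact chains of conjugations -/
inductive Ch (Step : Set G → G → Prop) : Set G → G → Prop
  | nil (A : Set G) : Ch Step A 1
  | cons {A : Set G} {x g : G} (h : Step A x) (h' : Ch Step (rc x A) g) : Ch Step A (x * g)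

variable {Step Step' : Set G → G → Prop}

theorem Ch.trans {A : Set G} {g h : G} (h1 : Ch Step A g) (h2 : Ch Step (rc g A) h) : Ch Step A (g * h) := by
  induction h1 with
  | nil A => simpa using h2
  | cons hs _ ih =>
    rw [mul_assoc]
    refine Ch.cons hs (ih ?_)
    rw [← rc_mul]; exact h2

theorem Ch.single {A : Set G} {x : G} (h : Step A x) : Ch Step A x := by
  have := Ch.cons h (Ch.nil (Step := Step) _)
  simpa using this

theorem Ch.mono {A B : Set G} {g : G} (hmono : ∀ A B x, B ⊆ A → Step A x → Step B x) (h : Ch Step A g) (hBA : B ⊆ A) :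
    Ch Step B g := by
  induction h generalizing B with
  | nil A => exact Ch.nil _
  | cons hs _ ih => exact Ch.cons (hmono _ _ _ hBA hs) (ih (rc_mono hBA))

theorem Ch.symm {A : Set G} {g : G} (hinv : ∀ A x, Step A x → Step (rc x A) x⁻¹) (h : Ch Step A g) :
    Ch Step (rc g A) g⁻¹ := by
  induction h with
  | nil A => simpa using Ch.nil (Step := Step) _
  | @cons A x g hs _ ih =>
    rw [mul_inv_rev, rc_mul]
    refine Ch.trans ih ?_
    rw [rc_inv_rc]
    exact Ch.single (hinv _ _ hs)

theorem Ch.imp {A : Set G} {g : G} (himp : ∀ A x, Step A x → Step' A x) (h : Ch Step A g) : Ch Step' A g := by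
  induction h with
  | nil A => exact Ch.nil _
  | cons hs _ ih => exact Ch.cons (himp _ _ hs) ih

theorem Ch.bind {A : Set G} {g : G} (himp : ∀ A x, Step A x → Ch Step' A x) (h : Ch Step A g) : Ch Step' A g := by
  induction h with
  | nil A => exact Ch.nil _
  | cons hs _ ih => exact (himp _ _ hs).trans ih

/-- the step relation of a conjugation family -/
def FStep (𝓕 : Set (Subgroup G)) (A : Set G) (x : G) : Prop :=
  ∃ T ∈ 𝓕, A ⊆ T ∧ x ∈ Subgroup.normalizer (T : Set G)

theorem FStep.mono {𝓕 : Set (Subgroup G)} : ∀ A B x, B ⊆ A → FStep 𝓕 A x → FStep 𝓕 B x := by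
  rintro A B x h ⟨T, hT, hA, hx⟩
  exact ⟨T, hT, h.trans hA, hx⟩

theorem FStep.symm {𝓕 : Set (Subgroup G)} : ∀ A x, FStep 𝓕 A x → FStep 𝓕 (rc x A) x⁻¹ := by
  rintro A x ⟨T, hT, hA, hx⟩
  refine ⟨T, hT, ?_, Subgroup.inv_mem _ hx⟩
  have := rc_mono (x := x) hA
  rwa [rc_norm hx] at this

/-- the form of the statements, from a chain -/
theorem Ch.toFin {𝓕 : Set (Subgroup G)} {A : Set G} {g : G} (h : Ch (FStep 𝓕) A g) :
    ∃ (n : ℕ) (T : Fin n → Subgroup G) (x : Fin n → G), (List.ofFn x).prod = g ∧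
      (∀ i, T i ∈ 𝓕) ∧ (∀ i, x i ∈ Subgroup.normalizer ((T i : Subgroup G) : Set G)) ∧
      (∀ h : 0 < n, A ⊆ T ⟨0, h⟩) ∧
      ∀ (i : Fin n) (h : i.val + 1 < n),
        (fun a => (((List.ofFn x).take (i.val + 1)).prod)⁻¹ * a * ((List.ofFn x).take (i.val + 1)).prod) '' A ⊆
          T ⟨i.val + 1, h⟩ := by
  induction h with
  | nil A =>
    refine ⟨0, Fin.elim0, Fin.elim0, by simp, fun i => i.elim0, fun i => i.elim0, fun h => absurd h (lt_irrefl 0), fun i => i.elim0⟩
  | @cons A x g hs _ ih =>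
    obtain ⟨n, T, y, hprod, hT, hy, h0, hi⟩ := ih
    obtain ⟨T0, hT0, hA, hx⟩ := hs
    refine ⟨n + 1, Fin.cons T0 T, Fin.cons x y, ?_, ?_, ?_, ?_, ?_⟩
    · rw [List.ofFn_succ]; simp [hprod]
    · intro i
      refine Fin.cases ?_ (fun j => ?_) i
      · simpa using hT0
      · simpa using hT j
    · intro i
      refine Fin.cases ?_ (fun j => ?_) i
      · simpa using hx
      · simpa using hy j
    · intro _
      exact hA
    · intro i h
      rw [List.ofFn_succ]
      have hn : 0 < n := by omega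
      have e1 : (Fin.cons T0 T : Fin (n + 1) → Subgroup G) ⟨i.val + 1, h⟩ = T ⟨i.val, by omega⟩ := rfl
      rw [e1]
      simp only [Fin.cons_zero, Fin.cons_succ, List.take_succ_cons, List.prod_cons]
      rcases Nat.eq_zero_or_pos i.val with hz | hz
      · have h0' := h0 hn
        simp only [hz, List.take_zero, List.prod_nil, mul_one]
        have e2 : T ⟨0, hn⟩ = T ⟨i.val, by omega⟩ := by congr 1; ext; exact hz.symm
        simp only [hz] at e2 ⊢
        exact h0'
      · have hi' := hi ⟨i.val - 1, by omega⟩ (by simp only; omega)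
        have e3 : i.val - 1 + 1 = i.val := by omega
        simp only [e3] at hi'
        refine subset_trans ?_ hi'
        rintro _ ⟨a, ha, rfl⟩
        refine ⟨x⁻¹ * a * x, ⟨a, ha, rfl⟩, ?_⟩
        simp [mul_assoc]

/-- the form of the statements gives a chain -/
theorem Ch.ofFin {𝓕 : Set (Subgroup G)} {A : Set G} {g : G}
    (h : ∃ (n : ℕ) (T : Fin n → Subgroup G) (x : Fin n → G), (List.ofFn x).prod = g ∧
      (∀ i, T i ∈ 𝓕) ∧ (∀ i, x i ∈ Subgroup.normalizer ((T i : Subgroup G) : Set G)) ∧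
      (∀ h : 0 < n, A ⊆ T ⟨0, h⟩) ∧
      ∀ (i : Fin n) (h : i.val + 1 < n),
        (fun a => (((List.ofFn x).take (i.val + 1)).prod)⁻¹ * a * ((List.ofFn x).take (i.val + 1)).prod) '' A ⊆
          T ⟨i.val + 1, h⟩) : Ch (FStep 𝓕) A g := by
  obtain ⟨n, T, x, hprod, hT, hx, h0, hi⟩ := h
  induction n generalizing A g with
  | zero =>
    simp at hprod
    subst hprod
    exact Ch.nil _
  | succ n ih =>
    rw [List.ofFn_succ, List.prod_cons] at hprod
    rw [← hprod]
    refine Ch.cons ⟨T 0, hT 0, h0 (Nat.succ_pos n), hx 0⟩ ?_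
    refine ih (fun i => T i.succ) (fun i => x i.succ) rfl (fun i => hT _) (fun i => hx _) ?_ ?_
    · intro hn
      have := hi 0 (by simp only [Fin.val_zero]; omega)
      simp only [Fin.val_zero, List.ofFn_succ, zero_add, List.take_succ_cons, List.take_zero, List.prod_cons,
        List.prod_nil, mul_one] at this
      exact this
    · intro i h
      have := hi i.succ (by simp only [Fin.val_succ]; omega)
      refine subset_trans ?_ this
      rintro _ ⟨_, ⟨a, ha, rfl⟩, rfl⟩
      refine ⟨a, ha, ?_⟩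
      simp only [List.ofFn_succ, Fin.val_succ, List.take_succ_cons, List.prod_cons]
      simp [mul_assoc]

theorem isConjugationFamily_iff {𝓕 : Set (Subgroup G)} {S : Subgroup G} :
    IsConjugationFamily 𝓕 S ↔ (∀ T ∈ 𝓕, T ≤ S) ∧
      ∀ (A : Set G) (g : G), A.Nonempty → A ⊆ S → rc g A ⊆ S → Ch (FStep 𝓕) A g := by
  constructor
  · rintro ⟨h1, h2⟩
    exact ⟨h1, fun A g hA hAS hg => Ch.ofFin (h2 A g hA hAS hg)⟩
  · rintro ⟨h1, h2⟩
    exact ⟨h1, fun A g hA hAS hg => Ch.toFin (h2 A g hA hAS hg)⟩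

end rc

section alperin
variable {G : Type*} [Group G] [Finite G] {p : ℕ} [hp : Fact p.Prime]

/-- **Alperin's fusion theorem**, for a family containing a fully normalized representative of every class. -/
theorem alperin (S : Sylow p G) (𝓕 : Set (Subgroup G))
    (h𝓕 : ∀ U ∈ 𝓕, U ≤ (S : Subgroup G))
    (h : ∀ T : Subgroup G, T ≤ (S : Subgroup G) → ∃ U ∈ 𝓕, (∃ g : G, cj g T = U) ∧
      ¬ p ∣ ((S : Subgroup G) ⊓ Subgroup.normalizer ((U : Subgroup G) : Set G)).relIndex
        (Subgroup.normalizer ((U : Subgroup G) : Set G)))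
    (A : Set G) (g : G) (hA : A ⊆ (S : Subgroup G)) (hg : rc g A ⊆ (S : Subgroup G)) :
    Ch (FStep 𝓕) A g := by
  -- the subgroup statement
  have main : ∀ n : ℕ, ∀ T : Subgroup G, T ≤ (S : Subgroup G) → Nat.card ↥(S : Subgroup G) - Nat.card T = n →
      ∀ g : G, cj g⁻¹ T ≤ S → Ch (FStep 𝓕) (T : Set G) g := by
    intro n
    induction n using Nat.strong_induction_on with
    | _ n ih =>
    intro T hTS hn g hg
    by_cases hTS' : T = (S : Subgroup G)
    · obtain ⟨U, hU, ⟨x, hx⟩, -⟩ := h T hTS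
      have hUS : U = (S : Subgroup G) := by
        have hUle := h𝓕 U hU
        refine Subgroup.eq_of_le_of_card_ge hUle ?_
        rw [← hx, card_cj, hTS']
      have hT𝓕 : T ∈ 𝓕 := by rw [hTS', ← hUS]; exact hU
      refine Ch.single ⟨T, hT𝓕, le_rfl, ?_⟩
      rw [← Subgroup.inv_mem_iff, mem_norm]
      refine Subgroup.eq_of_le_of_card_ge (hTS' ▸ hg : cj g⁻¹ T ≤ T) ?_
      rw [card_cj]
    · have hlt : T < (S : Subgroup G) := lt_of_le_of_ne hTS hTS'
      obtain ⟨U, hU, ⟨x, hx⟩, hUn⟩ := h T hTS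
      have hUS := h𝓕 U hU
      have hsyl : SylIn p ((S : Subgroup G) ⊓ Subgroup.normalizer ((U : Subgroup G) : Set G))
          (Subgroup.normalizer ((U : Subgroup G) : Set G)) := ⟨inf_le_right, S.2.to_le inf_le_left, hUn⟩
      -- a conjugating element with good properties for every conjugate of T in S
      have step : ∀ (T' : Subgroup G) (y : G), T' ≤ (S : Subgroup G) → Nat.card T' = Nat.card T → cj y T' = U →
          ∃ u : G, cj u⁻¹ T' = U ∧ Ch (FStep 𝓕) (T' : Set G) u := by
        intro T' y hT'S hcard hy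
        have hlt' : T' < (S : Subgroup G) := by
          refine lt_of_le_of_ne hT'S ?_
          rintro he
          apply hTS'
          refine Subgroup.eq_of_le_of_card_ge hTS ?_
          rw [← hcard, he]
        have hN := lt_inf_normalizer S.2 hlt'
        have hle : cj y ((S : Subgroup G) ⊓ Subgroup.normalizer (T' : Set G)) ≤
            Subgroup.normalizer ((U : Subgroup G) : Set G) := by
          rw [← hy, ← cj_normalizer]
          exact cj_mono inf_le_right
        obtain ⟨z, hz, hzle⟩ := hsyl.exists_conj_le (isPGroup_cj (S.2.to_le inf_le_left)) hle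
        refine ⟨(z * y)⁻¹, ?_, ?_⟩
        · rw [inv_inv, cj_mul, hy]
          exact cj_of_mem_norm hz
        · have hbig := ih (Nat.card ↥(S : Subgroup G) -
            Nat.card ↥((S : Subgroup G) ⊓ Subgroup.normalizer (T' : Set G))) ?_
            ((S : Subgroup G) ⊓ Subgroup.normalizer (T' : Set G)) inf_le_left rfl (z * y)⁻¹ ?_
          · exact hbig.mono FStep.mono hN.le
          · have h1 : Nat.card T' < Nat.card ↥((S : Subgroup G) ⊓ Subgroup.normalizer (T' : Set G)) :=
              Set.ncard_lt_ncard (SetLike.coe_ssubset_coe.2 hN) (Set.toFinite _)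
            have h2 : Nat.card ↥((S : Subgroup G) ⊓ Subgroup.normalizer (T' : Set G)) ≤ Nat.card ↥(S : Subgroup G) :=
              Subgroup.card_le_of_le inf_le_left
            omega
          · rw [inv_inv, cj_mul]
            exact hzle.trans inf_le_left
      obtain ⟨u, huU, hu⟩ := step T x hTS rfl hx
      obtain ⟨v, hvU, hv⟩ := step (cj g⁻¹ T) (x * g) hg (card_cj _ _) (by rw [cj_mul, cj_cj_inv, hx])
      have hxN : u⁻¹ * g * v ∈ Subgroup.normalizer ((U : Subgroup G) : Set G) := by
        rw [← Subgroup.inv_mem_iff, mem_norm]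
        rw [show (u⁻¹ * g * v)⁻¹ = v⁻¹ * (g⁻¹ * u) by group, cj_mul, cj_mul]
        have : cj u U = T := by rw [← huU, cj_cj_inv]
        rw [this, hvU]
      have e : g = u * ((u⁻¹ * g * v) * v⁻¹) := by group
      rw [e]
      have huset : rc u (T : Set G) = (U : Set G) := by rw [rc_subgroup, huU]
      refine hu.trans ?_
      rw [huset]
      refine (Ch.single ⟨U, hU, le_rfl, hxN⟩).trans ?_
      rw [rc_norm hxN]
      have hv' := hv.symm FStep.symm
      rw [rc_subgroup, hvU] at hv'
      exact hv'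
  have hT : A ⊆ ((S : Subgroup G) ⊓ cj g S : Subgroup G) := by
    intro a ha
    exact Subgroup.mem_inf.2 ⟨hA ha, mem_cj.2 (hg ⟨a, ha, rfl⟩)⟩
  have := main _ ((S : Subgroup G) ⊓ cj g S : Subgroup G) inf_le_left rfl g
    (by rw [cj_le_iff, inv_inv]; exact inf_le_right)
  exact this.mono FStep.mono hT

end alperin

end Cfsg.Agent.H6
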