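import Cfsg.Agent.H6.Critical4

set_option autoImplicit false
set_option linter.unusedSectionVars false
set_option linter.unusedSimpArgs false
set_option linter.unusedVariables false
set_option linter.style.haveILetI false
open Cfsg
open scoped commutatorElement

namespace Cfsg.Agent.H6

section
variable {Q : Type*} [Group Q]

/-- the data of a `2`-group with commutators and squares in `{1, z}` -/
structure EData (z : Q) : Prop where
  central : ∀ x : Q, x * z = z * x
  zz : z * z = 1
  ne : z ≠ 1
  comm : ∀ x y : Q, x * y = y * x ∨ x * y = z * (y * x)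
  sq : ∀ x : Q, x * x = 1 ∨ x * x = z
  cen : ∀ x : Q, (∀ y, x * y = y * x) → x = 1 ∨ x = z

variable {z : Q}

/-- the transvection-like automorphism -/
noncomputable def tv (h : EData z) (u : Q) (hu : u * u = z) : Q →* Q := by
  classical
  exact
  { toFun := fun x => if x * u = u * x then x else x * u
    map_one' := by simp
    map_mul' := by
      intro x y
      have hzu : u * z = z * u := h.central u
      by_cases hx : x * u = u * x
      · by_cases hy : y * u = u * y
        · have hxy : x * y * u = u * (x * y) := by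
            calc x * y * u = x * (y * u) := by group
              _ = (x * u) * y := by rw [hy]; group
              _ = u * (x * y) := by rw [hx]; group
          rw [if_pos hx, if_pos hy, if_pos hxy]
        · have hxy : ¬ x * y * u = u * (x * y) := by
            intro hc
            apply hy
            have : x * (y * u) = x * (u * y) := by
              calc x * (y * u) = x * y * u := by group
                _ = u * x * y := by rw [hc]; group
                _ = x * (u * y) := by rw [← hx]; group
            exact mul_left_cancel this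
          rw [if_pos hx, if_neg hy, if_neg hxy]
          group
      · have hx' : u * x = z * (x * u) := by
          rcases h.comm u x with h1 | h1
          · exact absurd h1.symm hx
          · exact h1
        by_cases hy : y * u = u * y
        · have hxy : ¬ x * y * u = u * (x * y) := by
            intro hc
            apply hx
            have : (x * u) * y = (u * x) * y := by
              calc (x * u) * y = x * (u * y) := by group
                _ = x * y * u := by rw [← hy]; group
                _ = (u * x) * y := by rw [hc]; group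
            exact mul_right_cancel this
          rw [if_neg hx, if_pos hy, if_neg hxy]
          calc x * y * u = x * (y * u) := by group
            _ = x * u * y := by rw [hy]; group
        · have hy' : u * y = z * (y * u) := by
            rcases h.comm u y with h1 | h1
            · exact absurd h1.symm hy
            · exact h1
          have hxy : x * y * u = u * (x * y) := by
            symm
            calc u * (x * y) = (u * x) * y := by group
              _ = z * (x * u) * y := by rw [hx']
              _ = z * x * (u * y) := by group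
              _ = z * x * (z * (y * u)) := by rw [hy']
              _ = z * (x * z) * (y * u) := by group
              _ = z * (z * x) * (y * u) := by rw [h.central x]
              _ = (z * z) * x * (y * u) := by group
              _ = x * y * u := by rw [h.zz]; group
          rw [if_neg hx, if_neg hy, if_pos hxy]
          symm
          calc x * u * (y * u) = x * (u * y) * u := by group
            _ = x * (z * (y * u)) * u := by rw [hy']
            _ = (x * z) * y * (u * u) := by group
            _ = (z * x) * y * z := by rw [h.central x, hu]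
            _ = z * (x * y * z) := by group
            _ = z * (z * (x * y)) := by rw [h.central (x * y)]
            _ = (z * z) * (x * y) := by group
            _ = x * y := by rw [h.zz, one_mul] }

theorem tv_pos (h : EData z) {u : Q} (hu : u * u = z) {x : Q} (hx : x * u = u * x) : tv h u hu x = x := by
  classical
  unfold tv
  exact if_pos hx

theorem tv_neg (h : EData z) {u : Q} (hu : u * u = z) {x : Q} (hx : ¬ x * u = u * x) : tv h u hu x = x * u := by
  classical
  unfold tv
  exact if_neg hx

theorem conj_eq (h : EData z) {u x : Q} (hx : ¬ x * u = u * x) : u * x * u⁻¹ = x * z := by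
  rcases h.comm u x with h1 | h1
  · exact absurd h1.symm hx
  · rw [h1, h.central x]; group

theorem tv_tv (h : EData z) {u : Q} (hu : u * u = z) (x : Q) : tv h u hu (tv h u hu x) = u * x * u⁻¹ := by
  by_cases hx : x * u = u * x
  · rw [tv_pos h hu hx, tv_pos h hu hx, ← hx]; group
  · rw [tv_neg h hu hx]
    have h1 : ¬ x * u * u = u * (x * u) := by
      intro hc
      apply hx
      have : x * u * u = u * x * u := by rw [hc]; group
      exact mul_right_cancel this
    rw [tv_neg h hu h1, conj_eq h hx, ← hu]; group

noncomputable def tvE (h : EData z) (u : Q) (hu : u * u = z) : MulAut Q :=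
  MulEquiv.ofBijective (tv h u hu) (by
    have hinj : Function.Injective (tv h u hu) := by
      intro x y hxy
      have h1 := congrArg (tv h u hu) hxy
      rw [tv_tv, tv_tv] at h1
      exact mul_left_cancel (mul_right_cancel h1)
    refine ⟨hinj, ?_⟩
    intro y
    refine ⟨tv h u hu (u⁻¹ * y * u), ?_⟩
    rw [tv_tv]; group)

theorem tvE_apply (h : EData z) {u : Q} (hu : u * u = z) (x : Q) : tvE h u hu x = tv h u hu x := rfl

theorem tvE_sq (h : EData z) {u : Q} (hu : u * u = z) : tvE h u hu * tvE h u hu = MulAut.conj u := by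
  ext x
  rw [MulAut.mul_apply, tvE_apply, tvE_apply, tv_tv, MulAut.conj_apply]

theorem tvE_comm (h : EData z) {u v : Q} (hu : u * u = z) (hv : v * v = z) (huv : u * v = v * u) :
    tvE h u hu * tvE h v hv = tvE h v hv * tvE h u hu := by
  ext x
  rw [MulAut.mul_apply, MulAut.mul_apply, tvE_apply, tvE_apply, tvE_apply, tvE_apply]
  have key : ∀ {a b : Q} (hab : a * b = b * a) (x : Q), x * a = a * x ↔ (x * b) * a = a * (x * b) := by
    intro a b hab x
    constructor
    · intro hx
      calc (x * b) * a = x * (b * a) := by group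
        _ = (x * a) * b := by rw [← hab]; group
        _ = a * (x * b) := by rw [hx]; group
    · intro hx
      have : (x * a) * b = (a * x) * b := by
        calc (x * a) * b = x * (a * b) := by group
          _ = (x * b) * a := by rw [hab]; group
          _ = (a * x) * b := by rw [hx]; group
      exact mul_right_cancel this
  by_cases hx : x * u = u * x
  · by_cases hy : x * v = v * x
    · rw [tv_pos h hv hy, tv_pos h hu hx, tv_pos h hv hy]
    · rw [tv_neg h hv hy, tv_pos h hu hx, tv_neg h hv hy, tv_pos h hu ((key huv x).1 hx)]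
  · by_cases hy : x * v = v * x
    · rw [tv_pos h hv hy, tv_neg h hu hx, tv_pos h hv ((key huv.symm x).1 hy)]
    · rw [tv_neg h hv hy, tv_neg h hu hx, tv_neg h hv (fun hc => hy ((key huv.symm x).2 hc)),
        tv_neg h hu (fun hc => hx ((key huv x).2 hc))]
      rw [mul_assoc, mul_assoc, huv]

theorem conj_mul_tv (h : EData z) {u : Q} (hu : u * u = z) (w : Q) :
    tvE h u hu * MulAut.conj w = MulAut.conj (tv h u hu w) * tvE h u hu := by
  ext x
  rw [MulAut.mul_apply, MulAut.mul_apply, MulAut.conj_apply, MulAut.conj_apply, tvE_apply, tvE_apply,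
    map_mul, map_mul, map_inv]

theorem conj_eq_one_iff (w : Q) : MulAut.conj w = 1 ↔ ∀ y, w * y = y * w := by
  constructor
  · intro h y
    have := congrArg (fun f : MulAut Q => f y) h
    change w * y * w⁻¹ = y at this
    exact mul_inv_eq_iff_eq_mul.1 this
  · intro h
    ext y
    change w * y * w⁻¹ = y
    rw [h y]; group

theorem tv_mod (h : EData z) {u : Q} (hu : u * u = z) (w : Q) : ∃ e : Q, (e = 1 ∨ e = u) ∧ tv h u hu w = w * e ∧
    (e = 1 → w * u = u * w) := by
  by_cases hx : w * u = u * w
  · exact ⟨1, Or.inl rfl, by rw [tv_pos h hu hx, mul_one], fun _ => hx⟩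
  · refine ⟨u, Or.inr rfl, tv_neg h hu hx, ?_⟩
    intro h1
    exfalso
    rw [h1] at hx
    exact hx (by simp)

/-- no complement to the inner automorphisms -/
theorem no_complement (h : EData z) {a b c : Q} (ha : a * a = z) (hb : b * b = z) (hc : c * c = z)
    (hab : a * b = b * a) (hac : a * c = c * a) (hbc : b * c = c * b)
    (hab' : ∃ y, ¬ a * b * y = y * (a * b)) (hac' : ∃ y, ¬ a * c * y = y * (a * c)) (hbc' : ∃ y, ¬ b * c * y = y * (b * c))
    (L : Subgroup (MulAut Q)) (hL : ∀ f : MulAut Q, ∃ w : Q, MulAut.conj w * f ∈ L)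
    (hL' : ∀ w : Q, MulAut.conj w ∈ L → MulAut.conj w = 1) : False := by
  -- choose the lifts
  have hcz : ∀ x : Q, ∀ y, x = 1 ∨ x = z → x * y = y * x := by
    rintro x y (rfl | rfl)
    · simp
    · exact (h.central y).symm
  have key1 : ∀ u : Q, ∀ hu : u * u = z, ∀ w : Q, MulAut.conj w * tvE h u hu ∈ L → ¬ w * u = u * w := by
    intro u hu w hw hwu
    have h1 := L.mul_mem hw hw
    have h2 : MulAut.conj w * tvE h u hu * (MulAut.conj w * tvE h u hu) = MulAut.conj (w * w * u) := by
      calc MulAut.conj w * tvE h u hu * (MulAut.conj w * tvE h u hu)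
          = MulAut.conj w * (tvE h u hu * MulAut.conj w) * tvE h u hu := by group
        _ = MulAut.conj w * (MulAut.conj (tv h u hu w) * tvE h u hu) * tvE h u hu := by rw [conj_mul_tv]
        _ = MulAut.conj w * MulAut.conj (tv h u hu w) * (tvE h u hu * tvE h u hu) := by group
        _ = MulAut.conj (w * w * u) := by rw [tvE_sq, tv_pos h hu hwu, ← map_mul, ← map_mul]
    rw [h2] at h1
    have h3 := hL' _ h1
    rw [conj_eq_one_iff] at h3
    -- `u` is central
    have hu' : ∀ y, u * y = y * u := by
      intro y
      have h4 := h3 y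
      have h5 : ∀ y, w * w * y = y * (w * w) := fun y => hcz _ y (h.sq w)
      have : w * w * (u * y) = w * w * (y * u) := by
        calc w * w * (u * y) = w * w * u * y := by group
          _ = y * (w * w * u) := h4
          _ = (y * (w * w)) * u := by group
          _ = w * w * (y * u) := by rw [← h5]; group
      exact mul_left_cancel this
    rcases h.cen u hu' with h4 | h4
    · rw [h4, one_mul] at hu; exact h.ne hu.symm
    · rw [h4, h.zz] at hu; exact h.ne hu.symm
  have key2 : ∀ u v : Q, ∀ hu : u * u = z, ∀ hv : v * v = z, u * v = v * u → (∃ y, ¬ u * v * y = y * (u * v)) →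
      ∀ w w' : Q, MulAut.conj w * tvE h u hu ∈ L → MulAut.conj w' * tvE h v hv ∈ L → w * v = v * w := by
    intro u v hu hv huv hne w w' hw hw'
    have e1 : MulAut.conj w * tvE h u hu * (MulAut.conj w' * tvE h v hv) =
        MulAut.conj (w * tv h u hu w') * (tvE h u hu * tvE h v hv) := by
      calc MulAut.conj w * tvE h u hu * (MulAut.conj w' * tvE h v hv)
          = MulAut.conj w * (tvE h u hu * MulAut.conj w') * tvE h v hv := by group
        _ = MulAut.conj w * (MulAut.conj (tv h u hu w') * tvE h u hu) * tvE h v hv := by rw [conj_mul_tv]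
        _ = _ := by rw [map_mul]; group
    have e2 : MulAut.conj w' * tvE h v hv * (MulAut.conj w * tvE h u hu) =
        MulAut.conj (w' * tv h v hv w) * (tvE h u hu * tvE h v hv) := by
      calc MulAut.conj w' * tvE h v hv * (MulAut.conj w * tvE h u hu)
          = MulAut.conj w' * (tvE h v hv * MulAut.conj w) * tvE h u hu := by group
        _ = MulAut.conj w' * (MulAut.conj (tv h v hv w) * tvE h v hv) * tvE h u hu := by rw [conj_mul_tv]
        _ = _ := by rw [tvE_comm h hu hv huv, map_mul]; group
    have h1 : (MulAut.conj w * tvE h u hu * (MulAut.conj w' * tvE h v hv)) *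
        (MulAut.conj w' * tvE h v hv * (MulAut.conj w * tvE h u hu))⁻¹ ∈ L :=
      L.mul_mem (L.mul_mem hw hw') (L.inv_mem (L.mul_mem hw' hw))
    have e3 : (MulAut.conj w * tvE h u hu * (MulAut.conj w' * tvE h v hv)) *
        (MulAut.conj w' * tvE h v hv * (MulAut.conj w * tvE h u hu))⁻¹ =
        MulAut.conj ((w * tv h u hu w') * (w' * tv h v hv w)⁻¹) := by
      rw [e1, e2, map_mul MulAut.conj (w * tv h u hu w'), map_inv]; group
    rw [e3] at h1
    have h3 := hL' _ h1
    rw [conj_eq_one_iff] at h3
    obtain ⟨e, he, hee, he1⟩ := tv_mod h hu w'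
    obtain ⟨f, hf, hfe, hf1⟩ := tv_mod h hv w
    rw [hee, hfe] at h3
    -- `e * f⁻¹` is central
    have hef : ∀ y, e * f⁻¹ * y = y * (e * f⁻¹) := by
      have hcom : w * w' * e * (w' * w * f)⁻¹ = (w * w' * w⁻¹ * w'⁻¹) * ((w' * w) * (e * f⁻¹) * (w' * w)⁻¹) := by group
      have hww : ∀ y, (w * w' * w⁻¹ * w'⁻¹) * y = y * (w * w' * w⁻¹ * w'⁻¹) := by
        intro y
        apply hcz
        rcases h.comm w w' with h4 | h4
        · left; rw [h4]; group
        · right
          calc w * w' * w⁻¹ * w'⁻¹ = z * (w' * w) * w⁻¹ * w'⁻¹ := by rw [h4]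
            _ = z := by group
      have h5 : ∀ y, ((w' * w) * (e * f⁻¹) * (w' * w)⁻¹) * y = y * ((w' * w) * (e * f⁻¹) * (w' * w)⁻¹) := by
        intro y
        have h6 := h3 y
        have h7 : w * (w' * e) * (w' * (w * f))⁻¹ = w * w' * e * (w' * w * f)⁻¹ := by group
        rw [h7, hcom] at h6
        have : (w * w' * w⁻¹ * w'⁻¹) * (((w' * w) * (e * f⁻¹) * (w' * w)⁻¹) * y) =
            (w * w' * w⁻¹ * w'⁻¹) * (y * ((w' * w) * (e * f⁻¹) * (w' * w)⁻¹)) := by
          calc (w * w' * w⁻¹ * w'⁻¹) * (((w' * w) * (e * f⁻¹) * (w' * w)⁻¹) * y)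
              = (w * w' * w⁻¹ * w'⁻¹) * ((w' * w) * (e * f⁻¹) * (w' * w)⁻¹) * y := by group
            _ = y * ((w * w' * w⁻¹ * w'⁻¹) * ((w' * w) * (e * f⁻¹) * (w' * w)⁻¹)) := h6
            _ = (y * (w * w' * w⁻¹ * w'⁻¹)) * ((w' * w) * (e * f⁻¹) * (w' * w)⁻¹) := by group
            _ = _ := by rw [← hww]; group
        exact mul_left_cancel this
      intro y
      have h6 := h5 ((w' * w) * y * (w' * w)⁻¹)
      have : (w' * w) * (e * f⁻¹ * y) * (w' * w)⁻¹ = (w' * w) * (y * (e * f⁻¹)) * (w' * w)⁻¹ := by
        calc (w' * w) * (e * f⁻¹ * y) * (w' * w)⁻¹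
            = ((w' * w) * (e * f⁻¹) * (w' * w)⁻¹) * ((w' * w) * y * (w' * w)⁻¹) := by group
          _ = _ := h6
          _ = _ := by group
      exact mul_left_cancel (mul_right_cancel this)
    -- case analysis
    by_contra hwv
    have hf2 : f = v := by
      rcases hf with hf | hf
      · exact absurd (hf1 hf) hwv
      · exact hf
    subst hf2
    rcases he with he | he
    · -- `f⁻¹` central
      subst he
      have h6 : ∀ y, f * y = y * f := by
        intro y
        have := hef y
        rw [one_mul] at this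
        have h7 : f * (f⁻¹ * y) * f = f * (y * f⁻¹) * f := by rw [this]
        have e4 : f * (f⁻¹ * y) * f = y * f := by group
        have e5 : f * (y * f⁻¹) * f = f * y := by group
        rw [e4, e5] at h7
        exact h7.symm
      exact hwv (h6 w).symm
    · subst he
      obtain ⟨y, hy⟩ := hne
      apply hy
      -- `e * f = (e * f⁻¹) * f^2`
      have e6 : e * f = (e * f⁻¹) * z := by rw [← hv]; group
      rw [e6]
      calc e * f⁻¹ * z * y = (e * f⁻¹) * (z * y) := by group
        _ = (e * f⁻¹ * y) * z := by rw [← h.central y]; group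
        _ = y * (e * f⁻¹ * z) := by rw [hef y]; group
  -- the four elements
  set d := a * b * c with hd
  have hdd : d * d = z := by
    calc a * b * c * (a * b * c) = a * b * (c * a) * b * c := by group
      _ = a * b * (a * c) * b * c := by rw [hac]
      _ = a * (b * a) * (c * b) * c := by group
      _ = a * (a * b) * (b * c) * c := by rw [hab, hbc]
      _ = (a * a) * (b * b) * (c * c) := by group
      _ = z * z * z := by rw [ha, hb, hc]
      _ = z := by rw [h.zz, one_mul]
  have had : a * d = d * a :=
    (((Commute.refl a).mul_right (show Commute a b from hab)).mul_right (show Commute a c from hac)).eq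
  obtain ⟨wa, hwa⟩ := hL (tvE h a ha)
  obtain ⟨wb, hwb⟩ := hL (tvE h b hb)
  obtain ⟨wc, hwc⟩ := hL (tvE h c hc)
  obtain ⟨wd, hwd⟩ := hL (tvE h d hdd)
  have h1 := key2 a b ha hb hab hab' wa wb hwa hwb
  have h2 := key2 a c ha hc hac hac' wa wc hwa hwc
  have h3 : wa * d = d * wa := by
    refine key2 a d ha hdd had ?_ wa wd hwa hwd
    obtain ⟨y, hy⟩ := hbc'
    refine ⟨y, fun hcon => hy ?_⟩
    have e : a * d = z * (b * c) := by rw [hd, ← ha]; group
    rw [e] at hcon
    have : z * (b * c * y) = z * (y * (b * c)) := by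
      calc z * (b * c * y) = z * (b * c) * y := by group
        _ = y * (z * (b * c)) := hcon
        _ = (y * z) * (b * c) := by group
        _ = z * (y * (b * c)) := by rw [h.central y]; group
    exact mul_left_cancel this
  apply key1 a ha wa hwa
  have e : a = d * (b * c)⁻¹ := by rw [hd]; group
  have h4 : Commute wa (b * c) := (show Commute wa b from h1).mul_right (show Commute wa c from h2)
  have h5 : Commute wa (d * (b * c)⁻¹) := (show Commute wa d from h3).mul_right h4.inv_right
  rw [← e] at h5
  exact h5

/-! ### existence of the elements -/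

/-- one step of the central decomposition -/
theorem edata_step (h : EData z) {C : Subgroup Q} {a y : Q} (ha : a ∈ C) (hy : y ∈ C) (hay : ¬ a * y = y * a)
    {x : Q} (hx : x ∈ C) : ∃ e, (e = 1 ∨ e = a ∨ e = y ∨ e = a * y) ∧
      e⁻¹ * x ∈ C ⊓ Subgroup.centralizer {a} ⊓ Subgroup.centralizer {y} := by
  have hya : y * a = z * (a * y) := by
    rcases h.comm y a with h1 | h1
    · exact absurd h1.symm hay
    · exact h1
  have hay' : a * y = z * (y * a) := by
    rcases h.comm a y with h1 | h1
    · exact absurd h1 hay
    · exact h1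
  -- commutation signs
  have hsign : ∀ u v w : Q, u * w = z * (w * u) → v * w = z * (w * v) → (u * v) * w = w * (u * v) := by
    intro u v w hu hv
    calc (u * v) * w = u * (v * w) := by group
      _ = u * (z * (w * v)) := by rw [hv]
      _ = (u * z) * (w * v) := by group
      _ = (z * u) * (w * v) := by rw [h.central u]
      _ = z * (u * w) * v := by group
      _ = z * (z * (w * u)) * v := by rw [hu]
      _ = (z * z) * (w * (u * v)) := by group
      _ = w * (u * v) := by rw [h.zz, one_mul]
  have hinv : ∀ u w : Q, u * w = z * (w * u) → u⁻¹ * w = z * (w * u⁻¹) := by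
    intro u w hu
    have h1 : w * u⁻¹ = z * (u⁻¹ * w) := by
      calc w * u⁻¹ = u⁻¹ * (u * w) * u⁻¹ := by group
        _ = u⁻¹ * (z * (w * u)) * u⁻¹ := by rw [hu]
        _ = (u⁻¹ * z) * w := by group
        _ = z * (u⁻¹ * w) := by rw [h.central u⁻¹]; group
    rw [h1, ← mul_assoc, h.zz, one_mul]
  have hmem : ∀ e : Q, e ∈ C → (e⁻¹ * x) * a = a * (e⁻¹ * x) → (e⁻¹ * x) * y = y * (e⁻¹ * x) →
      e⁻¹ * x ∈ C ⊓ Subgroup.centralizer {a} ⊓ Subgroup.centralizer {y} := by
    intro e he h1 h2
    refine ⟨⟨C.mul_mem (C.inv_mem he) hx, ?_⟩, ?_⟩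
    · exact Subgroup.mem_centralizer_singleton_iff.2 h1
    · exact Subgroup.mem_centralizer_singleton_iff.2 h2
  have hcc : ∀ u v w : Q, u * w = w * u → v * w = w * v → (u * v) * w = w * (u * v) := by
    intro u v w hu hv
    exact ((show Commute u w from hu).mul_left (show Commute v w from hv)).eq
  have hci : ∀ u w : Q, u * w = w * u → u⁻¹ * w = w * u⁻¹ := fun u w hu => (show Commute u w from hu).inv_left.eq
  by_cases hxa : x * a = a * x
  · by_cases hxy : x * y = y * x
    · exact ⟨1, Or.inl rfl, hmem 1 C.one_mem (by simpa using hxa) (by simpa using hxy)⟩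
    · have hxy' : x * y = z * (y * x) := by
        rcases h.comm x y with h1 | h1
        · exact absurd h1 hxy
        · exact h1
      refine ⟨a, Or.inr (Or.inl rfl), hmem a ha ?_ ?_⟩
      · exact hcc _ _ _ (by group) hxa
      · exact hsign _ _ _ (hinv _ _ hay') hxy'
  · have hxa' : x * a = z * (a * x) := by
      rcases h.comm x a with h1 | h1
      · exact absurd h1 hxa
      · exact h1
    by_cases hxy : x * y = y * x
    · refine ⟨y, Or.inr (Or.inr (Or.inl rfl)), hmem y hy ?_ ?_⟩
      · exact hsign _ _ _ (hinv _ _ hya) hxa'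
      · exact hcc _ _ _ (by group) hxy
    · have hxy' : x * y = z * (y * x) := by
        rcases h.comm x y with h1 | h1
        · exact absurd h1 hxy
        · exact h1
      have e1 : (a * y) * a = z * (a * (a * y)) := by
        calc (a * y) * a = a * (y * a) := by group
          _ = a * (z * (a * y)) := by rw [hya]
          _ = (a * z) * (a * y) := by group
          _ = z * (a * (a * y)) := by rw [h.central a]; group
      have e2 : (a * y) * y = z * (y * (a * y)) := by
        calc (a * y) * y = (z * (y * a)) * y := by rw [hay']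
          _ = z * (y * (a * y)) := by group
      refine ⟨a * y, Or.inr (Or.inr (Or.inr rfl)), hmem _ (C.mul_mem ha hy) ?_ ?_⟩
      · exact hsign _ _ _ (hinv _ _ e1) hxa'
      · exact hsign _ _ _ (hinv _ _ e2) hxy'

theorem edata_card [Finite Q] (h : EData z) {C : Subgroup Q} {a y : Q} (ha : a ∈ C) (hy : y ∈ C) (hay : ¬ a * y = y * a) :
    Nat.card C ≤ 4 * Nat.card ↥(C ⊓ Subgroup.centralizer {a} ⊓ Subgroup.centralizer {y} : Subgroup Q) := by
  set D := C ⊓ Subgroup.centralizer {a} ⊓ Subgroup.centralizer {y} with hD
  have hsub : (C : Set Q) ⊆ ((D : Set Q) ∪ ((a * ·) '' (D : Set Q))) ∪ (((y * ·) '' (D : Set Q)) ∪ ((a * y * ·) '' (D : Set Q))) := by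
    intro x hx
    obtain ⟨e, he, hm⟩ := edata_step h ha hy hay hx
    rcases he with rfl | rfl | rfl | rfl
    · left; left
      rw [inv_one, one_mul] at hm
      exact hm
    · left; right; exact ⟨_, hm, by simp⟩
    · right; left; exact ⟨_, hm, by simp⟩
    · right; right; exact ⟨_, hm, by simp [mul_assoc]⟩
  have h1 : Nat.card C = (C : Set Q).ncard := rfl
  have h2 : Nat.card D = (D : Set Q).ncard := rfl
  rw [h1, h2]
  have h3 := Set.ncard_le_ncard hsub (Set.toFinite _)
  have h4 := Set.ncard_union_le ((D : Set Q) ∪ ((a * ·) '' (D : Set Q))) (((y * ·) '' (D : Set Q)) ∪ ((a * y * ·) '' (D : Set Q)))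
  have h5 := Set.ncard_union_le (D : Set Q) ((a * ·) '' (D : Set Q))
  have h6 := Set.ncard_union_le ((y * ·) '' (D : Set Q)) ((a * y * ·) '' (D : Set Q))
  have h7 := Set.ncard_image_le (f := (a * ·)) (Set.toFinite (D : Set Q))
  have h8 := Set.ncard_image_le (f := (y * ·)) (Set.toFinite (D : Set Q))
  have h9 := Set.ncard_image_le (f := (a * y * ·)) (Set.toFinite (D : Set Q))
  omega

/-- the centre condition -/
def PC (z : Q) (C : Subgroup Q) : Prop := ∀ x ∈ C, (∀ c ∈ C, x * c = c * x) → x = 1 ∨ x = z

theorem edata_pc (h : EData z) {C : Subgroup Q} (hC : PC z C) {a y : Q} (ha : a ∈ C) (hy : y ∈ C)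
    (hay : ¬ a * y = y * a) : PC z (C ⊓ Subgroup.centralizer {a} ⊓ Subgroup.centralizer {y}) := by
  intro x hx hxD
  obtain ⟨hx1, hxy⟩ := Subgroup.mem_inf.1 hx
  obtain ⟨hxC, hxa⟩ := Subgroup.mem_inf.1 hx1
  rw [Subgroup.mem_centralizer_singleton_iff] at hxy hxa
  apply hC x hxC
  intro c hc
  obtain ⟨e, he, hm⟩ := edata_step h ha hy hay hc
  have h1 : Commute x (e⁻¹ * c) := hxD _ hm
  have h2 : Commute x e := by
    rcases he with rfl | rfl | rfl | rfl
    · exact Commute.one_right _
    · exact hxa
    · exact hxy
    · exact (show Commute x a from hxa).mul_right (show Commute x y from hxy)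
  have h3 := h2.mul_right h1
  rw [mul_inv_cancel_left] at h3
  exact h3

theorem pc_card [Finite Q] (h : EData z) {C : Subgroup Q} (hC : PC z C) (hcard : 2 < Nat.card C) :
    ∃ a ∈ C, a * a = z ∧ ∃ y ∈ C, ¬ a * y = y * a := by
  by_contra hcon
  push Not at hcon
  -- every element has square one
  have hsq : ∀ a ∈ C, a * a = 1 := by
    intro a ha
    rcases h.sq a with h1 | h1
    · exact h1
    · rcases hC a ha (hcon a ha h1) with h2 | h2
      · rw [h2]; simp
      · rw [h2]; exact h.zz
  have hab : ∀ a ∈ C, ∀ b ∈ C, a * b = b * a := by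
    intro a ha b hb
    have h1 := hsq a ha
    have h2 := hsq b hb
    have h3 := hsq _ (C.mul_mem ha hb)
    calc a * b = (a * a) * (a * b) * (b * b) := by rw [h1, h2]; simp
      _ = a * (a * (a * b) * b) * b := by group
      _ = b * a := by
        have h4 : a⁻¹ = a := inv_eq_of_mul_eq_one_left h1
        have h5 : b⁻¹ = b := inv_eq_of_mul_eq_one_left h2
        have h6 : (a * b)⁻¹ = a * b := inv_eq_of_mul_eq_one_left h3
        calc a * (a * (a * b) * b) * b = (a * a) * (a * b) * (b * b) := by group
          _ = (a * b)⁻¹ := by rw [h1, h2, h6]; simp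
          _ = b⁻¹ * a⁻¹ := by group
          _ = b * a := by rw [h4, h5]
  have hsub : (C : Set Q) ⊆ {1, z} := by
    intro x hx
    rcases hC x hx (fun c hc => hab x hx c hc) with h1 | h1
    · left; exact h1
    · right; exact h1
  have h1 := Set.ncard_le_ncard hsub (Set.toFinite _)
  have h2 : Nat.card C = (C : Set Q).ncard := rfl
  have h3 : ({1, z} : Set Q).ncard ≤ 2 := by
    refine (Set.ncard_insert_le _ _).trans ?_
    rw [Set.ncard_singleton]
  omega

theorem no_complement_of_card [Finite Q] (h : EData z) (hcard : 33 ≤ Nat.card Q) (L : Subgroup (MulAut Q))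
    (hL : ∀ f : MulAut Q, ∃ w : Q, MulAut.conj w * f ∈ L)
    (hL' : ∀ w : Q, MulAut.conj w ∈ L → MulAut.conj w = 1) : False := by
  have hP0 : PC z (⊤ : Subgroup Q) := fun x _ hx => h.cen x (fun y => hx y (Subgroup.mem_top _))
  have hc0 : Nat.card (⊤ : Subgroup Q) = Nat.card Q := Subgroup.card_top
  obtain ⟨a, ha, haz, y1, hy1, hay1⟩ := pc_card h hP0 (by omega)
  have hc1 := edata_card h ha hy1 hay1
  have hP1 := edata_pc h hP0 ha hy1 hay1
  set C1 := (⊤ : Subgroup Q) ⊓ Subgroup.centralizer {a} ⊓ Subgroup.centralizer {y1} with hC1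
  obtain ⟨b, hb, hbz, y2, hy2, hby2⟩ := pc_card h hP1 (by omega)
  have hc2 := edata_card h hb hy2 hby2
  have hP2 := edata_pc h hP1 hb hy2 hby2
  set C2 := C1 ⊓ Subgroup.centralizer {b} ⊓ Subgroup.centralizer {y2} with hC2
  obtain ⟨c, hc, hcz, -, -, -⟩ := pc_card h hP2 (by omega)
  obtain ⟨hc', hcy2⟩ := Subgroup.mem_inf.1 hc
  obtain ⟨hcC1, hcb⟩ := Subgroup.mem_inf.1 hc'
  have hC1mem : ∀ x ∈ C1, x * a = a * x ∧ x * y1 = y1 * x := by
    intro x hx
    obtain ⟨hx', hxy⟩ := Subgroup.mem_inf.1 hx
    obtain ⟨-, hxa⟩ := Subgroup.mem_inf.1 hx'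
    exact ⟨Subgroup.mem_centralizer_singleton_iff.1 hxa, Subgroup.mem_centralizer_singleton_iff.1 hxy⟩
  rw [Subgroup.mem_centralizer_singleton_iff] at hcy2 hcb
  have hne : ∀ u v y : Q, ¬ u * y = y * u → v * y = y * v → ∃ y, ¬ u * v * y = y * (u * v) := by
    intro u v y hu hv
    refine ⟨y, fun hcon => hu ?_⟩
    have : (u * y) * v = (y * u) * v := by
      calc (u * y) * v = u * (v * y) := by rw [hv]; group
        _ = u * v * y := by group
        _ = (y * u) * v := by rw [hcon]; group
    exact mul_right_cancel this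
  exact no_complement h haz hbz hcz (hC1mem b hb).1.symm (hC1mem c hcC1).1.symm hcb.symm
    (hne a b y1 hay1 (hC1mem b hb).2) (hne a c y1 hay1 (hC1mem c hcC1).2) (hne b c y2 hby2 hcy2) L hL hL'

end

section
variable {Q : Type*} [Group Q] [Finite Q]

theorem edata_of_extraspecial (hQ : IsExtraspecial 2 Q) : ∃ z : Q, EData z := by
  obtain ⟨⟨hp, hfr, hcom⟩, hcard⟩ := hQ
  haveI : Fact (Nat.Prime 2) := ⟨Nat.prime_two⟩
  obtain ⟨z, hz, huniq⟩ := (Nat.card_eq_two_iff' (1 : ↥(Subgroup.center Q))).1 hcard
  have hcen : ∀ x ∈ Subgroup.center Q, x = 1 ∨ x = (z : Q) := by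
    intro x hx
    by_cases h : x = 1
    · exact Or.inl h
    · right
      have := huniq ⟨x, hx⟩ (fun h' => h (congrArg Subtype.val h'))
      exact congrArg Subtype.val this
  have hzne : (z : Q) ≠ 1 := fun h => hz (Subtype.ext h)
  have hcomm : ∀ x y : Q, ⁅x, y⁆ ∈ Subgroup.center Q := by
    intro x y
    rw [← hcom]
    exact Subgroup.commutator_mem_commutator (Subgroup.mem_top _) (Subgroup.mem_top _)
  refine ⟨z, ⟨fun x => Subgroup.mem_center_iff.1 z.2 x, ?_, hzne, ?_, ?_, ?_⟩⟩
  · rcases hcen _ (Subgroup.mul_mem _ z.2 z.2) with h | h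
    · exact h
    · exact absurd (mul_eq_left.1 h) hzne
  · intro x y
    rcases hcen _ (hcomm x y) with h | h
    · left
      exact commutatorElement_eq_one_iff_mul_comm.1 h
    · right
      rw [← h, commutatorElement_def]; group
  · intro x
    have h1 : x ^ 2 ∈ Subgroup.center Q := by rw [← hfr]; exact pow_mem_frattini hp x
    rw [pow_two] at h1
    exact hcen _ h1
  · intro x hx
    exact hcen x (Subgroup.mem_center_iff.2 (fun y => (hx y).symm))

end
end Cfsg.Agent.H6
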