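import Cfsg.Agent.H6.Repl

/-! Involutions fixing exactly one point -/

set_option autoImplicit false
set_option linter.unusedSectionVars false
open Cfsg Subgroup

namespace Cfsg.Agent.H6

section
variable {G : Type*} [Group G]

/-- parity of a set with an involution having exactly one fixed point -/
theorem odd_of_invol {α : Type*} [DecidableEq α] (s : Finset α) (f : α → α) (hf : ∀ a ∈ s, f a ∈ s) (hff : ∀ a ∈ s, f (f a) = a)
    (a0 : α) (h0 : a0 ∈ s) (hu : ∀ a ∈ s, f a = a ↔ a = a0) : Odd s.card := by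
  have h1 : ((s.erase a0).card : ZMod 2) = 0 := by
    rw [Finset.card_eq_sum_ones, Nat.cast_sum]
    refine Finset.sum_involution (fun a _ => f a) ?_ ?_ ?_ ?_
    · intro a _
      have : ((1 : ℕ) : ZMod 2) + ((1 : ℕ) : ZMod 2) = 0 := by decide
      exact this
    · intro a ha _ he
      rw [Finset.mem_erase] at ha
      exact ha.1 ((hu a ha.2).1 he)
    · intro a ha
      rw [Finset.mem_erase] at ha ⊢
      refine ⟨fun he => ha.1 ?_, hf a ha.2⟩
      have h2 := hff a ha.2
      rw [he, (hu a0 h0).2 rfl] at h2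
      exact h2.symm
    · intro a ha
      rw [Finset.mem_erase] at ha
      exact hff a ha.2
  rw [ZMod.natCast_eq_zero_iff_even] at h1
  have h2 := Finset.card_erase_add_one h0
  rw [← h2]
  exact h1.add_one

/-- an odd set with an involution has a fixed point -/
theorem exists_fixed_of_odd {α : Type*} [DecidableEq α] (s : Finset α) (f : α → α) (hf : ∀ a ∈ s, f a ∈ s)
    (hff : ∀ a ∈ s, f (f a) = a) (h : Odd s.card) : ∃ a ∈ s, f a = a := by
  by_contra hcon
  push Not at hcon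
  have h1 : ((s).card : ZMod 2) = 0 := by
    rw [Finset.card_eq_sum_ones, Nat.cast_sum]
    refine Finset.sum_involution (fun a _ => f a) ?_ ?_ hf hff
    · intro a _
      have : ((1 : ℕ) : ZMod 2) + ((1 : ℕ) : ZMod 2) = 0 := by decide
      exact this
    · intro a ha _ he
      exact hcon a ha he
  rw [ZMod.natCast_eq_zero_iff_even] at h1
  exact (Nat.not_odd_iff_even.2 h1) h

theorem refl_conj {z y y' : G} (hy : IsConj z y) (hy' : IsConj z y') (hyy : y * y = 1) (hyy' : y' * y' = 1) (j : ℕ) :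
    IsConj z ((y * y') ^ j * y) := by
  have hi : y⁻¹ = y := inv_eq_of_mul_eq_one_right hyy
  have hi' : y'⁻¹ = y' := inv_eq_of_mul_eq_one_right hyy'
  induction j using Nat.strong_induction_on with
  | _ j ih =>
  rcases j with _ | _ | j
  · simpa using hy
  · refine hy'.trans (isConj_iff.2 ⟨y, ?_⟩)
    rw [hi, zero_add, pow_one]
  · refine (ih j (by omega)).trans (isConj_iff.2 ⟨y * y', ?_⟩)
    rw [mul_inv_rev, hi, hi']
    calc y * y' * ((y * y') ^ j * y) * (y' * y) = ((y * y') * (y * y') ^ j) * (y * y') * y := by group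
      _ = (y * y') ^ (j + 1 + 1) * y := by rw [pow_succ, pow_succ']

variable [Finite G]

/-- `|C| = |Ω| m` etc. -/
theorem iso_count (z : G) (H : Subgroup G) (h0 : ∀ q : G ⧸ H, z • q = q ↔ q = QuotientGroup.mk 1) [Fintype G] [Fintype (G ⧸ H)]
    [DecidableEq G] [DecidableEq (G ⧸ H)] [DecidablePred (fun y : G => IsConj z y)] :
    (∀ q : G ⧸ H, (Finset.univ.filter fun y : G => IsConj z y ∧ y • q = q).card =
      (Finset.univ.filter fun y : G => IsConj z y ∧ y • (QuotientGroup.mk 1 : G ⧸ H) = QuotientGroup.mk 1).card) ∧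
    (Finset.univ.filter fun y : G => IsConj z y).card = Fintype.card (G ⧸ H) *
      (Finset.univ.filter fun y : G => IsConj z y ∧ y • (QuotientGroup.mk 1 : G ⧸ H) = QuotientGroup.mk 1).card := by
  have h1 : ∀ q : G ⧸ H, (Finset.univ.filter fun y : G => IsConj z y ∧ y • q = q).card =
      (Finset.univ.filter fun y : G => IsConj z y ∧ y • (QuotientGroup.mk 1 : G ⧸ H) = QuotientGroup.mk 1).card := by
    intro q
    obtain ⟨g, rfl⟩ := QuotientGroup.mk_surjective q
    refine Finset.card_bij' (fun y _ => g⁻¹ * y * g) (fun y _ => g * y * g⁻¹) ?_ ?_ ?_ ?_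
    · intro y hy
      rw [Finset.mem_filter] at hy ⊢
      refine ⟨Finset.mem_univ _, hy.2.1.trans (isConj_iff.2 ⟨g⁻¹, by group⟩), ?_⟩
      have h2 := hy.2.2
      rw [MulAction.Quotient.smul_mk, QuotientGroup.eq] at h2 ⊢
      rw [smul_eq_mul] at h2 ⊢
      have e : (g⁻¹ * y * g * 1)⁻¹ * 1 = (y * g)⁻¹ * g := by group
      rw [e]; exact h2
    · intro y hy
      rw [Finset.mem_filter] at hy ⊢
      refine ⟨Finset.mem_univ _, hy.2.1.trans (isConj_iff.2 ⟨g, rfl⟩), ?_⟩
      have h2 := hy.2.2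
      rw [MulAction.Quotient.smul_mk, QuotientGroup.eq] at h2 ⊢
      rw [smul_eq_mul] at h2 ⊢
      have e : (g * y * g⁻¹ * g)⁻¹ * g = (y * 1)⁻¹ * 1 := by group
      rw [e]; exact h2
    · intro y _; group
    · intro y _; group
  refine ⟨h1, ?_⟩
  have h2 : (Finset.univ.filter fun y : G => IsConj z y).card =
      ∑ q : G ⧸ H, (Finset.univ.filter fun y : G => IsConj z y ∧ y • q = q).card := by
    have h3 : ∀ y ∈ (Finset.univ.filter fun y : G => IsConj z y), ∃ q : G ⧸ H, ∀ q', y • q' = q' ↔ q' = q := by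
      intro y hy
      rw [Finset.mem_filter] at hy
      obtain ⟨c, hc⟩ := isConj_iff.1 hy.2
      refine ⟨c • (QuotientGroup.mk 1 : G ⧸ H), fun q' => ?_⟩
      rw [← hc, mul_smul, mul_smul, smul_eq_iff_eq_inv_smul, h0, inv_smul_eq_iff]
    choose! pt hpt using h3
    rw [Finset.card_eq_sum_card_fiberwise (f := pt) (t := Finset.univ) (fun y _ => Finset.mem_univ _)]
    refine Finset.sum_congr rfl fun q _ => ?_
    congr 1
    ext y
    simp only [Finset.mem_filter, Finset.mem_univ, true_and]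
    constructor
    · rintro ⟨hy, rfl⟩
      exact ⟨hy, (hpt y (by simpa using hy) _).2 rfl⟩
    · rintro ⟨hy, hq⟩
      exact ⟨hy, ((hpt y (by simpa using hy) _).1 hq).symm⟩
  rw [h2, Finset.sum_congr rfl fun q _ => h1 q, Finset.sum_const, Finset.card_univ, smul_eq_mul]

theorem fix_iff {H : Subgroup G} {y g : G} : y • (QuotientGroup.mk g : G ⧸ H) = QuotientGroup.mk g ↔ y ∈ H.map (MulAut.conj g).toMonoidHom := by
  rw [MulAction.Quotient.smul_mk, QuotientGroup.eq, smul_eq_mul]
  have h1 : y ∈ H.map (MulAut.conj g).toMonoidHom ↔ g⁻¹ * y * g ∈ H := mem_cj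
  rw [h1, ← inv_mem_iff (x := g⁻¹ * y * g)]
  have e : (y * g)⁻¹ * g = (g⁻¹ * y * g)⁻¹ := by group
  rw [e]

theorem mk_eq_one {H : Subgroup G} {g : G} : (QuotientGroup.mk g : G ⧸ H) = QuotientGroup.mk 1 ↔ g ∈ H := by
  rw [QuotientGroup.eq, mul_one, inv_mem_iff]

theorem iso_even {z : G} {H : Subgroup G} 
    (h0 : ∀ q : G ⧸ H, z • q = q ↔ q = QuotientGroup.mk 1)
    (h1 : ∀ t, IsConj z t → t ≠ z → t * z = z * t → ∀ q : G ⧸ H, (z * t) • q = q ↔ q = QuotientGroup.mk 1)
    {y t : G} (hy : IsConj z y) (ht : IsConj z t) (hty : t ≠ y) (hc : t * y = y * t) (q : G ⧸ H) :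
    (y * t) • q = q ↔ y • q = q := by
  obtain ⟨c, rfl⟩ := isConj_iff.1 hy
  have h2 := h1 (c⁻¹ * t * c) (ht.trans (isConj_iff.2 ⟨c⁻¹, by group⟩)) (by
    rintro h; apply hty; rw [← h]; group) (by
    have := congrArg (fun s => c⁻¹ * s * c) hc
    simpa [mul_assoc] using this) (c⁻¹ • q)
  have e1 : (c * z * c⁻¹ * t) • q = q ↔ (z * (c⁻¹ * t * c)) • (c⁻¹ • q) = c⁻¹ • q := by
    rw [← mul_smul, eq_inv_smul_iff, ← mul_smul]
    have : c * (z * (c⁻¹ * t * c) * c⁻¹) = c * z * c⁻¹ * t := by group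
    rw [this]
  have e2 : (c * z * c⁻¹) • q = q ↔ z • (c⁻¹ • q) = c⁻¹ • q := by
    rw [← mul_smul, eq_inv_smul_iff, ← mul_smul]
    have : c * (z * c⁻¹) = c * z * c⁻¹ := by group
    rw [this]
  rw [e1, e2, h2, h0]

theorem iso_same {z : G} (hz : z * z = 1) {H : Subgroup G} 
    (h0 : ∀ q : G ⧸ H, z • q = q ↔ q = QuotientGroup.mk 1)
    (h1 : ∀ t, IsConj z t → t ≠ z → t * z = z * t → ∀ q : G ⧸ H, (z * t) • q = q ↔ q = QuotientGroup.mk 1)
    {y y' : G} (hy : IsConj z y) (hy' : IsConj z y') (he : Even (orderOf (y * y'))) (q : G ⧸ H) :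
    y • q = q ↔ y' • q = q := by
  have hinv : ∀ {x : G}, IsConj z x → x * x = 1 := by
    intro x hx
    obtain ⟨c, rfl⟩ := isConj_iff.1 hx
    calc c * z * c⁻¹ * (c * z * c⁻¹) = c * (z * z) * c⁻¹ := by group
      _ = 1 := by rw [hz]; group
  have hyy := hinv hy
  have hyy' := hinv hy'
  have hi : y⁻¹ = y := inv_eq_of_mul_eq_one_right hyy
  have hi' : y'⁻¹ = y' := inv_eq_of_mul_eq_one_right hyy'
  obtain ⟨k, hk⟩ := he
  obtain ⟨r, hr⟩ : ∃ r, r = y * y' := ⟨_, rfl⟩
  rw [← hr] at hk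
  have hrinv : y * r * y = r⁻¹ := by rw [hr, mul_inv_rev, hi, hi', ← mul_assoc, hyy, one_mul]
  have hrinv' : y' * r * y' = r⁻¹ := by
    rw [hr, mul_inv_rev, hi, hi', mul_assoc, mul_assoc, hyy', mul_one]
  have hpos : 0 < orderOf r := orderOf_pos r
  have hw1 : r ^ k ≠ 1 := by
    intro h
    have := orderOf_dvd_of_pow_eq_one h
    have := Nat.le_of_dvd (by omega) this
    omega
  have hw2 : r ^ k * r ^ k = 1 := by rw [← pow_add, ← hk, pow_orderOf_eq_one]
  have hwi : (r ^ k)⁻¹ = r ^ k := inv_eq_of_mul_eq_one_right hw2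
  have hyw : ∀ {s : G}, s * s = 1 → s * r * s = r⁻¹ → s * r ^ k * s = r ^ k := by
    intro s hss hs
    have h2 : s * r ^ k * s = (s * r * s) ^ k := by
      have hsi : s⁻¹ = s := inv_eq_of_mul_eq_one_right hss
      have := conj_pow (i := k) (a := s) (b := r)
      rw [hsi] at this
      exact this.symm
    rw [h2, hs, inv_pow, hwi]
  have e1 := hyw hyy hrinv
  have e2 := hyw hyy' hrinv'
  -- t = r^k y
  have ht : IsConj z (r ^ k * y) := hr ▸ refl_conj hy hy' hyy hyy' k
  have ht' : IsConj z (r ^ k * y') := by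
    have h3 := refl_conj hy' hy hyy' hyy k
    have h4 : (y' * y) ^ k = r ^ k := by
      have : y' * y = r⁻¹ := by rw [hr, mul_inv_rev, hi, hi']
      rw [this, inv_pow, hwi]
    rwa [h4] at h3
  have f : ∀ {s : G}, s * s = 1 → s * r ^ k * s = r ^ k → IsConj z s → IsConj z (r ^ k * s) → ((r ^ k) • q = q ↔ s • q = q) := by
    intro s hss hs hsc hsc'
    have h3 := iso_even h0 h1 hsc hsc' (by
      intro h
      apply hw1
      have := congrArg (fun x => x * s⁻¹) h
      simpa using this) (by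
      have hsi : s⁻¹ = s := inv_eq_of_mul_eq_one_right hss
      calc r ^ k * s * s = r ^ k := by rw [mul_assoc, hss, mul_one]
        _ = s * r ^ k * s := hs.symm
        _ = s * (r ^ k * s) := by group) q
    rwa [← mul_assoc, hs] at h3
  rw [← f hyy e1 hy ht, ← f hyy' e2 hy' ht']

theorem iso_odd_mid {z : G} (hz : z * z = 1) {y y' : G} (hy : IsConj z y) (hy' : IsConj z y') (ho : Odd (orderOf (y * y'))) :
    ∃ s, IsConj z s ∧ s * y * s⁻¹ = y' := by
  have hinv : ∀ {x : G}, IsConj z x → x * x = 1 := by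
    intro x hx
    obtain ⟨c, rfl⟩ := isConj_iff.1 hx
    calc c * z * c⁻¹ * (c * z * c⁻¹) = c * (z * z) * c⁻¹ := by group
      _ = 1 := by rw [hz]; group
  have hyy := hinv hy
  have hyy' := hinv hy'
  have hi : y⁻¹ = y := inv_eq_of_mul_eq_one_right hyy
  have hi' : y'⁻¹ = y' := inv_eq_of_mul_eq_one_right hyy'
  obtain ⟨k, hk⟩ := ho
  refine ⟨(y * y') ^ k * y, refl_conj hy hy' hyy hyy' k, ?_⟩
  obtain ⟨r, hr⟩ : ∃ r, r = y * y' := ⟨_, rfl⟩
  rw [← hr] at hk ⊢
  have hrinv : y * r * y⁻¹ = r⁻¹ := by rw [hr, mul_inv_rev, hi, hi', ← mul_assoc, hyy, one_mul]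
  have h2 : y * r ^ k * y⁻¹ = (r ^ k)⁻¹ := by rw [← conj_pow, hrinv, inv_pow]
  have h3 : y * (r ^ k)⁻¹ * y⁻¹ = r ^ k := by
    have := congrArg (fun s => s⁻¹) h2
    simpa [mul_assoc] using this
  calc r ^ k * y * y * (r ^ k * y)⁻¹ = r ^ k * (y * y) * (y⁻¹ * (r ^ k)⁻¹) := by group
    _ = r ^ k * (y * (r ^ k)⁻¹ * y⁻¹) * y := by group
    _ = (r ^ k * r ^ k) * y := by rw [h3]
    _ = r⁻¹ * y := by
      have : r ^ k * r ^ k * r = 1 := by rw [← pow_add, ← pow_succ, ← two_mul, ← hk, pow_orderOf_eq_one]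
      rw [eq_inv_of_mul_eq_one_left this]
    _ = y' := by rw [hr, mul_inv_rev, hi, hi', mul_assoc, hyy, mul_one]

/-- the number of conjugates is odd -/
theorem iso_main {z : G} (hz : z * z = 1) (hz1 : z ≠ 1) {H : Subgroup G} (hH : H ≠ ⊤)
    (h0 : ∀ q : G ⧸ H, z • q = q ↔ q = QuotientGroup.mk 1)
    (h1 : ∀ t, IsConj z t → t ≠ z → t * z = z * t → ∀ q : G ⧸ H, (z * t) • q = q ↔ q = QuotientGroup.mk 1)
    [Fintype G] [Fintype (G ⧸ H)] [DecidableEq G] [DecidableEq (G ⧸ H)] [DecidablePred (fun y : G => IsConj z y)] :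
    Odd (Finset.univ.filter fun y : G => IsConj z y).card := by
  have hinv : ∀ {x : G}, IsConj z x → x * x = 1 := by
    intro x hx
    obtain ⟨c, rfl⟩ := isConj_iff.1 hx
    calc c * z * c⁻¹ * (c * z * c⁻¹) = c * (z * z) * c⁻¹ := by group
      _ = 1 := by rw [hz]; group
  have hconj : ∀ {x : G} (c : G), IsConj z x → IsConj z (c * x * c⁻¹) := fun c h => h.trans (isConj_iff.2 ⟨c, rfl⟩)
  obtain ⟨q0, hq0⟩ : ∃ q0 : G ⧸ H, q0 = QuotientGroup.mk 1 := ⟨_, rfl⟩
  obtain ⟨hX, hcount⟩ := iso_count z H h0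
  rw [← hq0] at h0 h1 hX hcount
  obtain ⟨m, hm⟩ : ∃ m, m = (Finset.univ.filter fun y : G => IsConj z y ∧ y • q0 = q0).card := ⟨_, rfl⟩
  rw [← hm] at hX hcount
  rw [hcount]
  -- the set of conjugates moving q0 to q
  obtain ⟨Y, hY⟩ : ∃ Y : G ⧸ H → Finset G, ∀ q, Y q = Finset.univ.filter fun y : G => IsConj z y ∧ y • q0 = q := ⟨_, fun _ => rfl⟩
  have hsumY : ∑ q : G ⧸ H, (Y q).card = Fintype.card (G ⧸ H) * m := by
    rw [← hcount, Finset.card_eq_sum_card_fiberwise (f := fun y : G => y • q0) (t := Finset.univ) (fun y _ => Finset.mem_univ _)]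
    refine Finset.sum_congr rfl fun q _ => ?_
    rw [hY, Finset.filter_filter]
  have hge : ∀ q : G ⧸ H, m ≤ (Y q).card := by
    intro q
    by_cases hq : q = q0
    · rw [hq, hY, ← hm]
    · rw [← hX q]
      refine Finset.card_le_card_of_surjOn (fun y => y * z * y⁻¹) ?_
      intro y' hy'
      rw [Finset.mem_coe, Finset.mem_filter] at hy'
      obtain ⟨-, hy'1, hy'2⟩ := hy'
      have hodd : Odd (orderOf (z * y')) := by
        rw [← Nat.not_even_iff_odd]
        intro he
        have h2 := iso_same hz (hq0 ▸ h0) (hq0 ▸ h1) (IsConj.refl z) hy'1 he q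
        exact hq ((h0 q).1 (h2.2 hy'2))
      obtain ⟨s, hs1, hs2⟩ := iso_odd_mid hz (IsConj.refl z) hy'1 hodd
      refine ⟨s, ?_, hs2⟩
      rw [Finset.mem_coe, hY, Finset.mem_filter]
      refine ⟨Finset.mem_univ _, hs1, ?_⟩
      have h3 : z • (s⁻¹ • q) = s⁻¹ • q := by
        rw [← mul_smul, eq_inv_smul_iff, ← mul_smul, ← mul_assoc, hs2]; exact hy'2
      rw [h0, inv_smul_eq_iff] at h3
      exact h3.symm
  have heq : ∀ q : G ⧸ H, (Y q).card = m := by
    have h2 : ∑ q : G ⧸ H, m = ∑ q : G ⧸ H, (Y q).card := by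
      rw [hsumY, Finset.sum_const, Finset.card_univ, smul_eq_mul]
    intro q
    exact ((Finset.sum_eq_sum_iff_of_le fun q _ => hge q).1 h2 q (Finset.mem_univ _)).symm
  have hodd1 : Odd (Fintype.card (G ⧸ H)) := by
    rw [← Finset.card_univ]
    refine odd_of_invol _ (fun q => z • q) (fun _ _ => Finset.mem_univ _) ?_ q0 (Finset.mem_univ _) (fun q _ => h0 q)
    intro q _
    rw [← mul_smul, hz, one_smul]
  refine hodd1.mul ?_
  -- choose q ≠ q0
  obtain ⟨g, hg⟩ : ∃ g : G, g ∉ H := by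
    by_contra hcon
    push Not at hcon
    exact hH (eq_top_iff.2 fun g _ => hcon g)
  obtain ⟨q, hq⟩ : ∃ q : G ⧸ H, q = QuotientGroup.mk g := ⟨_, rfl⟩
  have hqne : q ≠ q0 := by
    rw [hq, hq0]; exact fun h => hg (mk_eq_one.1 h)
  rw [← heq q]
  have hmpos : 0 < m := by
    rw [hm, Finset.card_pos]
    exact ⟨z, Finset.mem_filter.2 ⟨Finset.mem_univ _, IsConj.refl z, (h0 q0).2 rfl⟩⟩
  obtain ⟨y0, hy0⟩ : (Y q).Nonempty := by rw [← Finset.card_pos, heq]; exact hmpos
  have hmem : ∀ y, y ∈ Y q ↔ IsConj z y ∧ y • q0 = q := by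
    intro y; rw [hY, Finset.mem_filter]; simp
  have hy0' := (hmem y0).1 hy0
  have hsw : ∀ y ∈ Y q, y • q = q0 := by
    intro y hy
    have h2 := (hmem y).1 hy
    rw [← h2.2, ← mul_smul, hinv h2.1, one_smul]
  have hy0i : y0⁻¹ = y0 := inv_eq_of_mul_eq_one_right (hinv hy0'.1)
  refine odd_of_invol _ (fun y => y0 * y * y0⁻¹) ?_ ?_ y0 hy0 ?_
  · intro y hy
    have h2 := (hmem y).1 hy
    refine (hmem _).2 ⟨hconj y0 h2.1, ?_⟩
    rw [hy0i, mul_smul, mul_smul, hy0'.2, hsw y hy, hy0'.2]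
  · intro y _
    show y0 * (y0 * y * y0⁻¹) * y0⁻¹ = y
    rw [hy0i]
    calc y0 * (y0 * y * y0) * y0 = (y0 * y0) * y * (y0 * y0) := by group
      _ = y := by rw [hinv hy0'.1, one_mul, mul_one]
  · intro y hy
    have h2 := (hmem y).1 hy
    constructor
    · intro hyc
      by_contra hne
      have hcomm : y * y0 = y0 * y := by
        have := congrArg (fun s => s * y0) hyc
        simpa using this.symm
      have h3 := iso_even (hq0 ▸ h0) (hq0 ▸ h1) hy0'.1 h2.1 hne hcomm q0
      have h4 : (y0 * y) • q0 = q0 := by rw [mul_smul, h2.2, hsw y0 hy0]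
      have h5 := h3.1 h4
      rw [hy0'.2] at h5
      exact hqne h5
    · rintro rfl
      group

theorem card_conj_eq_index (z : G) : Nat.card {y : G // IsConj z y} = (centralizer ({z} : Set G)).index := by
  rw [Subgroup.index]
  symm
  refine Nat.card_congr (Equiv.ofBijective (fun q : G ⧸ centralizer ({z} : Set G) =>
    Quotient.liftOn' q (fun c => (⟨c * z * c⁻¹, isConj_iff.2 ⟨c, rfl⟩⟩ : {y : G // IsConj z y})) ?_) ?_)
  · intro a b hab
    have h1 := QuotientGroup.leftRel_apply.1 hab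
    rw [mem_centralizer_singleton_iff] at h1
    apply Subtype.ext
    show a * z * a⁻¹ = b * z * b⁻¹
    calc a * z * a⁻¹ = a * (z * (a⁻¹ * b)) * b⁻¹ := by group
      _ = a * ((a⁻¹ * b) * z) * b⁻¹ := by rw [h1]
      _ = b * z * b⁻¹ := by group
  · constructor
    · intro q q' h
      obtain ⟨a, rfl⟩ := QuotientGroup.mk_surjective q
      obtain ⟨b, rfl⟩ := QuotientGroup.mk_surjective q'
      have h1 : a * z * a⁻¹ = b * z * b⁻¹ := congrArg Subtype.val h
      rw [QuotientGroup.eq, mem_centralizer_singleton_iff]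
      calc a⁻¹ * b * z = a⁻¹ * (b * z * b⁻¹) * b := by group
        _ = a⁻¹ * (a * z * a⁻¹) * b := by rw [h1]
        _ = z * (a⁻¹ * b) := by group
    · rintro ⟨y, hy⟩
      obtain ⟨c, hc⟩ := isConj_iff.1 hy
      exact ⟨QuotientGroup.mk c, Subtype.ext hc⟩

/-- the equivalence of the two conditions -/
theorem iso_equiv (z : G) (hz : orderOf z = 2) (H : Subgroup G) (hH : H ≠ ⊤)
    (h0 : ∀ g : G, z ∈ H.map (MulAut.conj g).toMonoidHom ↔ g ∈ H) :
    (∀ t : G, IsConj z t → t ≠ z → t * z = z * t → ∀ g : G, z * t ∈ H.map (MulAut.conj g).toMonoidHom ↔ g ∈ H) ↔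
      ((∃ P : Sylow 2 G, z ∈ (Subgroup.center ↥(P : Subgroup G)).map (P : Subgroup G).subtype) ∧
        ∀ t : G, IsConj z t → t ≠ z → t * z = z * t → Subgroup.centralizer ({z * t} : Set G) ≤ H) := by
  classical
  haveI : Fintype G := Fintype.ofFinite G
  haveI : Fintype (G ⧸ H) := Fintype.ofFinite _
  have hzz : z * z = 1 := by rw [← pow_two, ← hz, pow_orderOf_eq_one]
  have hz1 : z ≠ 1 := by rintro rfl; rw [orderOf_one] at hz; omega
  have h0' : ∀ q : G ⧸ H, z • q = q ↔ q = QuotientGroup.mk 1 := by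
    intro q
    obtain ⟨g, rfl⟩ := QuotientGroup.mk_surjective q
    rw [fix_iff, h0, mk_eq_one]
  have hcardC : (Finset.univ.filter fun y : G => IsConj z y).card = (centralizer ({z} : Set G)).index := by
    rw [← card_conj_eq_index, Nat.card_eq_fintype_card, Fintype.card_subtype]
  have hCH : centralizer ({z} : Set G) ≤ H := by
    intro c hc
    rw [← h0, fix_iff.symm, MulAction.Quotient.smul_mk, QuotientGroup.eq, smul_eq_mul]
    rw [mem_centralizer_singleton_iff] at hc
    rw [← hc]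
    have h2 : z ∈ H := by
      have := (h0 1).2 H.one_mem
      have h3 : z ∈ cj 1 H := this
      rwa [cj_one] at h3
    have e : (c * z)⁻¹ * c = z⁻¹ := by group
    rw [e]; exact inv_mem h2
  constructor
  · intro h
    have h1 : ∀ t, IsConj z t → t ≠ z → t * z = z * t → ∀ q : G ⧸ H, (z * t) • q = q ↔ q = QuotientGroup.mk 1 := by
      intro t h2 h3 h4 q
      obtain ⟨g, rfl⟩ := QuotientGroup.mk_surjective q
      rw [fix_iff, h t h2 h3 h4, mk_eq_one]
    have hodd := iso_main hzz hz1 hH h0' h1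
    rw [hcardC] at hodd
    refine ⟨?_, ?_⟩
    · haveI : Fact (Nat.Prime 2) := ⟨Nat.prime_two⟩
      have hzp : IsPGroup 2 ↥(zpowers z) := IsPGroup.of_card (n := 1) (by rw [Nat.card_zpowers, hz, pow_one])
      obtain ⟨T, hT, hzT⟩ := exists_sylIn_ge hzp (H := centralizer ({z} : Set G)) (by
        rw [zpowers_le, mem_centralizer_singleton_iff])
      have h2 : ¬ 2 ∣ T.index := by
        rw [← Subgroup.relIndex_mul_index hT.le]
        intro hd
        rcases (Nat.Prime.dvd_mul Nat.prime_two).1 hd with h | h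
        · exact hT.2.2 h
        · exact (Nat.not_even_iff_odd.2 hodd) (even_iff_two_dvd.2 h)
      refine ⟨hT.isPGroup.toSylow h2, ⟨z, hzT (mem_zpowers z)⟩, ?_, rfl⟩
      rw [SetLike.mem_coe, mem_center_iff]
      intro a
      exact Subtype.ext (mem_centralizer_singleton_iff.1 (hT.le a.2))
    · intro t h2 h3 h4 c hc
      rw [← h t h2 h3 h4, ← fix_iff, MulAction.Quotient.smul_mk, QuotientGroup.eq, smul_eq_mul]
      rw [mem_centralizer_singleton_iff] at hc
      rw [← hc]
      have h5 : z * t ∈ H := by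
        have := (h t h2 h3 h4 1).2 H.one_mem
        have h3 : z * t ∈ cj 1 H := this
        rwa [cj_one] at h3
      have e : (c * (z * t))⁻¹ * c = (z * t)⁻¹ := by group
      rw [e]; exact inv_mem h5
  · rintro ⟨⟨P, hP⟩, h⟩ t h2 h3 h4 g
    have hodd : Odd (Finset.univ.filter fun y : G => IsConj z y).card := by
      rw [hcardC]
      have h5 : (P : Subgroup G) ≤ centralizer ({z} : Set G) := by
        obtain ⟨z', hz', rfl⟩ := hP
        intro a ha
        rw [mem_centralizer_singleton_iff]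
        exact congrArg Subtype.val ((mem_center_iff.1 hz') ⟨a, ha⟩)
      rw [← Nat.not_even_iff_odd, even_iff_two_dvd]
      intro hd
      haveI : Fact (Nat.Prime 2) := ⟨Nat.prime_two⟩
      exact P.not_dvd_index (hd.trans (Subgroup.index_dvd_of_le h5))
    have hztH : z * t ∈ H := H.mul_mem (hCH (by rw [mem_centralizer_singleton_iff])) (hCH (by
      rw [mem_centralizer_singleton_iff]; exact h4))
    constructor
    · intro hgt
      rw [← fix_iff] at hgt
      obtain ⟨hX, hcount⟩ := iso_count z H h0'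
      have h5 : Odd (Finset.univ.filter fun y : G => IsConj z y ∧ y • (QuotientGroup.mk g : G ⧸ H) = QuotientGroup.mk g).card := by
        rw [hX]
        rw [hcount] at hodd
        exact (Nat.odd_mul.1 hodd).2
      have htt : t * t = 1 := by
        obtain ⟨c, rfl⟩ := isConj_iff.1 h2
        calc c * z * c⁻¹ * (c * z * c⁻¹) = c * (z * z) * c⁻¹ := by group
          _ = 1 := by rw [hzz]; group
      have hww : (z * t) * (z * t) = 1 := by
        calc (z * t) * (z * t) = z * (t * z) * t := by group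
          _ = z * (z * t) * t := by rw [h4]
          _ = (z * z) * (t * t) := by group
          _ = 1 := by rw [hzz, htt, one_mul]
      have hwi : (z * t)⁻¹ = z * t := inv_eq_of_mul_eq_one_right hww
      obtain ⟨w, hw⟩ : ∃ w, w = z * t := ⟨_, rfl⟩
      rw [← hw] at hwi hww hgt
      obtain ⟨y, hy, hyf⟩ := exists_fixed_of_odd _ (fun y => w * y * w⁻¹) (by
        intro y hy
        rw [Finset.mem_filter] at hy ⊢
        refine ⟨Finset.mem_univ _, hy.2.1.trans (isConj_iff.2 ⟨w, rfl⟩), ?_⟩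
        rw [hwi, mul_smul, mul_smul, hgt, hy.2.2, hgt]) (by
        intro y _
        show w * (w * y * w⁻¹) * w⁻¹ = y
        rw [hwi]
        calc w * (w * y * w) * w = (w * w) * y * (w * w) := by group
          _ = y := by rw [hww, one_mul, mul_one]) h5
      rw [Finset.mem_filter] at hy
      have h6 : y ∈ H := by
        apply h t h2 h3 h4
        rw [mem_centralizer_singleton_iff, ← hw]
        have := congrArg (fun s => s * w) hyf
        simpa using this.symm
      -- y fixes both points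
      obtain ⟨c, hc⟩ := isConj_iff.1 hy.2.1
      have h7 : ∀ q : G ⧸ H, y • q = q → q = c • (QuotientGroup.mk 1 : G ⧸ H) := by
        intro q hq
        rw [← hc, mul_smul, mul_smul, smul_eq_iff_eq_inv_smul, h0', inv_smul_eq_iff] at hq
        exact hq
      have h8 : y • (QuotientGroup.mk 1 : G ⧸ H) = QuotientGroup.mk 1 := by
        rw [fix_iff]
        show y ∈ cj 1 H
        rwa [cj_one]
      have h9 := (h7 _ hy.2.2).trans (h7 _ h8).symm
      exact mk_eq_one.1 h9
    · intro hg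
      show z * t ∈ cj g H
      rw [mem_cj]
      exact H.mul_mem (H.mul_mem (H.inv_mem hg) hztH) hg

end

end Cfsg.Agent.H6
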