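import Cfsg.Agent.H6.WeakClosure2
import Cfsg.Agent.H6.KFun

set_option autoImplicit false
set_option linter.unusedSectionVars false
set_option linter.unusedSimpArgs false
set_option linter.unusedVariables false
set_option linter.style.haveILetI false
open Cfsg
open scoped commutatorElement

universe u

namespace Cfsg.Agent.H6

section
variable {p : ℕ} [hp : Fact p.Prime] {W : ∀ (Q : Type u) [Group Q], Subgroup Q}

theorem iterComm_map {H G : Type*} [Group H] [Group G] (f : H →* G) (A B : Subgroup H) (n : ℕ) :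
    (iterCommutator A B n).map f = iterCommutator (A.map f) (B.map f) n := by
  induction n with
  | zero => rfl
  | succ n ih =>
    change Subgroup.map f ⁅iterCommutator A B n, B⁆ = ⁅iterCommutator (A.map f) (B.map f) n, B.map f⁆
    rw [Subgroup.map_commutator, ih]

theorem KLike.quad_sub (hK : KLike.{u} p W) {G : Type u} [Group G] [Finite G] {H T : Subgroup G} (hT : SylIn p T H)
    (hn : ¬ H ≤ Subgroup.normalizer ((inducedFunctor W T : Subgroup G) : Set G)) :
    ∃ g : G, g ∈ T ∧ g ∉ pCoreOf p H ∧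
      ⁅⁅zc (pCoreOf p H), Subgroup.zpowers g⁆, Subgroup.zpowers g⁆ = ⊥ := by
  obtain ⟨P, hP⟩ := hT.exists_sylow
  have hPT : (P : Subgroup ↥H).map H.subtype = T := by
    rw [hP, Subgroup.map_subgroupOf_eq_of_le hT.le]
  have h1 : ¬ (inducedFunctor (G := ↥H) W (P : Subgroup ↥H)).Normal := by
    intro hnorm
    apply hn
    have h2 : inducedFunctor W T = (inducedFunctor (G := ↥H) W (P : Subgroup ↥H)).map H.subtype := by
      rw [← inducedFunctor_map hK.char P.2 H.subtype (Subgroup.subtype_injective H).injOn, hPT]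
    have h3 : (⊤ : Subgroup ↥H) ≤ Subgroup.normalizer ((inducedFunctor (G := ↥H) W (P : Subgroup ↥H) : Subgroup ↥H) : Set ↥H) :=
      norm_of_normal _
    have h4 := (map_le_norm (Subgroup.subtype_injective H)).2 h3
    rw [← h2] at h4
    refine le_trans ?_ h4
    rw [← MonoidHom.range_eq_map, Subgroup.range_subtype]
  obtain ⟨g, hgP, hgQ, -, hq⟩ := hK.engel ↥H P h1
  refine ⟨g, ?_, ?_, ?_⟩
  · rw [← hPT]; exact ⟨g, hgP, rfl⟩
  · rintro ⟨x, hx, hxe⟩
    apply hgQ
    rwa [← Subgroup.subtype_injective H hxe]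
  · have h5 := congrArg (Subgroup.map H.subtype) hq
    rw [Subgroup.map_commutator, Subgroup.map_commutator, map_zc (Subgroup.subtype_injective H),
      MonoidHom.map_zpowers, Subgroup.map_bot] at h5
    exact h5

theorem KLike.zc_le' (hK : KLike.{u} p W) {G : Type u} [Group G] [Finite G] {P : Subgroup G} (hP : IsPGroup p ↥P) :
    zc P ≤ inducedFunctor W P := by
  intro x hx
  refine ⟨⟨x, (Subgroup.mem_inf.1 hx).1⟩, hK.cent ↥P hP ?_, rfl⟩
  rw [Subgroup.mem_center_iff]
  intro y
  ext
  exact Subgroup.mem_centralizer_iff.1 (Subgroup.mem_inf.1 hx).2 y y.2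

end
end Cfsg.Agent.H6
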