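import Cfsg.Prelude.Def_LocalStructure
import Cfsg.Agent.H6.MS2
import Cfsg.Agent.H6.CharP2
import Cfsg.Agent.H6.PRed5
import Cfsg.Agent.H6.Iso

/-! large subgroups -/

set_option autoImplicit false
set_option linter.unusedSectionVars false
open Cfsg Subgroup

namespace Cfsg.Agent.H6

section
variable {p : ℕ} [hp : Fact p.Prime] {H : Type*} [Group H] [Finite H]

theorem isPGroup_of_pprime' {A : Subgroup H} (h : ∀ w ∈ A, (orderOf w).Coprime p → w = 1) : IsPGroup p ↥A :=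
  isPGroup_of_pprime h

/-- Lemma B -/
theorem norm_consequences {Q L K C : Subgroup H} (hQp : IsPGroup p ↥Q) (hCQ : K ⊓ centralizer (Q : Set H) ≤ Q) (hQL : Q ≤ L) (hLK : L ≤ K)
    (hC : C = K ⊓ centralizer (pCoreOf p L : Set H)) (hCN : C ≤ normalizer (Q : Set H)) :
    ⁅Q, C⁆ ≤ Q ⊓ pCoreOf p L ∧ IsPGroup p ↥C ∧ CP p L := by
  obtain ⟨P, hP⟩ : ∃ P, P = pCoreOf p L := ⟨_, rfl⟩
  rw [← hP] at hC ⊢
  have hLP : L ≤ normalizer (P : Set H) := hP ▸ le_norm_pCoreOf L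
  have hLC : L ≤ normalizer (C : Set H) := by
    rw [hC]; exact norm_inf' (hLK.trans le_normalizer) (norm_cent hLP)
  have hQC : Q ≤ normalizer (C : Set H) := hQL.trans hLC
  have h1 : ⁅Q, C⁆ ≤ Q ⊓ C := by
    refine le_inf ?_ ?_
    · exact Subgroup.le_normalizer_iff_commutator_le_left.mp hCN
    · rw [commutator_comm]
      exact Subgroup.le_normalizer_iff_commutator_le_left.mp hQC
  have h2 : Q ⊓ C ≤ P := by
    have h3 : Q ⊓ C ≤ pCoreOf p C := le_pCoreOf inf_le_right (norm_inf' hCN le_normalizer) (hQp.to_le inf_le_left)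
    have h4 : pCoreOf p C ⊓ L ≤ P := by
      rw [hP]
      exact le_pCoreOf inf_le_right (norm_inf' (hLC.trans (norm_le_norm_pCoreOf C)) le_normalizer) ((pCoreOf_isPGroup C).to_le inf_le_left)
    exact (le_inf h3 (inf_le_left.trans hQL)).trans h4
  have hCp : IsPGroup p ↥C := by
    refine isPGroup_of_pprime' fun x hx hxo => ?_
    have hxC : x ∈ K ⊓ centralizer (P : Set H) := hC ▸ hx
    have hxQ : x ∈ Q := by
      refine hCQ (mem_inf.2 ⟨hxC.1, ?_⟩)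
      rw [mem_centralizer_iff]
      intro q hq
      obtain ⟨y, hy⟩ : ∃ y, y = q * x * q⁻¹ * x⁻¹ := ⟨_, rfl⟩
      have hyQC : y ∈ Q ⊓ C := by rw [hy]; exact h1 (comm_el hq hx)
      have hyx : Commute y x := mem_centralizer_iff.1 hxC.2 y (h2 hyQC)
      obtain ⟨n, hn⟩ := hQp ⟨y, hyQC.1⟩
      have hn' : y ^ p ^ n = 1 := congrArg Subtype.val hn
      have e : y * x = q * x * q⁻¹ := by rw [hy]; group
      have h5 : y ^ orderOf x = 1 := by
        have h6 : (y * x) ^ orderOf x = 1 := by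
          rw [e, conj_pow, pow_orderOf_eq_one, mul_one, mul_inv_cancel]
        rw [hyx.mul_pow, pow_orderOf_eq_one, mul_one] at h6
        exact h6
      have h7 : y = 1 := by
        have := mem_of_pow_pow (M := (⊥ : Subgroup H)) (k := y) (a := orderOf x) (b := p ^ n) (hxo.pow_right n)
          (by rw [mem_bot]; exact h5) (by rw [mem_bot]; exact hn')
        rwa [mem_bot] at this
      rw [h7, one_mul] at e
      exact (mul_inv_eq_iff_eq_mul.1 e.symm)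
    obtain ⟨n, hn⟩ := hQp ⟨x, hxQ⟩
    have hn' : x ^ p ^ n = 1 := congrArg Subtype.val hn
    have h8 : orderOf x ∣ p ^ n := orderOf_dvd_of_pow_eq_one hn'
    exact orderOf_eq_one_iff.1 (Nat.eq_one_of_dvd_coprimes (hxo.pow_right n) dvd_rfl h8)
  refine ⟨h1.trans (le_inf inf_le_left h2), hCp, ?_⟩
  intro w hw hwo hwc
  rw [← hP] at hwc
  have hwC : w ∈ C := by
    rw [hC]; exact mem_inf.2 ⟨hLK hw, mem_centralizer_iff.2 hwc⟩
  obtain ⟨n, hn⟩ := hCp ⟨w, hwC⟩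
  have hn' : w ^ p ^ n = 1 := congrArg Subtype.val hn
  have h8 : orderOf w ∣ p ^ n := orderOf_dvd_of_pow_eq_one hn'
  exact orderOf_eq_one_iff.1 (Nat.eq_one_of_dvd_coprimes (hwo.pow_right n) dvd_rfl h8)

/-- Lemma A -/
theorem wc_cent_norm {Q L K C : Subgroup H} (hQp : IsPGroup p ↥Q) (hwc : IsWeaklyClosedSubgroup p Q) (hQL : Q ≤ L) (hLK : L ≤ K) (hK : CP p K)
    (hC : C = K ⊓ centralizer (pCoreOf p L : Set H)) : C ≤ normalizer (Q : Set H) := by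
  obtain ⟨P, hP⟩ : ∃ P, P = pCoreOf p L := ⟨_, rfl⟩
  obtain ⟨V, hV⟩ : ∃ V, V = pCoreOf p K := ⟨_, rfl⟩
  rw [← hP] at hC
  have hKV : K ≤ normalizer (V : Set H) := hV ▸ le_norm_pCoreOf K
  have hVK : V ≤ K := hV ▸ pCoreOf_le K
  have hVp : IsPGroup p ↥V := hV ▸ pCoreOf_isPGroup K
  have hQV : Q ≤ normalizer (V : Set H) := (hQL.trans hLK).trans hKV
  have hVQ : V ≤ normalizer (Q : Set H) := by
    have h1 : IsPGroup p ↥(V ⊔ Q) := by
      rw [sup_comm]; exact IsPGroup.to_sup_of_normal_right' hQp hVp hQV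
    exact (le_sup_left.trans le_normalizer).trans (wc_norm hwc h1 le_sup_right)
  obtain ⟨W, hW⟩ : ∃ W, W = V ⊓ L := ⟨_, rfl⟩
  have hWP : W ≤ P := by
    rw [hW, hP]
    exact le_pCoreOf inf_le_right (norm_inf' (hLK.trans hKV) le_normalizer) (hVp.to_le inf_le_left)
  have hQW : Q ≤ normalizer (W : Set H) := by rw [hW]; exact norm_inf' hQV (hQL.trans le_normalizer)
  have hvq : ∀ q ∈ Q, ∀ v ∈ V, q * v * q⁻¹ * v⁻¹ ∈ W := by
    intro q hq v hv
    rw [hW]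
    refine mem_inf.2 ⟨mul_mem (le_norm_iff.1 hQV q hq v hv) (inv_mem hv), hQL ?_⟩
    have h1 := le_norm_iff.1 hVQ v hv q⁻¹ (inv_mem hq)
    have e : q * v * q⁻¹ * v⁻¹ = q * (v * q⁻¹ * v⁻¹) := by group
    rw [e]; exact mul_mem hq h1
  have hCW : ∀ c ∈ C, ∀ w ∈ W, w * c = c * w := by
    intro c hc w hw
    have hc' : c ∈ K ⊓ centralizer (P : Set H) := hC ▸ hc
    exact mem_centralizer_iff.1 hc'.2 w (hWP hw)
  -- the group `T`
  obtain ⟨T, hT⟩ : ∃ T : Subgroup H, ∀ a, a ∈ T ↔ a ∈ K ∧ (∀ v ∈ V, a * v * a⁻¹ * v⁻¹ ∈ W) ∧ ∃ q ∈ Q, ∀ w ∈ W, a * w * a⁻¹ = q * w * q⁻¹ := by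
    refine ⟨{ carrier := {a | a ∈ K ∧ (∀ v ∈ V, a * v * a⁻¹ * v⁻¹ ∈ W) ∧ ∃ q ∈ Q, ∀ w ∈ W, a * w * a⁻¹ = q * w * q⁻¹}, mul_mem' := ?_, one_mem' := ?_, inv_mem' := ?_ }, fun a => Iff.rfl⟩
    · rintro a b ⟨haK, ha, q, hq, haq⟩ ⟨hbK, hb, r, hr, hbr⟩
      refine ⟨mul_mem haK hbK, fun v hv => ?_, q * r, mul_mem hq hr, fun w hw => ?_⟩
      · have h1 : a * (b * v * b⁻¹ * v⁻¹) * a⁻¹ ∈ W := by
          rw [haq _ (hb v hv)]; exact le_norm_iff.1 hQW q hq _ (hb v hv)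
        have h2 := mul_mem h1 (ha v hv)
        have e : a * (b * v * b⁻¹ * v⁻¹) * a⁻¹ * (a * v * a⁻¹ * v⁻¹) = a * b * v * (a * b)⁻¹ * v⁻¹ := by group
        rwa [e] at h2
      · have h1 : r * w * r⁻¹ ∈ W := le_norm_iff.1 hQW r hr w hw
        calc a * b * w * (a * b)⁻¹ = a * (b * w * b⁻¹) * a⁻¹ := by group
          _ = q * (r * w * r⁻¹) * q⁻¹ := by rw [hbr w hw, haq _ h1]
          _ = q * r * w * (q * r)⁻¹ := by group
    · refine ⟨one_mem _, fun v _ => ?_, 1, one_mem _, fun w _ => rfl⟩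
      have e : (1 : H) * v * 1⁻¹ * v⁻¹ = 1 := by group
      rw [e]; exact one_mem _
    · rintro a ⟨haK, ha, q, hq, haq⟩
      have hinv : ∀ w ∈ W, a⁻¹ * w * a = q⁻¹ * w * q := by
        intro w hw
        have h1 : q⁻¹ * w * q ∈ W := by
          have := le_norm_iff.1 hQW q⁻¹ (inv_mem hq) w hw
          rwa [inv_inv] at this
        have h2 := haq _ h1
        calc a⁻¹ * w * a = a⁻¹ * (q * (q⁻¹ * w * q) * q⁻¹) * a := by group
          _ = a⁻¹ * (a * (q⁻¹ * w * q) * a⁻¹) * a := by rw [h2]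
          _ = q⁻¹ * w * q := by group
      refine ⟨inv_mem haK, fun v hv => ?_, q⁻¹, inv_mem hq, fun w hw => by rw [inv_inv, inv_inv]; exact hinv w hw⟩
      have hv' : a⁻¹ * v * a ∈ V := by
        have := le_norm_iff.1 hKV a⁻¹ (inv_mem haK) v hv
        rwa [inv_inv] at this
      have h1 := inv_mem (ha _ hv')
      have e : (a * (a⁻¹ * v * a) * a⁻¹ * (a⁻¹ * v * a)⁻¹)⁻¹ = a⁻¹ * v * a⁻¹⁻¹ * v⁻¹ := by group
      rwa [e] at h1
  have hTp : IsPGroup p ↥T := by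
    intro ⟨a, haT⟩
    obtain ⟨haK, ha, q, hq, haq⟩ := (hT a).1 haT
    obtain ⟨n, hn⟩ := hQp ⟨q, hq⟩
    have hn' : q ^ p ^ n = 1 := congrArg Subtype.val hn
    have hpow : ∀ k : ℕ, ∀ w ∈ W, a ^ k * w * (a ^ k)⁻¹ = q ^ k * w * (q ^ k)⁻¹ := by
      intro k
      induction k with
      | zero => intro w _; rw [pow_zero, pow_zero]
      | succ k ih =>
        intro w hw
        have h1 : q * w * q⁻¹ ∈ W := le_norm_iff.1 hQW q hq w hw
        calc a ^ (k + 1) * w * (a ^ (k + 1))⁻¹ = a ^ k * (a * w * a⁻¹) * (a ^ k)⁻¹ := by rw [pow_succ]; group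
          _ = q ^ k * (q * w * q⁻¹) * (q ^ k)⁻¹ := by rw [haq w hw, ih _ h1]
          _ = q ^ (k + 1) * w * (q ^ (k + 1))⁻¹ := by rw [pow_succ]; group
    obtain ⟨b, hb⟩ : ∃ b, b = a ^ p ^ n := ⟨_, rfl⟩
    have hbT : b ∈ T := by rw [hb]; exact pow_mem haT _
    obtain ⟨hbK, hbV, -⟩ := (hT b).1 hbT
    have hbW : ∀ w ∈ W, b * w = w * b := by
      intro w hw
      have h1 := hpow (p ^ n) w hw
      rw [hn', ← hb] at h1
      have h2 : b * w * b⁻¹ = w := by rw [h1]; group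
      exact mul_inv_eq_iff_eq_mul.1 h2
    have hWp : IsPGroup p ↥W := hVp.to_le (by rw [hW]; exact inf_le_left)
    obtain ⟨j, hj⟩ := IsPGroup.iff_card.1 hWp
    have hbm : ∀ m : ℕ, ∀ v ∈ V, b ^ m * v * (b ^ m)⁻¹ = (b * v * b⁻¹ * v⁻¹) ^ m * v := by
      intro m v hv
      induction m with
      | zero => simp
      | succ m ih =>
        have h1 : Commute b (b * v * b⁻¹ * v⁻¹) := hbW _ (hbV v hv)
        have h2 : b * (b * v * b⁻¹ * v⁻¹) ^ m = (b * v * b⁻¹ * v⁻¹) ^ m * b := (h1.pow_right m).eq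
        calc b ^ (m + 1) * v * (b ^ (m + 1))⁻¹ = b * (b ^ m * v * (b ^ m)⁻¹) * b⁻¹ := by rw [pow_succ']; group
          _ = b * (b * v * b⁻¹ * v⁻¹) ^ m * v * b⁻¹ := by rw [ih]; group
          _ = (b * v * b⁻¹ * v⁻¹) ^ m * (b * v * b⁻¹ * v⁻¹) * v := by rw [h2]; group
          _ = (b * v * b⁻¹ * v⁻¹) ^ (m + 1) * v := by rw [pow_succ]
    have hcV : b ^ p ^ j ∈ V := by
      rw [hV]
      refine hK.mem (pow_mem hbK _) ?_
      intro v hv
      rw [← hV] at hv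
      have h1 := hbm (p ^ j) v hv
      have h2 : (b * v * b⁻¹ * v⁻¹) ^ p ^ j = 1 := by
        rw [← hj]
        have := pow_card_eq_one' (x := (⟨_, hbV v hv⟩ : ↥W))
        exact congrArg Subtype.val this
      rw [h2, one_mul] at h1
      exact (mul_inv_eq_iff_eq_mul.1 h1).symm
    obtain ⟨i, hi⟩ := hVp ⟨_, hcV⟩
    have hi' : (b ^ p ^ j) ^ p ^ i = 1 := congrArg Subtype.val hi
    refine ⟨n + j + i, Subtype.ext ?_⟩
    show a ^ p ^ (n + j + i) = 1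
    rw [pow_add, pow_add, pow_mul, pow_mul, ← hb]; exact hi'
  have hQT : Q ≤ T := by
    intro q hq
    rw [hT]
    exact ⟨hLK (hQL hq), hvq q hq, q, hq, fun w _ => rfl⟩
  intro c hc
  have hcK : c ∈ K := (hC ▸ hc : c ∈ K ⊓ centralizer (P : Set H)).1
  rw [mem_norm]
  have h1 : cj c Q ≤ T := by
    rintro _ ⟨q, hq, rfl⟩
    have e0 : (MulAut.conj c).toMonoidHom q = c * q * c⁻¹ := by simp
    rw [e0, hT]
    refine ⟨mul_mem (mul_mem hcK (hLK (hQL hq))) (inv_mem hcK), fun v hv => ?_, q, hq, fun w hw => ?_⟩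
    · have hv' : c⁻¹ * v * c ∈ V := by
        have := le_norm_iff.1 hKV c⁻¹ (inv_mem hcK) v hv
        rwa [inv_inv] at this
      have h2 := hvq q hq _ hv'
      have h3 := hCW c hc _ h2
      have e : c * q * c⁻¹ * v * (c * q * c⁻¹)⁻¹ * v⁻¹ = c * (q * (c⁻¹ * v * c) * q⁻¹ * (c⁻¹ * v * c)⁻¹) * c⁻¹ := by group
      rw [e, ← h3, mul_inv_cancel_right]; exact h2
    · have h2 : c⁻¹ * w * c = w := by rw [mul_assoc, hCW c hc w hw]; group
      have h3 : q * w * q⁻¹ ∈ W := le_norm_iff.1 hQW q hq w hw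
      calc c * q * c⁻¹ * w * (c * q * c⁻¹)⁻¹ = c * (q * (c⁻¹ * w * c) * q⁻¹) * c⁻¹ := by group
        _ = q * w * q⁻¹ := by rw [h2, ← hCW c hc _ h3]; group
  have h2 := wc_eq hwc hTp h1 (h' := 1) (by rw [cj_one]; exact hQT)
  rwa [cj_one] at h2

end

end Cfsg.Agent.H6

namespace Cfsg.Agent.H6

section
variable {p : ℕ} [hp : Fact p.Prime] {H : Type*} [Group H] [Finite H]

theorem cop_comm {v w : H} (hw : (orderOf w).Coprime p) (hy : ∃ n, (v * w * v⁻¹ * w⁻¹) ^ p ^ n = 1)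
    (hc : (v * w * v⁻¹ * w⁻¹) * w = w * (v * w * v⁻¹ * w⁻¹)) : v * w = w * v := by
  obtain ⟨y, hyd⟩ : ∃ y, y = v * w * v⁻¹ * w⁻¹ := ⟨_, rfl⟩
  rw [← hyd] at hy hc
  obtain ⟨n, hn'⟩ := hy
  have hyx : Commute y w := hc
  have e : y * w = v * w * v⁻¹ := by rw [hyd]; group
  have h5 : y ^ orderOf w = 1 := by
    have h6 : (y * w) ^ orderOf w = 1 := by
      rw [e, conj_pow, pow_orderOf_eq_one, mul_one, mul_inv_cancel]
    rw [hyx.mul_pow, pow_orderOf_eq_one, mul_one] at h6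
    exact h6
  have h7 : y = 1 := by
    have := mem_of_pow_pow (M := (⊥ : Subgroup H)) (k := y) (a := orderOf w) (b := p ^ n) (hw.pow_right n)
      (by rw [mem_bot]; exact h5) (by rw [mem_bot]; exact hn')
    rwa [mem_bot] at this
  rw [h7, one_mul] at e
  exact (mul_inv_eq_iff_eq_mul.1 e.symm)

theorem cp_of_local {Q L : Subgroup H} (hQp : IsPGroup p ↥Q) (hwc : IsWeaklyClosedSubgroup p Q) (hCQ : centralizer (Q : Set H) ≤ Q) (hQL : Q ≤ L)
    {y : H} (hyL : y ∈ pCoreOf p L) (hyQ : ∀ q ∈ Q, q * y = y * q) (hy : CP p (centralizer ({y} : Set H))) : CP p L := by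
  obtain ⟨H₁, hH₁⟩ : ∃ H₁ : Subgroup H, H₁ = centralizer ({y} : Set H) := ⟨_, rfl⟩
  rw [← hH₁] at hy
  obtain ⟨L₁, hL₁⟩ : ∃ L₁, L₁ = L ⊓ H₁ := ⟨_, rfl⟩
  have hQL₁ : Q ≤ L₁ := by
    rw [hL₁]
    refine le_inf hQL fun q hq => ?_
    rw [hH₁, mem_centralizer_singleton_iff]; exact hyQ q hq
  have hL₁H : L₁ ≤ H₁ := by rw [hL₁]; exact inf_le_right
  have h1 := wc_cent_norm hQp hwc hQL₁ hL₁H hy rfl
  obtain ⟨-, -, hcp⟩ := norm_consequences hQp (inf_le_right.trans hCQ) hQL₁ hL₁H rfl h1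
  intro w hw hwo hwc'
  obtain ⟨E, hE⟩ : ∃ E, E = L ⊓ centralizer (pCoreOf p L : Set H) := ⟨_, rfl⟩
  have hwE : w ∈ E := by rw [hE]; exact mem_inf.2 ⟨hw, mem_centralizer_iff.2 hwc'⟩
  have hLE : L ≤ normalizer (E : Set H) := by rw [hE]; exact norm_inf' le_normalizer (norm_cent (le_norm_pCoreOf L))
  have hEL : E ≤ L := by rw [hE]; exact inf_le_left
  have hwL₁ : w ∈ L₁ := by
    rw [hL₁]
    refine mem_inf.2 ⟨hw, ?_⟩
    rw [hH₁, mem_centralizer_singleton_iff]; exact (hwc' y hyL).symm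
  refine hcp w hwL₁ hwo fun v hv => ?_
  have hvL₁ : v ∈ L₁ := pCoreOf_le L₁ hv
  have hvL : v ∈ L := by rw [hL₁] at hvL₁; exact hvL₁.1
  have hyE : v * w * v⁻¹ * w⁻¹ ∈ E := mul_mem (le_norm_iff.1 hLE v hvL w hwE) (inv_mem hwE)
  have hyV : v * w * v⁻¹ * w⁻¹ ∈ pCoreOf p L₁ := by
    have h2 := le_norm_iff.1 (le_norm_pCoreOf (p := p) L₁) w hwL₁ _ (inv_mem hv)
    have e : v * w * v⁻¹ * w⁻¹ = v * (w * v⁻¹ * w⁻¹) := by group
    rw [e]; exact mul_mem hv h2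
  have hLE1 : E ≤ L₁ := by
    intro x hx
    rw [hE] at hx
    rw [hL₁]
    refine mem_inf.2 ⟨hx.1, ?_⟩
    rw [hH₁, mem_centralizer_singleton_iff]; exact (mem_centralizer_iff.1 hx.2 y hyL).symm
  have hyP : v * w * v⁻¹ * w⁻¹ ∈ pCoreOf p L := by
    have h3 : pCoreOf p L₁ ⊓ E ≤ pCoreOf p E := inf_pCoreOf_le hLE1
    exact (pCoreOf_mono_normal hEL hLE) (h3 (mem_inf.2 ⟨hyV, hyE⟩))
  refine cop_comm hwo ?_ (hwc' _ hyP)
  obtain ⟨n, hn⟩ := pCoreOf_isPGroup (p := p) L ⟨_, hyP⟩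
  exact ⟨n, congrArg Subtype.val hn⟩

theorem s2842 {Q L : Subgroup H} (hQp : IsPGroup p ↥Q) (hwc : IsWeaklyClosedSubgroup p Q) (hCQ : centralizer (Q : Set H) ≤ Q) (hQL : Q ≤ L)
    (hyp : CP p (⊤ : Subgroup H) ∨ ∃ y, y ∈ pCoreOf p L ∧ (∀ q ∈ Q, q * y = y * q) ∧ CP p (centralizer ({y} : Set H))) :
    ⁅Q, centralizer (pCoreOf p L : Set H)⁆ ≤ Q ⊓ pCoreOf p L ∧ IsPGroup p ↥(centralizer (pCoreOf p L : Set H)) ∧ CP p L := by
  rcases hyp with h | ⟨y, hyL, hyQ, hy⟩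
  · have h1 := wc_cent_norm hQp hwc hQL le_top h rfl
    have h2 := norm_consequences hQp (inf_le_right.trans hCQ) hQL le_top rfl h1
    rwa [top_inf_eq] at h2
  · obtain ⟨P, hP⟩ : ∃ P, P = pCoreOf p L := ⟨_, rfl⟩
    obtain ⟨C, hC⟩ : ∃ C : Subgroup H, C = centralizer (P : Set H) := ⟨_, rfl⟩
    have hLP : L ≤ normalizer (P : Set H) := hP ▸ le_norm_pCoreOf L
    have hCP : C ≤ normalizer (P : Set H) := by rw [hC]; exact centralizer_le_normalizer _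
    have hPL₃ : P ≤ pCoreOf p (L ⊔ C) := by
      refine le_pCoreOf ?_ (sup_le hLP hCP) (hP ▸ pCoreOf_isPGroup L)
      rw [hP]; exact (pCoreOf_le L).trans le_sup_left
    have hQL₃ : Q ≤ L ⊔ C := hQL.trans le_sup_left
    have hcp : CP p (L ⊔ C) := cp_of_local hQp hwc hCQ hQL₃ (hPL₃ (hP ▸ hyL)) hyQ hy
    have hCeq : C = (L ⊔ C) ⊓ centralizer (pCoreOf p L : Set H) := by
      rw [← hP, ← hC]; exact (inf_eq_right.2 le_sup_right).symm
    have h1 := wc_cent_norm hQp hwc hQL le_sup_left hcp hCeq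
    have h2 := norm_consequences hQp (inf_le_right.trans hCQ) hQL le_sup_left hCeq h1
    rw [← hP, ← hC]
    rwa [← hP] at h2

/-! large subgroups -/

theorem large_norm {Q R : Subgroup H} (hQ1 : Q ≠ ⊥) (hL : IsLarge Q) (hR : IsPGroup p ↥R) (hQR : Q ≤ R) :
    normalizer (R : Set H) ≤ normalizer (Q : Set H) := by
  have hRne : R ≠ ⊥ := by rintro rfl; exact hQ1 (le_bot_iff.1 hQR)
  obtain ⟨z, hz, hzo, hzc⟩ := exists_center_mem hR le_rfl le_normalizer hRne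
  have h1 : normalizer (R : Set H) ≤ normalizer ((R ⊓ centralizer (R : Set H) : Subgroup H) : Set H) :=
    norm_inf' le_rfl (norm_cent le_rfl)
  refine h1.trans (hL.2 _ (inf_le_right.trans (centralizer_le (SetLike.coe_subset_coe.2 hQR))) ?_)
  intro h
  have h2 : z ∈ R ⊓ centralizer (R : Set H) := mem_inf.2 ⟨hz, mem_centralizer_iff.2 hzc⟩
  rw [h, mem_bot] at h2
  rw [h2, orderOf_one] at hzo
  exact hp.out.one_lt.ne hzo

theorem large_wc {Q : Subgroup H} (hQp : IsPGroup p ↥Q) (hQ1 : Q ≠ ⊥) (hL : IsLarge Q) : IsWeaklyClosedSubgroup p Q :=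
  wc_of_norm hQp fun R hR hQR => large_norm hQ1 hL hR hQR

/-- `C_H(Y) ≤ N_H(Q)` for each nontrivial `p`-subgroup `Y` normalized by `Q` -/
theorem large_cent {Q Y : Subgroup H} (hQp : IsPGroup p ↥Q) (hL : IsLarge Q) (hYp : IsPGroup p ↥Y) (hY1 : Y ≠ ⊥)
    (hQY : Q ≤ normalizer (Y : Set H)) : centralizer (Y : Set H) ≤ normalizer (Q : Set H) := by
  have h1 : IsPGroup p ↥(Q ⊔ Y) := IsPGroup.to_sup_of_normal_right' hQp hYp hQY
  obtain ⟨z, hz, hzo, hzc⟩ := exists_center_mem h1 le_sup_right (sup_le hQY le_normalizer) hY1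
  have hz1 : z ≠ 1 := by
    intro h; rw [h, orderOf_one] at hzo; exact hp.out.one_lt.ne hzo
  have h2 : zpowers z ≤ centralizer (Q : Set H) := by
    rw [zpowers_le, mem_centralizer_iff]
    exact fun q hq => hzc q (mem_sup_left hq)
  have h3 := hL.2 _ h2 (by rwa [Ne, zpowers_eq_bot])
  refine le_trans ?_ h3
  intro c hc
  rw [← zpowers_le, le_norm_iff]
  intro a ha b hb
  obtain ⟨i, rfl⟩ := mem_zpowers_iff.1 ha
  obtain ⟨j, rfl⟩ := mem_zpowers_iff.1 hb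
  have h4 : Commute c z := (mem_centralizer_iff.1 hc z hz).symm
  rw [(h4.zpow_zpow i j).eq, mul_inv_cancel_right]
  exact zpow_mem (mem_zpowers z) j

/-- weak closure: conjugates of `Q` in `K` are `K`-conjugates -/
theorem wc_conj_in {Q K : Subgroup H} (hQp : IsPGroup p ↥Q) (hwc : IsWeaklyClosedSubgroup p Q) (hQK : Q ≤ K) {g : H} (hg : cj g Q ≤ K) :
    ∃ k ∈ K, cj g Q = cj k Q := by
  obtain ⟨T, hT, hQT⟩ := exists_sylIn_ge hQp hQK
  obtain ⟨k, hk, hkT⟩ := hT.exists_conj_le (isPGroup_cj hQp) hg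
  rw [← cj_mul] at hkT
  have h1 := wc_eq hwc hT.isPGroup hkT (h' := 1) (by rw [cj_one]; exact hQT)
  rw [cj_one, cj_mul] at h1
  refine ⟨k⁻¹, inv_mem hk, ?_⟩
  rw [← h1, cj_inv_cj, h1]

theorem weakClosure_eq {Q K : Subgroup H} (hQp : IsPGroup p ↥Q) (hwc : IsWeaklyClosedSubgroup p Q) (hQK : Q ≤ K) :
    weakClosure Q K = ⨆ k : ↥K, cj (k : H) Q := by
  refine le_antisymm ?_ ?_
  · refine iSup_le ?_
    rintro ⟨g, hg⟩
    obtain ⟨k, hk, e⟩ := wc_conj_in hQp hwc hQK hg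
    show cj g Q ≤ _
    rw [e]
    exact le_iSup (fun k : ↥K => cj (k : H) Q) ⟨k, hk⟩
  · refine iSup_le fun k => ?_
    have h1 : cj (k : H) Q ≤ K := by
      have := cj_mono (g := (k : H)) hQK
      rwa [cj_of_mem k.2] at this
    exact le_iSup (fun g : {g : H // Q.map (MulAut.conj g).toMonoidHom ≤ K} => Q.map (MulAut.conj (g : H)).toMonoidHom) ⟨k, h1⟩

theorem s2843 {Q L Y : Subgroup H} (hQp : IsPGroup p ↥Q) (hQ1 : Q ≠ ⊥) (hL : IsLarge Q) (hQL : Q ≤ L) (hYp : IsPGroup p ↥Y) (hY1 : Y ≠ ⊥)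
    (hLY : L ≤ normalizer (Y : Set H)) : weakClosure Q L = weakClosure Q (L ⊔ centralizer (Y : Set H)) ∧
      ⁅weakClosure Q L, centralizer (Y : Set H)⁆ ≤ pCoreOf p (weakClosure Q L) ∧
      centralizer (Y : Set H) ≤ normalizer (weakClosure Q L : Set H) := by
  have hwc := large_wc (p := p) hQp hQ1 hL
  obtain ⟨C, hC⟩ : ∃ C : Subgroup H, C = centralizer (Y : Set H) := ⟨_, rfl⟩
  have hCQ : C ≤ normalizer (Q : Set H) := hC ▸ large_cent hQp hL hYp hY1 (hQL.trans hLY)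
  have hLC : L ≤ normalizer (C : Set H) := by rw [hC]; exact norm_cent hLY
  have hCl : ∀ l ∈ L, C ≤ normalizer ((cj l Q : Subgroup H) : Set H) := by
    intro l hl
    have h1 : cj l C = C := cj_of_mem_norm (hLC hl)
    rw [← h1, ← cj_normalizer]
    exact cj_mono hCQ
  rw [← hC]
  obtain ⟨W, hW⟩ : ∃ W, W = weakClosure Q L := ⟨_, rfl⟩
  have hWeq : W = ⨆ k : ↥L, cj (k : H) Q := by rw [hW]; exact weakClosure_eq hQp hwc hQL
  have hQlW : ∀ l ∈ L, cj l Q ≤ W := by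
    intro l hl
    rw [hWeq]; exact le_iSup (fun k : ↥L => cj (k : H) Q) ⟨l, hl⟩
  have hQlL : ∀ l ∈ L, cj l Q ≤ L := by
    intro l hl
    have := cj_mono (g := l) hQL
    rwa [cj_of_mem hl] at this
  have hWL : W ≤ L := by rw [hWeq]; exact iSup_le fun k => hQlL k k.2
  rw [← hW]
  refine ⟨?_, ?_, ?_⟩
  · rw [weakClosure_eq hQp hwc (hQL.trans le_sup_left), hWeq]
    refine le_antisymm (iSup_le fun k => ?_) (iSup_le fun x => ?_)
    · exact le_iSup (fun k : ↥(L ⊔ C) => cj (k : H) Q) ⟨k, mem_sup_left k.2⟩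
    · obtain ⟨l, hl, c, hc, e⟩ : ∃ l ∈ L, ∃ c ∈ C, l * c = (x : H) := by
        have hx : (x : H) ∈ C ⊔ L := by rw [sup_comm]; exact x.2
        obtain ⟨l, hl, c, hc, e⟩ := (L0.mem_sup_of_normalizes' hLC).1 hx
        exact ⟨l, hl, c, hc, e⟩
      rw [← e, cj_mul, cj_of_mem_norm (hCQ hc)]
      exact le_iSup (fun k : ↥L => cj (k : H) Q) ⟨l, hl⟩
  · obtain ⟨D, hD⟩ : ∃ D, D = pCoreOf p C ⊓ W := ⟨_, rfl⟩
    have hWD : W ≤ normalizer (D : Set H) := by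
      rw [hD]; exact norm_inf' ((hWL.trans hLC).trans (norm_le_norm_pCoreOf C)) le_normalizer
    have hDW : D ≤ pCoreOf p W := le_pCoreOf (by rw [hD]; exact inf_le_right) hWD ((pCoreOf_isPGroup C).to_le (by rw [hD]; exact inf_le_left))
    refine le_trans ?_ hDW
    obtain ⟨T, hT⟩ : ∃ T : Subgroup H, ∀ a, a ∈ T ↔ a ∈ W ∧ ∀ c ∈ C, a * c * a⁻¹ * c⁻¹ ∈ D := by
      refine ⟨{ carrier := {a | a ∈ W ∧ ∀ c ∈ C, a * c * a⁻¹ * c⁻¹ ∈ D}, mul_mem' := ?_, one_mem' := ?_, inv_mem' := ?_ }, fun a => Iff.rfl⟩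
      · rintro a b ⟨ha, ha'⟩ ⟨hb, hb'⟩
        refine ⟨mul_mem ha hb, fun c hc => ?_⟩
        have h1 := mul_mem (le_norm_iff.1 hWD a ha _ (hb' c hc)) (ha' c hc)
        have e : a * (b * c * b⁻¹ * c⁻¹) * a⁻¹ * (a * c * a⁻¹ * c⁻¹) = a * b * c * (a * b)⁻¹ * c⁻¹ := by group
        rwa [e] at h1
      · refine ⟨one_mem _, fun c _ => ?_⟩
        have e : (1 : H) * c * 1⁻¹ * c⁻¹ = 1 := by group
        rw [e]; exact one_mem _
      · rintro a ⟨ha, ha'⟩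
        refine ⟨inv_mem ha, fun c hc => ?_⟩
        have h1 := le_norm_iff.1 hWD a⁻¹ (inv_mem ha) _ (inv_mem (ha' c hc))
        have e : a⁻¹ * (a * c * a⁻¹ * c⁻¹)⁻¹ * a⁻¹⁻¹ = a⁻¹ * c * a⁻¹⁻¹ * c⁻¹ := by group
        rwa [e] at h1
    have hWT : W ≤ T := by
      have h0 : (⨆ k : ↥L, cj (k : H) Q) ≤ T := by
        refine iSup_le fun k => ?_
        intro q hq
        rw [hT]
        refine ⟨hQlW k k.2 hq, fun c hc => ?_⟩
        have hqL : q ∈ L := hQlL k k.2 hq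
        have h1 : q * c * q⁻¹ * c⁻¹ ∈ C := mul_mem (le_norm_iff.1 hLC q hqL c hc) (inv_mem hc)
        have h2 : q * c * q⁻¹ * c⁻¹ ∈ cj (k : H) Q := by
          have h3 := le_norm_iff.1 (hCl k k.2) c hc _ (inv_mem hq)
          have e : q * c * q⁻¹ * c⁻¹ = q * (c * q⁻¹ * c⁻¹) := by group
          rw [e]; exact mul_mem hq h3
        rw [hD]
        refine mem_inf.2 ⟨?_, hQlW k k.2 h2⟩
        have h4 : cj (k : H) Q ⊓ C ≤ pCoreOf p C :=
          le_pCoreOf inf_le_right (norm_inf' (hCl k k.2) le_normalizer) ((isPGroup_cj hQp).to_le inf_le_left)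
        exact h4 (mem_inf.2 ⟨h2, h1⟩)
      rwa [← hWeq] at h0
    rw [commutator_le]
    intro a ha c hc
    exact ((hT a).1 (hWT ha)).2 c hc
  · rw [le_norm_iff]
    intro c hc w hw
    have h1 : cj c W ≤ W := by
      rw [hWeq]
      show Subgroup.map (MulAut.conj c).toMonoidHom (⨆ k : ↥L, cj (k : H) Q) ≤ _
      rw [Subgroup.map_iSup]
      refine iSup_le fun k => ?_
      have h2 : cj c (cj (k : H) Q) = cj (k : H) Q := cj_of_mem_norm (hCl k k.2 hc)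
      show cj c (cj (k : H) Q) ≤ _
      rw [h2]
      exact le_iSup (fun k : ↥L => cj (k : H) Q) k
    exact h1 ⟨w, hw, by simp⟩

/-- first part of S2845 -/
theorem large_cp {Q L : Subgroup H} (hQp : IsPGroup p ↥Q) (hL : IsLarge Q) (hQL : Q ≤ L) (hO : pCoreOf p L ≠ ⊥) :
    IsPGroup p ↥(centralizer (pCoreOf p L : Set H)) ∧ CP p L := by
  have h1 := large_cent hQp hL (pCoreOf_isPGroup L) hO (hQL.trans (le_norm_pCoreOf L))
  have h2 := norm_consequences (C := centralizer (pCoreOf p L : Set H)) hQp (inf_le_right.trans hL.1) hQL le_top (top_inf_eq _).symm h1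
  exact ⟨h2.2.1, h2.2.2⟩

end

end Cfsg.Agent.H6
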