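import Cfsg.Agent.H6.Large
import Cfsg.Agent.L0.Coprime2

/-! large subgroups, continued -/

set_option autoImplicit false
set_option linter.unusedSectionVars false
open Cfsg Subgroup

namespace Cfsg.Agent.H6

section
variable {p : ℕ} [hp : Fact p.Prime] {H : Type*} [Group H] [Finite H]

theorem pCoreOf_ne_bot {L : Subgroup H} (h : pCore p ↥L ≠ ⊥) : pCoreOf p L ≠ ⊥ := by
  intro h1
  apply h
  unfold pCoreOf at h1
  rwa [Subgroup.map_eq_bot_iff_of_injective _ L.subtype_injective] at h1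

theorem wc_le {Q K : Subgroup H} (hQK : Q ≤ K) : Q ≤ weakClosure Q K := by
  have h1 : Q.map (MulAut.conj (1 : H)).toMonoidHom ≤ K := by
    show cj 1 Q ≤ K
    rwa [cj_one]
  have h2 := le_iSup (fun g : {g : H // Q.map (MulAut.conj g).toMonoidHom ≤ K} => Q.map (MulAut.conj (g : H)).toMonoidHom) ⟨1, h1⟩
  have h3 : cj 1 Q ≤ weakClosure Q K := h2
  rwa [cj_one] at h3

theorem large_wc_cases {Q L : Subgroup H} (hQp : IsPGroup p ↥Q) (hQ1 : Q ≠ ⊥) (hL : IsLarge Q) (hQL : Q ≤ L) :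
    weakClosure Q L = Q ∨ centralizer (weakClosure Q L : Set H) = ⊥ := by
  by_cases h : centralizer (weakClosure Q L : Set H) = ⊥
  · exact Or.inr h
  left
  have hwc := large_wc (p := p) hQp hQ1 hL
  have hQW := wc_le hQL
  have h1 := hL.2 _ (centralizer_le (SetLike.coe_subset_coe.2 hQW)) h
  have h2 : weakClosure Q L ≤ normalizer (Q : Set H) := by
    refine le_trans ?_ h1
    refine le_trans ?_ (centralizer_le_normalizer _)
    rw [le_centralizer_iff]
  refine le_antisymm ?_ hQW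
  rw [weakClosure_eq hQp hwc hQL]
  refine iSup_le fun l => ?_
  have h3 : cj (l : H) Q ≤ weakClosure Q L := by
    rw [weakClosure_eq hQp hwc hQL]
    exact le_iSup (fun k : ↥L => cj (k : H) Q) l
  have h4 : IsPGroup p ↥(cj (l : H) Q ⊔ Q) := IsPGroup.to_sup_of_normal_right' (isPGroup_cj hQp) hQp (h3.trans h2)
  have h5 := wc_eq hwc h4 (g := (l : H)) le_sup_left (h' := 1) (by rw [cj_one]; exact le_sup_right)
  rw [cj_one] at h5
  exact h5.le

theorem large_parabolic {Q R : Subgroup H} (hQp : IsPGroup p ↥Q) (hL : IsLarge Q) (hR : IsParabolic p R)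
    (hO : pCoreOf p R ≠ ⊥) : centralizer (pCoreOf p R : Set H) ≤ pCoreOf p R := by
  obtain ⟨T, hT⟩ := hR
  obtain ⟨g, hg⟩ := exists_conj_mem_sylow T hQp
  have hQR : Q ≤ cj g⁻¹ R := by
    rw [← cj_le_iff]; exact hg.trans hT
  have h1 : pCoreOf p (cj g⁻¹ R) = cj g⁻¹ (pCoreOf p R) := (pCoreOf_cj' _ _).symm
  have h2 := (large_cp hQp hL hQR (by rw [h1, Ne, cj_eq_bot]; exact hO)).1
  rw [h1, ← cj_centralizer] at h2
  have hCp : IsPGroup p ↥(centralizer (pCoreOf p R : Set H)) := by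
    have h3 := isPGroup_cj (g := g) h2
    rwa [cj_cj_inv] at h3
  have hRC : R ≤ normalizer ((centralizer (pCoreOf p R : Set H) : Subgroup H) : Set H) := norm_cent (le_norm_pCoreOf R)
  have h4 : IsPGroup p ↥((T : Subgroup H) ⊔ centralizer (pCoreOf p R : Set H)) := IsPGroup.to_sup_of_normal_right' T.2 hCp (hT.trans hRC)
  have h5 := T.is_maximal' h4 le_sup_left
  have h6 : centralizer (pCoreOf p R : Set H) ≤ R := (le_sup_right.trans h5.le).trans hT
  exact le_pCoreOf h6 hRC hCp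

theorem s2845 {Q : Subgroup H} (hQp : IsPGroup p ↥Q) (hL : IsLarge Q) :
    IsOfParabolicCharacteristic p H := by
  intro R hR hR1 hpar
  have hRO : R ≤ pCoreOf p (normalizer (R : Set H)) := le_pCoreOf le_normalizer le_rfl hR
  have hO : pCoreOf p (normalizer (R : Set H)) ≠ ⊥ := by
    intro h; rw [h] at hRO; exact hR1 (le_bot_iff.1 hRO)
  have h1 := large_parabolic hQp hL hpar hO
  rw [← cp_iff_cent]
  intro w hw hwo hwc
  have hwC : w ∈ pCoreOf p (normalizer (R : Set H)) := h1 (mem_centralizer_iff.2 hwc)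
  obtain ⟨n, hn⟩ := pCoreOf_isPGroup (p := p) _ ⟨w, hwC⟩
  have hn' : w ^ p ^ n = 1 := congrArg Subtype.val hn
  exact orderOf_eq_one_iff.1 (Nat.eq_one_of_dvd_coprimes (hwo.pow_right n) dvd_rfl (orderOf_dvd_of_pow_eq_one hn'))

/-- the centralizer part of S3003 -/
theorem large_free {Q R G₁ U : Subgroup H} (hQp : IsPGroup p ↥Q) (hL : IsLarge Q) (hQG : Q ≤ G₁) (hR : (Nat.card ↥R).Coprime p)
    (hGR : G₁ ≤ normalizer (R : Set H)) {x : H} (hxU : x ∈ U) (hx1 : x ≠ 1) {g : H} (hg : g ∈ G₁)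
    (hgx : g * x * g⁻¹ ∈ Q ⊓ centralizer (Q : Set H)) : R ⊓ centralizer (U : Set H) = ⊥ := by
  obtain ⟨z, hz⟩ : ∃ z, z = g * x * g⁻¹ := ⟨_, rfl⟩
  rw [← hz] at hgx
  have hz1 : z ≠ 1 := by
    intro h
    rw [h] at hz
    apply hx1
    have : x = g⁻¹ * (g * x * g⁻¹) * g := by group
    rw [this, ← hz]; group
  have hzN : normalizer ((zpowers z : Subgroup H) : Set H) ≤ normalizer (Q : Set H) :=
    hL.2 _ (by rw [zpowers_le]; exact hgx.2) (by rwa [Ne, zpowers_eq_bot])
  have hQR : Q ≤ normalizer (R : Set H) := hQG.trans hGR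
  have hdisj : Q ⊓ R = ⊥ := L0.inf_eq_bot_of_coprime' (coprime_of_p hQp hR).symm
  rw [eq_bot_iff]
  rintro r ⟨hrR, hrC⟩
  obtain ⟨s, hs⟩ : ∃ s, s = g * r * g⁻¹ := ⟨_, rfl⟩
  have hsR : s ∈ R := by rw [hs]; exact le_norm_iff.1 hGR g hg r hrR
  have hsz : Commute s z := by
    have h1 : x * r = r * x := mem_centralizer_iff.1 hrC x hxU
    show s * z = z * s
    calc s * z = g * (r * x) * g⁻¹ := by rw [hs, hz]; group
      _ = g * (x * r) * g⁻¹ := by rw [h1]
      _ = z * s := by rw [hs, hz]; group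
  have hsQ : s ∈ normalizer (Q : Set H) := by
    apply hzN
    rw [← zpowers_le, le_norm_iff]
    intro a ha b hb
    obtain ⟨i, rfl⟩ := mem_zpowers_iff.1 ha
    obtain ⟨j, rfl⟩ := mem_zpowers_iff.1 hb
    rw [(hsz.zpow_zpow i j).eq, mul_inv_cancel_right]
    exact zpow_mem (mem_zpowers z) j
  have hsc : s ∈ centralizer (Q : Set H) := by
    rw [mem_centralizer_iff]
    intro q hq
    have h1 : q * s * q⁻¹ * s⁻¹ ∈ Q ⊓ R := by
      refine mem_inf.2 ⟨?_, mul_mem (le_norm_iff.1 hQR q hq s hsR) (inv_mem hsR)⟩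
      have e : q * s * q⁻¹ * s⁻¹ = q * (s * q⁻¹ * s⁻¹) := by group
      rw [e]
      exact mul_mem hq (le_norm_iff.1 le_rfl s hsQ _ (inv_mem hq))
    rw [hdisj, mem_bot, mul_inv_eq_one, mul_inv_eq_iff_eq_mul] at h1
    exact h1
  have h2 : s ∈ Q ⊓ R := mem_inf.2 ⟨hL.1 hsc, hsR⟩
  rw [hdisj, mem_bot] at h2
  rw [mem_bot]
  have : r = g⁻¹ * s * g := by rw [hs]; group
  rw [this, h2]; group

/-- elementary abelian `U` acting coprimely on `R ≠ 1`: a subgroup of index `≤ p` has nontrivial fixed points -/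
theorem exists_hyper {R U : Subgroup H} (hU : IsElementaryAbelian p U) (hR : (Nat.card ↥R).Coprime p) (hUR : U ≤ normalizer (R : Set H))
    (hR1 : R ≠ ⊥) : ∃ U₁ : Subgroup H, U₁ ≤ U ∧ R ⊓ centralizer (U₁ : Set H) ≠ ⊥ ∧ ∀ W : Subgroup H, W ≤ U → W ⊓ U₁ = ⊥ → IsCyclic ↥W := by
  have hel := elab_iff.1 hU
  obtain ⟨U₁, ⟨hU₁, hU₁c⟩, hmax⟩ := WellFounded.has_min (wellFounded_gt : WellFounded ((· > ·) : Subgroup H → Subgroup H → Prop))
    {V : Subgroup H | V ≤ U ∧ R ⊓ centralizer (V : Set H) ≠ ⊥} ⟨⊥, bot_le, by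
      have h1 : R ⊓ centralizer ((⊥ : Subgroup H) : Set H) = R := by
        refine inf_eq_left.2 fun r _ => ?_
        rw [mem_centralizer_iff]
        intro a ha
        have : a = 1 := by simpa using ha
        rw [this, one_mul, mul_one]
      rw [h1]; exact hR1⟩
  refine ⟨U₁, hU₁, hU₁c, ?_⟩
  intro W hWU hWU₁
  by_contra hnc
  obtain ⟨R₁, hR₁⟩ : ∃ R₁, R₁ = R ⊓ centralizer (U₁ : Set H) := ⟨_, rfl⟩
  rw [← hR₁] at hU₁c
  have hUU₁ : U ≤ normalizer (U₁ : Set H) := by
    rw [le_norm_iff]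
    intro a ha b hb
    rw [hel.1 a ha b (hU₁ hb), mul_inv_cancel_right]; exact hb
  have hWR₁ : W ≤ normalizer (R₁ : Set H) := by
    rw [hR₁]; exact hWU.trans (norm_inf' hUR (norm_cent hUU₁))
  have hWab : IsMulCommutative ↥W := isMulComm_of fun a ha b hb => hel.1 a (hWU ha) b (hWU hb)
  have hcop : (Nat.card W).Coprime (Nat.card R₁) := by
    have h1 : (Nat.card R₁).Coprime p := Nat.Coprime.coprime_dvd_left (Subgroup.card_dvd_of_le (by rw [hR₁]; exact inf_le_left)) hR
    exact (coprime_of_p ((elab_isPGroup hU).to_le hWU) h1).symm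
  have hcl := L0.closure_centralizers_eq (E := W) (N := R₁) hWab hnc hWR₁ hcop
  have hex : ∃ r ∈ R₁, r ≠ 1 ∧ ∃ w ∈ W, w ≠ 1 ∧ w * r = r * w := by
    by_contra hcon
    push Not at hcon
    apply hU₁c
    rw [eq_bot_iff, ← hcl, closure_le]
    rintro r ⟨hr, w, hw, hw1, hwr⟩
    by_contra h
    have hr1 : r ≠ 1 := fun h2 => h (by rw [h2]; exact one_mem _)
    exact hcon r hr hr1 w hw hw1 hwr
  obtain ⟨r, hr, hr1, w, hw, hw1, hwr⟩ := hex
  have hwU₁ : w ∉ U₁ := by
    intro h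
    have h1 : w ∈ W ⊓ U₁ := mem_inf.2 ⟨hw, h⟩
    rw [hWU₁, mem_bot] at h1
    exact hw1 h1
  refine hmax (U₁ ⊔ zpowers w) ⟨sup_le hU₁ (by rw [zpowers_le]; exact hWU hw), ?_⟩ ?_
  · intro h
    have h1 : r ∈ R ⊓ centralizer ((U₁ ⊔ zpowers w : Subgroup H) : Set H) := by
      rw [hR₁] at hr
      refine mem_inf.2 ⟨hr.1, ?_⟩
      have h2 : U₁ ⊔ zpowers w ≤ centralizer {r} := by
        refine sup_le ?_ ?_
        · intro a ha
          exact mem_centralizer_singleton_iff.2 (mem_centralizer_iff.1 hr.2 a ha)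
        · rw [zpowers_le]; exact mem_centralizer_singleton_iff.2 hwr
      rw [mem_centralizer_iff]
      intro a ha
      exact mem_centralizer_singleton_iff.1 (h2 ha)
    rw [h, mem_bot] at h1
    exact hr1 h1
  · refine lt_of_le_of_ne le_sup_left fun h => hwU₁ ?_
    rw [h]; exact mem_sup_right (mem_zpowers w)

theorem exists_hyper' {R U : Subgroup H} (hU : IsElementaryAbelian p U) (hR : (Nat.card ↥R).Coprime p) (hUR : U ≤ normalizer (R : Set H))
    (hR1 : R ≠ ⊥) (hU1 : U ≠ ⊥) : ∃ U₀ : Subgroup H, U₀ ≤ U ∧ IsCoatom (U₀.subgroupOf U) ∧ R ⊓ centralizer (U₀ : Set H) ≠ ⊥ := by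
  have hel := elab_iff.1 hU
  obtain ⟨U₁, hU₁, hU₁c, hW⟩ := exists_hyper hU hR hUR hR1
  have hmono : ∀ V : Subgroup H, V ≤ U₁ → R ⊓ centralizer (V : Set H) ≠ ⊥ := by
    intro V hV h
    apply hU₁c
    rw [eq_bot_iff, ← h]
    exact inf_le_inf_left _ (centralizer_le (SetLike.coe_subset_coe.2 hV))
  haveI : Nontrivial ↥U := (Subgroup.nontrivial_iff_ne_bot U).2 hU1
  rcases eq_top_or_exists_le_coatom (U₁.subgroupOf U) with h | ⟨M, hM, hUM⟩
  · have hUU₁ : U ≤ U₁ := Subgroup.subgroupOf_eq_top.1 h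
    obtain ⟨M, hM, -⟩ := (eq_top_or_exists_le_coatom (⊥ : Subgroup ↥U)).resolve_left bot_ne_top
    refine ⟨M.map U.subtype, Subgroup.map_subtype_le M, ?_, hmono _ ((Subgroup.map_subtype_le M).trans hUU₁)⟩
    have e : (M.map U.subtype).subgroupOf U = M := by
      rw [Subgroup.subgroupOf, Subgroup.comap_map_eq_self_of_injective U.subtype_injective]
    rw [e]; exact hM
  · have hMeq : M = U₁.subgroupOf U := by
      refine le_antisymm ?_ hUM
      by_contra hcon
      obtain ⟨m, hm, hmU⟩ := Set.not_subset.1 hcon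
      obtain ⟨u, -, hu⟩ := Set.not_subset.1 (show ¬ ((⊤ : Subgroup ↥U) : Set ↥U) ⊆ (M : Set ↥U) from fun h => hM.1 (top_le_iff.1 h))
      have hmU' : (m : H) ∉ U₁ := hmU
      have hWU : zpowers (m : H) ⊔ zpowers (u : H) ≤ U := sup_le (by rw [zpowers_le]; exact m.2) (by rw [zpowers_le]; exact u.2)
      have hcyc := hW (zpowers (m : H) ⊔ zpowers (u : H)) hWU (by
        rw [eq_bot_iff]
        rintro x ⟨hx, hxU⟩
        have hn : zpowers (u : H) ≤ normalizer ((zpowers (m : H) : Subgroup H) : Set H) := by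
          rw [le_norm_iff]
          intro a ha b hb
          have ha' : a ∈ U := (show zpowers (u : H) ≤ U by rw [zpowers_le]; exact u.2) ha
          have hb' : b ∈ U := (show zpowers (m : H) ≤ U by rw [zpowers_le]; exact m.2) hb
          rw [hel.1 a ha' b hb', mul_inv_cancel_right]; exact hb
        obtain ⟨a, ha, b, hb, rfl⟩ := (L0.mem_sup_of_normalizes hn).1 hx
        obtain ⟨i, rfl⟩ := mem_zpowers_iff.1 ha
        obtain ⟨j, rfl⟩ := mem_zpowers_iff.1 hb
        have hxM : m ^ i * u ^ j ∈ M := hUM (show ((m ^ i * u ^ j : ↥U) : H) ∈ U₁ from hxU)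
        have huj : u ^ j ∈ M := by
          have := mul_mem (inv_mem (zpow_mem hm i)) hxM
          rwa [inv_mul_cancel_left] at this
        have hup : u ^ (p : ℤ) ∈ M := by
          have : u ^ (p : ℤ) = 1 := Subtype.ext (by rw [zpow_natCast]; exact hel.2 u u.2)
          rw [this]; exact one_mem _
        have hpj : (p : ℤ) ∣ j := by
          by_contra hnd
          have hcop : IsCoprime (p : ℤ) j := (Nat.prime_iff_prime_int.1 hp.out).coprime_iff_not_dvd.2 hnd
          obtain ⟨α, β, hab⟩ := hcop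
          apply hu
          have : u = (u ^ (p : ℤ)) ^ α * (u ^ j) ^ β := by
            rw [← zpow_mul, ← zpow_mul, ← zpow_add, mul_comm (p : ℤ) α, mul_comm j β, hab, zpow_one]
          rw [this]
          exact mul_mem (zpow_mem hup α) (zpow_mem huj β)
        have huj1 : (u : H) ^ j = 1 := by
          obtain ⟨t, rfl⟩ := hpj
          rw [zpow_mul, zpow_natCast, hel.2 u u.2, one_zpow]
        rw [huj1, mul_one] at hxU ⊢
        have hpi : (p : ℤ) ∣ i := by
          by_contra hnd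
          have hcop : IsCoprime (p : ℤ) i := (Nat.prime_iff_prime_int.1 hp.out).coprime_iff_not_dvd.2 hnd
          obtain ⟨α, β, hab⟩ := hcop
          apply hmU'
          have : (m : H) = ((m : H) ^ (p : ℤ)) ^ α * ((m : H) ^ i) ^ β := by
            rw [← zpow_mul, ← zpow_mul, ← zpow_add, mul_comm (p : ℤ) α, mul_comm i β, hab, zpow_one]
          rw [this]
          have hxU' : (m : H) ^ i ∈ U₁ := hxU
          refine mul_mem (zpow_mem ?_ α) (zpow_mem hxU' β)
          rw [zpow_natCast, hel.2 m m.2]; exact one_mem _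
        obtain ⟨t, rfl⟩ := hpi
        rw [zpow_mul, zpow_natCast, hel.2 m m.2, one_zpow]
        exact one_mem _)
      -- cyclic of exponent `p`
      obtain ⟨g, hg⟩ := hcyc.exists_generator
      have hgp : (g : H) ^ p = 1 := hel.2 _ (hWU g.2)
      have hcard : Nat.card ↥(zpowers (m : H) ⊔ zpowers (u : H) : Subgroup H) ∣ p := by
        rw [← orderOf_eq_card_of_forall_mem_zpowers hg]
        exact orderOf_dvd_of_pow_eq_one (Subtype.ext hgp)
      have hm1 : (m : H) ≠ 1 := fun h => hmU' (by rw [h]; exact one_mem _)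
      have hmo : orderOf (m : H) = p := orderOf_eq_prime (hel.2 m m.2) hm1
      have heq : zpowers (m : H) = zpowers (m : H) ⊔ zpowers (u : H) := by
        refine Subgroup.eq_of_le_of_card_ge le_sup_left ?_
        rw [Nat.card_zpowers, hmo]
        exact Nat.le_of_dvd hp.out.pos hcard
      have huz : (u : H) ∈ zpowers (m : H) := by rw [heq]; exact mem_sup_right (mem_zpowers _)
      apply hu
      obtain ⟨i, hi⟩ := mem_zpowers_iff.1 huz
      have : u = m ^ i := Subtype.ext hi.symm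
      rw [this]; exact zpow_mem hm i
    refine ⟨U₁, hU₁, ?_, hU₁c⟩
    rw [← hMeq]; exact hM

end

end Cfsg.Agent.H6
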