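import Cfsg.Agent.H6.Large2
import Cfsg.Agent.H1.Transfer

/-! weakly closed subgroups in overgroups and quotients -/

set_option autoImplicit false
set_option linter.unusedSectionVars false
open Cfsg Subgroup

namespace Cfsg.Agent.H6

section
variable {p : ℕ} [hp : Fact p.Prime] {H : Type*} [Group H] [Finite H]

theorem cj_subgroupOf {K Q : Subgroup H} (hQK : Q ≤ K) (k : ↥K) : cj k (Q.subgroupOf K) = (cj (k : H) Q).subgroupOf K := by
  apply Subgroup.map_injective K.subtype_injective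
  have h1 : cj (k : H) Q ≤ K := by
    have := cj_mono (g := (k : H)) hQK
    rwa [cj_of_mem k.2] at this
  rw [Subgroup.map_subgroupOf_eq_of_le h1]
  have h2 : (cj k (Q.subgroupOf K)).map K.subtype = cj (k : H) ((Q.subgroupOf K).map K.subtype) := map_cj K.subtype _ _
  rw [h2, Subgroup.map_subgroupOf_eq_of_le hQK]

theorem wc_sub {Q K : Subgroup H} (hQp : IsPGroup p ↥Q) (hwc : IsWeaklyClosedSubgroup p Q) (hQK : Q ≤ K) :
    ∃ T : Sylow p ↥K, Q.subgroupOf K ≤ (T : Subgroup ↥K) ∧ (∀ g, cj g (Q.subgroupOf K) ≤ (T : Subgroup ↥K) → cj g (Q.subgroupOf K) = Q.subgroupOf K) ∧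
      (T : Subgroup ↥K).map K.subtype ≤ normalizer (Q : Set H) := by
  have h1 : IsPGroup p ↥(Q.subgroupOf K) := hQp.comap_of_injective _ K.subtype_injective
  obtain ⟨T, hT⟩ := h1.exists_le_sylow
  have hQT : Q ≤ (T : Subgroup ↥K).map K.subtype := by
    rw [← Subgroup.map_subgroupOf_eq_of_le hQK]; exact Subgroup.map_mono hT
  have hTp : IsPGroup p ↥((T : Subgroup ↥K).map K.subtype) := T.2.map _
  refine ⟨T, hT, fun k hk => ?_, le_normalizer.trans (wc_norm hwc hTp hQT)⟩
  have h2 : cj (k : H) Q ≤ (T : Subgroup ↥K).map K.subtype := by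
    have h3 := Subgroup.map_mono (f := K.subtype) hk
    have h4 : (cj k (Q.subgroupOf K)).map K.subtype = cj (k : H) ((Q.subgroupOf K).map K.subtype) := map_cj K.subtype _ _
    rwa [h4, Subgroup.map_subgroupOf_eq_of_le hQK] at h3
  have h3 := wc_eq hwc hTp h2 (h' := 1) (by rw [cj_one]; exact hQT)
  rw [cj_subgroupOf hQK, h3, cj_one]

theorem wc_subnormal {Q : Subgroup H} (hQp : IsPGroup p ↥Q) (hwc : IsWeaklyClosedSubgroup p Q) {N : Subgroup H} (hN : N.IsSubnormal) :
    Q ≤ N → ∀ g, cj g Q ≤ N := by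
  induction hN with
  | top => intro _ g; exact le_top
  | step A B h_le _ hn ih =>
    intro hQA g
    obtain ⟨k, hk, e⟩ := wc_conj_in hQp hwc (hQA.trans h_le) (ih (hQA.trans h_le) g)
    rw [e]
    have h1 : B ≤ normalizer (A : Set H) := by rw [← Subgroup.normal_subgroupOf_iff_le_normalizer h_le]; exact hn
    have h2 := cj_mono (g := k) hQA
    rwa [cj_of_mem_norm (h1 hk)] at h2

theorem s2840 {Q K : Subgroup H} (hQp : IsPGroup p ↥Q) (hwc : IsWeaklyClosedSubgroup p Q) (hQK : Q ≤ K) :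
    weakClosure Q K = (subnormalClosure (Q.subgroupOf K)).map K.subtype := by
  obtain ⟨T, hT1, hT2, -⟩ := wc_sub hQp hwc hQK
  have hwcK : IsWeaklyClosedSubgroup p (Q.subgroupOf K) := ⟨T, hT1, hT2⟩
  have hQKp : IsPGroup p ↥(Q.subgroupOf K) := hQp.comap_of_injective _ K.subtype_injective
  obtain ⟨W, hW⟩ : ∃ W, W = weakClosure Q K := ⟨_, rfl⟩
  have hWeq : W = ⨆ k : ↥K, cj (k : H) Q := by rw [hW]; exact weakClosure_eq hQp hwc hQK
  have hWK : W ≤ K := by
    rw [hWeq]
    refine iSup_le fun k => ?_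
    have := cj_mono (g := (k : H)) hQK
    rwa [cj_of_mem k.2] at this
  have hWn : (W.subgroupOf K).Normal := by
    rw [Subgroup.normal_subgroupOf_iff_le_normalizer hWK]
    intro k hk
    rw [mem_norm]
    have h1 : ∀ k ∈ K, cj k W ≤ W := by
      intro k hk
      rw [hWeq]
      show Subgroup.map (MulAut.conj k).toMonoidHom (⨆ l : ↥K, cj (l : H) Q) ≤ _
      rw [Subgroup.map_iSup]
      refine iSup_le fun l => ?_
      have h2 : cj k (cj (l : H) Q) = cj ((⟨k, hk⟩ * l : ↥K) : H) Q := by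
        rw [← cj_mul]; rfl
      show cj k (cj (l : H) Q) ≤ _
      rw [h2]
      exact le_iSup (fun l : ↥K => cj (l : H) Q) (⟨k, hk⟩ * l)
    refine le_antisymm (h1 k hk) ?_
    have h3 := cj_mono (g := k) (h1 k⁻¹ (inv_mem hk))
    rwa [cj_cj_inv] at h3
  rw [← hW, ← Subgroup.map_subgroupOf_eq_of_le hWK]
  congr 1
  refine le_antisymm ?_ ?_
  · refine le_sInf ?_
    rintro N ⟨hQN, hN⟩
    have h1 := wc_subnormal hQKp hwcK hN hQN
    have h2 : W ≤ N.map K.subtype := by
      rw [hWeq]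
      refine iSup_le fun k => ?_
      have h3 := Subgroup.map_mono (f := K.subtype) (h1 k)
      have h4 : (cj k (Q.subgroupOf K)).map K.subtype = cj (k : H) ((Q.subgroupOf K).map K.subtype) := map_cj K.subtype _ _
      rwa [h4, Subgroup.map_subgroupOf_eq_of_le hQK] at h3
    intro x hx
    obtain ⟨y, hy, e⟩ := h2 (show (x : H) ∈ W from hx)
    have : y = x := Subtype.ext e
    rwa [← this]
  · refine sInf_le ⟨?_, hWn.isSubnormal⟩
    intro x hx
    have hx' : (x : H) ∈ Q := hx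
    show (x : H) ∈ W
    rw [hW]; exact wc_le hQK hx'

theorem s2844a {Q : Subgroup H} (hQp : IsPGroup p ↥Q) (hQ1 : Q ≠ ⊥) (hL : IsLarge Q) {g : H} (hg : g ∉ normalizer (Q : Set H)) :
    centralizer (Q : Set H) ⊓ centralizer ((cj g Q : Subgroup H) : Set H) = ⊥ := by
  by_contra hU
  obtain ⟨U, hUd⟩ : ∃ U, U = centralizer (Q : Set H) ⊓ centralizer ((cj g Q : Subgroup H) : Set H) := ⟨_, rfl⟩
  rw [← hUd] at hU
  have h1 : cj g⁻¹ U ≤ centralizer (Q : Set H) := by
    rw [cj_le_iff, inv_inv, cj_centralizer, hUd]; exact inf_le_right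
  have h2 := hL.2 _ h1 (by rw [Ne, cj_eq_bot]; exact hU)
  have h3 : normalizer (U : Set H) ≤ normalizer ((cj g Q : Subgroup H) : Set H) := by
    rw [← cj_normalizer] at h2 ⊢
    rw [← cj_le_cj (g := g)] at h2
    rwa [cj_cj_inv] at h2
  have h4 : Q ≤ normalizer ((cj g Q : Subgroup H) : Set H) := by
    refine le_trans ?_ h3
    refine le_trans ?_ (centralizer_le_normalizer _)
    rw [le_centralizer_iff, hUd]; exact inf_le_left
  have h5 : IsPGroup p ↥(Q ⊔ cj g Q) := IsPGroup.to_sup_of_normal_right' hQp (isPGroup_cj hQp) h4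
  have h6 := wc_eq (large_wc hQp hQ1 hL) h5 (g := g) le_sup_right (h' := 1) (by rw [cj_one]; exact le_sup_left)
  rw [cj_one] at h6
  exact hg (mem_norm.2 h6)

theorem cent_anti {A B : Subgroup H} (h : A ≤ B) : centralizer (B : Set H) ≤ centralizer (A : Set H) :=
  centralizer_le (SetLike.coe_subset_coe.2 h)

theorem s2844 {Q Qb : Subgroup H} (hQp : IsPGroup p ↥Q) (hQ1 : Q ≠ ⊥) (hL : IsLarge Q) (hQb : Qb = pCoreOf p (normalizer (Q : Set H))) :
    Q ≤ Qb ∧ normalizer (Q : Set H) = normalizer (Qb : Set H) ∧ IsLarge Qb := by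
  have h1 : Q ≤ Qb := by rw [hQb]; exact le_pCoreOf le_normalizer le_rfl hQp
  have h2 : normalizer (Q : Set H) = normalizer (Qb : Set H) := by
    refine le_antisymm ?_ ?_
    · rw [hQb]; exact le_norm_pCoreOf _
    · exact large_norm hQ1 hL (by rw [hQb]; exact pCoreOf_isPGroup _) h1
  refine ⟨h1, h2, ?_, ?_⟩
  · exact (cent_anti h1).trans (hL.1.trans h1)
  · intro U hU hU1
    rw [← h2]
    exact hL.2 U (hU.trans (cent_anti h1)) hU1

end

end Cfsg.Agent.H6
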