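import Cfsg.Agent.H6.MS2

/-! S2817 -/

set_option autoImplicit false
set_option linter.unusedSectionVars false
open Cfsg Subgroup
open scoped commutatorElement

namespace Cfsg.Agent.H6

section
variable {p : ℕ} [hp : Fact p.Prime] {H : Type*} [Group H] [Finite H]

/-- splitting for normal subgroups of `F*(H)` -/
theorem split_in_genFit (hO : pCore p H = ⊥) {L Y : Subgroup H} (hY : IsPGroup p ↥Y) (hLF : L ≤ generalizedFittingSubgroup H)
    (hLn : generalizedFittingSubgroup H ≤ normalizer (L : Set H)) (hYL : Y ≤ normalizer (L : Set H)) :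
    ⁅L, Y⁆ ⊔ (L ⊓ centralizer (Y : Set H)) = L ∧ ⁅L, Y⁆ = ⁅⁅L, Y⁆, Y⁆ := by
  have hLs : L.IsSubnormal := Subgroup.IsSubnormal.step _ _ hLF (Subgroup.Normal.isSubnormal inferInstance)
    ((Subgroup.normal_subgroupOf_iff_le_normalizer hLF).2 hLn)
  refine split_subnormal (H := (⊤ : Subgroup H)) ?_ hY ?_ ?_ hYL
  · rw [← L0.pCore_map_equiv p (Subgroup.topEquiv (G := H)).symm, hO, Subgroup.map_bot]
  · intro x hx
    rw [← L0.generalizedFittingSubgroup_map_equiv (Subgroup.topEquiv (G := H)).symm]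
    exact ⟨_, ⟨x, hLF hx, rfl⟩, rfl⟩
  · exact hLs.subgroupOf

/-- every element of `F*` of a group with trivial `O_p` is a product of a `p'`-element of `L` and an element of `L'`; here in the
form: `L = F*(L)`, `O_p(L) = 1`, then `x ^ m ∈ [L, L]` for some `m` prime to `p` -/
theorem exists_pow_comm {L : Type*} [Group L] [Finite L] (hgen : generalizedFittingSubgroup L = ⊤) (hO : pCore p L = ⊥) (x : L) :
    ∃ m : ℕ, m.Coprime p ∧ x ^ m ∈ commutator L := by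
  have hx : x ∈ layer L ⊔ fittingSubgroup L := by
    have : x ∈ generalizedFittingSubgroup L := hgen ▸ mem_top x
    exact this
  obtain ⟨e, he, f, hf, rfl⟩ := mem_sup_of_normal_left.1 hx
  have hlay : layer L ≤ commutator L := by
    rw [L0.layer_le_iff]
    intro K hK
    rw [← L0.commutator_self_of_isQuasisimple hK.2]
    exact Subgroup.commutator_mono le_top le_top
  refine ⟨orderOf f, Nat.Coprime.coprime_dvd_left (Subgroup.orderOf_dvd_natCard _ hf) (fitting_coprime hO), ?_⟩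
  have hc : Commute e f := by
    have := (commutator_eq_bot_iff_le_centralizer).1 (L0.layer_commutator_fitting L)
    exact (mem_centralizer_iff.1 (this he) f hf).symm
  rw [hc.mul_pow, pow_orderOf_eq_one, mul_one]
  exact pow_mem (hlay he) _

theorem s2817 (hO : pCore p H = ⊥) {Q L F X : Subgroup H} (hX : X = generalizedFittingSubgroup H) (hQ : IsPGroup p ↥Q) (hL : L = ⁅X, Q⁆)
    (hF : F ≤ X ∧ X ≤ normalizer (F : Set H) ∧ Q ≤ centralizer (F : Set H) ∧
      ∀ N : Subgroup H, N ≤ X → X ≤ normalizer (N : Set H) → Q ≤ centralizer (N : Set H) → N ≤ F) :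
    F = X ⊓ centralizer ((L ⊔ Q : Subgroup H) : Set H) ∧ ⁅L, Q⁆ = L ∧ L ⊓ F ≤ (frattini ↥L).map L.subtype ∧
      (∀ B : Subgroup H, IsPGroup p ↥B → B ≤ normalizer (Q : Set H) → ⁅L, B⁆ ≤ F → ⁅L, B⁆ = ⊥) ∧
      (Nat.card ↥(centralizer ((F ⊔ L : Subgroup H) : Set H))).Coprime p := by
  haveI hXn : X.Normal := by rw [hX]; infer_instance
  obtain ⟨hFX, hXF, hQF, hFmax⟩ := hF
  have hLX : L ≤ X := hL ▸ Subgroup.commutator_le_left _ _
  have hXL : X ≤ normalizer (L : Set H) := hL ▸ Subgroup.normalizer_commutator_ge_left _ _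
  have hQL : Q ≤ normalizer (L : Set H) := hL ▸ Subgroup.normalizer_commutator_ge_right _ _
  have hXtop : ∀ Y : Subgroup H, Y ≤ normalizer (X : Set H) := fun Y => le_top.trans (normalizer_eq_top X).ge
  have split : ∀ {M Y : Subgroup H}, IsPGroup p ↥Y → M ≤ X → X ≤ normalizer (M : Set H) → Y ≤ normalizer (M : Set H) →
      ⁅M, Y⁆ ⊔ (M ⊓ centralizer (Y : Set H)) = M ∧ ⁅M, Y⁆ = ⁅⁅M, Y⁆, Y⁆ := by
    intro M Y h1 h2 h3 h4
    exact split_in_genFit hO h1 (hX ▸ h2) (hX ▸ h3) h4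
  -- (2)
  have h2 : ⁅L, Q⁆ = L := by
    conv_rhs => rw [hL, (split hQ le_rfl (hXtop X) (hXtop Q)).2]
    rw [hL]
  -- F centralizes L
  have hQF0 : ⁅F, Q⁆ = ⊥ := by
    rw [Subgroup.commutator_comm, commutator_eq_bot_iff_le_centralizer]; exact hQF
  have hLF0 : ⁅L, F⁆ = ⊥ := by
    have h3 : ⁅⁅F, X⁆, Q⁆ = ⊥ := by
      rw [eq_bot_iff, ← hQF0]
      refine Subgroup.commutator_mono ?_ le_rfl
      rw [commutator_le]
      intro f hf x hx
      rw [commutatorElement_def]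
      have := (le_norm_iff.1 hXF) x hx _ (inv_mem hf)
      have e : f * x * f⁻¹ * x⁻¹ = f * (x * f⁻¹ * x⁻¹) := by group
      rw [e]; exact mul_mem hf this
    have h4 : ⁅⁅Q, F⁆, X⁆ = ⊥ := by rw [Subgroup.commutator_comm Q F, hQF0, Subgroup.commutator_bot_left]
    rw [hL]
    exact Subgroup.commutator_commutator_eq_bot_of_rotate h4 h3
  have hFL : F ≤ centralizer (L : Set H) := by
    rw [Subgroup.commutator_comm, commutator_eq_bot_iff_le_centralizer] at hLF0; exact hLF0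
  have hLFc : L ≤ centralizer (F : Set H) := by
    rw [Subgroup.commutator_comm, commutator_eq_bot_iff_le_centralizer] at hLF0
    intro l hl
    rw [mem_centralizer_iff]
    intro f hf
    exact (mem_centralizer_iff.1 (hLF0 hf) l hl).symm
  have hFc : F ≤ centralizer ((L ⊔ Q : Subgroup H) : Set H) := by
    intro f hf
    have h3 : L ⊔ Q ≤ centralizer ({f} : Set H) := by
      refine sup_le ?_ ?_
      · intro l hl
        rw [mem_centralizer_singleton_iff]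
        exact mem_centralizer_iff.1 (hFL hf) l hl
      · intro l hl
        rw [mem_centralizer_singleton_iff]
        exact (mem_centralizer_iff.1 (hQF hl) f hf).symm
    rw [mem_centralizer_iff]
    intro l hl
    exact mem_centralizer_singleton_iff.1 (h3 hl)
  -- (1)
  have h1 : F = X ⊓ centralizer ((L ⊔ Q : Subgroup H) : Set H) := by
    apply le_antisymm (le_inf hFX hFc)
    apply hFmax _ inf_le_left
    · refine norm_inf' le_normalizer (norm_cent ?_)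
      rw [le_norm_iff]
      intro x hx y hy
      obtain ⟨l, hl, q, hq, rfl⟩ := (L0.mem_sup_of_normalizes hQL).1 hy
      have e : x * (l * q) * x⁻¹ = (x * l * x⁻¹) * (x * q * x⁻¹ * q⁻¹) * q := by group
      rw [e]
      refine mul_mem (mul_mem (le_sup_left (b := Q) ((le_norm_iff.1 hXL) x hx l hl)) (le_sup_left (b := Q) ?_)) (le_sup_right (a := L) hq)
      rw [hL]; exact comm_el hx hq
    · intro q hq
      rw [mem_centralizer_iff]
      intro y hy
      exact (mem_centralizer_iff.1 (mem_inf.1 hy).2 q (le_sup_right (a := L) hq)).symm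
  -- D = L ∩ F ≤ L'
  have hLgen : generalizedFittingSubgroup ↥L = ⊤ := by
    have hLs : L.IsSubnormal := Subgroup.IsSubnormal.step _ _ hLX hXn.isSubnormal
      ((Subgroup.normal_subgroupOf_iff_le_normalizer hLX).2 hXL)
    have h3 := inf_genFit_le hLs
    rw [inf_eq_right.2 (hX ▸ hLX)] at h3
    rw [eq_top_iff]
    intro x _
    obtain ⟨y, hy, hyx⟩ := h3 x.2
    have : y = x := Subtype.ext hyx
    rwa [← this]
  have hLO : pCore p ↥L = ⊥ := by
    have hLs : L.IsSubnormal := Subgroup.IsSubnormal.step _ _ hLX hXn.isSubnormal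
      ((Subgroup.normal_subgroupOf_iff_le_normalizer hLX).2 hXL)
    exact pCore_subnormal_bot hO hLs
  obtain ⟨L', hL'⟩ : ∃ L' : Subgroup H, L' = ⁅L, L⁆ := ⟨_, rfl⟩
  have hL'L : L' ≤ L := hL' ▸ Subgroup.commutator_le_self L
  have hcommL : ∀ x ∈ L, ∃ m : ℕ, m.Coprime p ∧ x ^ m ∈ L' := by
    intro x hx
    obtain ⟨m, hm, hmx⟩ := exists_pow_comm hLgen hLO ⟨x, hx⟩
    refine ⟨m, hm, ?_⟩
    have h3 := mem_map_of_mem L.subtype hmx
    rw [_root_.commutator_def, Subgroup.map_commutator, ← MonoidHom.range_eq_map, L.range_subtype, ← hL'] at h3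
    exact h3
  have hDL' : L ⊓ F ≤ L' := by
    -- work in (L ⊔ Q) / L'
    obtain ⟨Y, hY⟩ : ∃ Y : Subgroup H, Y = L ⊔ Q := ⟨_, rfl⟩
    have hLY : L ≤ Y := hY ▸ le_sup_left
    have hQY : Q ≤ Y := hY ▸ le_sup_right
    have hYL' : Y ≤ normalizer (L' : Set H) := by
      rw [hY, hL']
      exact norm_comm (sup_le le_normalizer hQL) (sup_le le_normalizer hQL)
    haveI hn : (L'.subgroupOf Y).Normal := (Subgroup.normal_subgroupOf_iff_le_normalizer (hL'L.trans hLY)).2 hYL'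
    obtain ⟨π, hπ⟩ : ∃ π : ↥Y →* (↥Y ⧸ L'.subgroupOf Y), ∀ x, π x = 1 ↔ (x : H) ∈ L' :=
      ⟨QuotientGroup.mk' _, fun x => by rw [QuotientGroup.mk'_apply, QuotientGroup.eq_one_iff, mem_subgroupOf]⟩
    obtain ⟨LL, hLL⟩ : ∃ LL, LL = (L.subgroupOf Y).map π := ⟨_, rfl⟩
    obtain ⟨QQ, hQQ⟩ : ∃ QQ, QQ = (Q.subgroupOf Y).map π := ⟨_, rfl⟩
    have hab : ∀ a ∈ LL, ∀ b ∈ LL, a * b = b * a := by
      rw [hLL]
      rintro _ ⟨a, ha, rfl⟩ _ ⟨b, hb, rfl⟩
      have h3 : π (a * b * a⁻¹ * b⁻¹) = 1 := (hπ _).2 (hL' ▸ comm_el ha hb)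
      rw [map_mul, map_mul, map_mul, map_inv, map_inv, mul_inv_eq_one, mul_inv_eq_iff_eq_mul] at h3
      exact h3
    have hQn : QQ ≤ normalizer (LL : Set (↥Y ⧸ L'.subgroupOf Y)) := by
      rw [hQQ, hLL, le_norm_iff]
      rintro _ ⟨q, hq, rfl⟩ _ ⟨l, hl, rfl⟩
      refine ⟨q * l * q⁻¹, ?_, by simp⟩
      exact (le_norm_iff.1 hQL) q hq l hl
    have hQQp : IsPGroup p ↥QQ := by
      rw [hQQ]; exact (hQ.comap_of_injective _ (Subgroup.subtype_injective Y)).map π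
    have hcop : (Nat.card QQ).Coprime (Nat.card LL) := by
      obtain ⟨k, hk⟩ := IsPGroup.iff_card.1 hQQp
      rw [hk]
      apply Nat.Coprime.pow_left
      rw [Nat.Prime.coprime_iff_not_dvd hp.out]
      intro hd
      obtain ⟨x, hx⟩ := exists_prime_orderOf_dvd_card' p hd
      obtain ⟨y, hy⟩ := x
      rw [Subgroup.orderOf_mk] at hx
      rw [hLL] at hy
      obtain ⟨l, hl, rfl⟩ := hy
      obtain ⟨m, hm, hml⟩ := hcommL l hl
      have h3 : (π l) ^ m = 1 := by rw [← map_pow, hπ]; exact hml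
      have h4 := orderOf_dvd_of_pow_eq_one h3
      rw [hx] at h4
      exact (Nat.Prime.coprime_iff_not_dvd hp.out).1 hm.symm h4
    have hLLQ : ⁅LL, QQ⁆ = LL := by
      rw [hLL, hQQ, ← Subgroup.map_commutator]
      congr 1
      apply Subgroup.map_injective Y.subtype_injective
      rw [Subgroup.map_commutator, Subgroup.subgroupOf_map_subtype, Subgroup.subgroupOf_map_subtype, inf_eq_left.2 hLY,
        inf_eq_left.2 hQY, h2]
    intro d hd
    obtain ⟨hdL, hdF⟩ := mem_inf.1 hd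
    have h3 : π ⟨d, hLY hdL⟩ ∈ (LL ⊓ centralizer (QQ : Set (↥Y ⧸ L'.subgroupOf Y))) ⊓ ⁅LL, QQ⁆ := by
      have h4 : π ⟨d, hLY hdL⟩ ∈ LL := hLL ▸ mem_map_of_mem π hdL
      refine mem_inf.2 ⟨mem_inf.2 ⟨h4, ?_⟩, hLLQ.symm ▸ h4⟩
      rw [mem_centralizer_iff]
      intro q hq
      rw [SetLike.mem_coe, hQQ] at hq
      obtain ⟨q', hq', rfl⟩ := hq
      rw [← map_mul, ← map_mul]
      congr 1
      apply Subtype.ext
      exact (mem_centralizer_iff.1 (hQF hq') d hdF).symm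
    rw [L0.centralizer_inf_commutator_of_abelian hQn hcop hab, mem_bot, hπ] at h3
    exact h3
  have hDZ : ∀ d ∈ L ⊓ F, ∀ l ∈ L, l * d = d * l := fun d hd l hl => mem_centralizer_iff.1 (hFL (mem_inf.1 hd).2) l hl
  refine ⟨h1, h2, ?_, ?_, ?_⟩
  · -- (3)
    intro d hd
    have hdL := (mem_inf.1 hd).1
    have h3 : zpowers (⟨d, hdL⟩ : ↥L) ≤ frattini ↥L := by
      rw [le_frattini_iff]
      intro M hM
      by_contra hcon
      rw [zpowers_le] at hcon
      have hcentral : ∀ l : ↥L, l * ⟨d, hdL⟩ = ⟨d, hdL⟩ * l := fun l => Subtype.ext (hDZ d hd l l.2)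
      haveI hzn : (zpowers (⟨d, hdL⟩ : ↥L)).Normal := by
        refine ⟨fun z hz g => ?_⟩
        obtain ⟨k, rfl⟩ := mem_zpowers_iff.1 hz
        have : Commute g (⟨d, hdL⟩ : ↥L) := hcentral g
        rw [(this.zpow_right k).eq, mul_inv_cancel_right]; exact hz
      have h4 : zpowers (⟨d, hdL⟩ : ↥L) ⊔ M = ⊤ := by
        have h5 : M < zpowers (⟨d, hdL⟩ : ↥L) ⊔ M := lt_of_le_of_ne le_sup_right (fun h =>
          hcon (by rw [h]; exact le_sup_left (b := M) (mem_zpowers _)))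
        exact hM.2 _ h5
      have hcM : commutator ↥L ≤ M := by
        rw [_root_.commutator_def, commutator_le]
        intro a _ b _
        obtain ⟨u, hu, m, hm, ea⟩ := mem_sup_of_normal_left.1 (h4 ▸ mem_top a : a ∈ zpowers (⟨d, hdL⟩ : ↥L) ⊔ M)
        obtain ⟨v, hv, n, hn, eb⟩ := mem_sup_of_normal_left.1 (h4 ▸ mem_top b : b ∈ zpowers (⟨d, hdL⟩ : ↥L) ⊔ M)
        obtain ⟨i, rfl⟩ := mem_zpowers_iff.1 hu
        obtain ⟨j, rfl⟩ := mem_zpowers_iff.1 hv
        have c1 : ∀ g : ↥L, ∀ k : ℤ, Commute g ((⟨d, hdL⟩ : ↥L) ^ k) := fun g k => by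
          have : Commute g (⟨d, hdL⟩ : ↥L) := hcentral g
          exact this.zpow_right k
        rw [← ea, ← eb, commutatorElement_def]
        have e : (⟨d, hdL⟩ : ↥L) ^ i * m * ((⟨d, hdL⟩ : ↥L) ^ j * n) * ((⟨d, hdL⟩ : ↥L) ^ i * m)⁻¹ * ((⟨d, hdL⟩ : ↥L) ^ j * n)⁻¹ =
            m * n * m⁻¹ * n⁻¹ := by
          have a1 := (c1 m j).eq
          have a2 := (c1 (m * n * m⁻¹) i).eq
          have a3 := (c1 (m * n * m⁻¹ * n⁻¹) j).eq
          calc (⟨d, hdL⟩ : ↥L) ^ i * m * ((⟨d, hdL⟩ : ↥L) ^ j * n) * ((⟨d, hdL⟩ : ↥L) ^ i * m)⁻¹ * ((⟨d, hdL⟩ : ↥L) ^ j * n)⁻¹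
              = (⟨d, hdL⟩ : ↥L) ^ i * (m * (⟨d, hdL⟩ : ↥L) ^ j) * n * m⁻¹ * ((⟨d, hdL⟩ : ↥L) ^ i)⁻¹ * n⁻¹ * ((⟨d, hdL⟩ : ↥L) ^ j)⁻¹ := by group
            _ = (⟨d, hdL⟩ : ↥L) ^ i * ((⟨d, hdL⟩ : ↥L) ^ j * m) * n * m⁻¹ * ((⟨d, hdL⟩ : ↥L) ^ i)⁻¹ * n⁻¹ * ((⟨d, hdL⟩ : ↥L) ^ j)⁻¹ := by rw [a1]
            _ = (⟨d, hdL⟩ : ↥L) ^ j * ((⟨d, hdL⟩ : ↥L) ^ i * (m * n * m⁻¹)) * ((⟨d, hdL⟩ : ↥L) ^ i)⁻¹ * n⁻¹ * ((⟨d, hdL⟩ : ↥L) ^ j)⁻¹ := by group
            _ = (⟨d, hdL⟩ : ↥L) ^ j * ((m * n * m⁻¹) * (⟨d, hdL⟩ : ↥L) ^ i) * ((⟨d, hdL⟩ : ↥L) ^ i)⁻¹ * n⁻¹ * ((⟨d, hdL⟩ : ↥L) ^ j)⁻¹ := by rw [← a2]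
            _ = ((⟨d, hdL⟩ : ↥L) ^ j * (m * n * m⁻¹ * n⁻¹)) * ((⟨d, hdL⟩ : ↥L) ^ j)⁻¹ := by group
            _ = ((m * n * m⁻¹ * n⁻¹) * (⟨d, hdL⟩ : ↥L) ^ j) * ((⟨d, hdL⟩ : ↥L) ^ j)⁻¹ := by rw [← a3]
            _ = m * n * m⁻¹ * n⁻¹ := by group
        rw [e]
        exact mul_mem (mul_mem (mul_mem hm hn) (inv_mem hm)) (inv_mem hn)
      apply hcon
      apply hcM
      have h5 := hDL' hd
      rw [hL'] at h5
      have h6 : (commutator ↥L).map L.subtype = ⁅L, L⁆ := by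
        rw [_root_.commutator_def, Subgroup.map_commutator, ← MonoidHom.range_eq_map, L.range_subtype]
      rw [← h6] at h5
      obtain ⟨y, hy, hye⟩ := h5
      have : y = ⟨d, hdL⟩ := Subtype.ext hye
      rwa [← this]
    exact ⟨⟨d, hdL⟩, h3 (mem_zpowers _), rfl⟩
  · -- (4)
    intro B hB hBQ hBF
    have hBL : B ≤ normalizer (L : Set H) := by
      rw [hL]; exact norm_comm (hXtop B) hBQ
    have h3 : ⁅L, B⁆ ≤ L ⊓ F := by
      refine le_inf ?_ hBF
      rw [commutator_le]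
      intro l hl b hb
      rw [commutatorElement_def]
      have := (le_norm_iff.1 hBL) b hb _ (inv_mem hl)
      have e : l * b * l⁻¹ * b⁻¹ = l * (b * l⁻¹ * b⁻¹) := by group
      rw [e]; exact mul_mem hl this
    have h4 := (split hB hLX hXL hBL).2
    rw [h4, eq_bot_iff]
    -- B centralizes L'
    have h5 : ∀ x ∈ L', ∀ b ∈ B, b * x = x * b := by
      intro x hx b hb
      have h6 : L' ≤ centralizer ({b} : Set H) := by
        rw [hL', commutator_le]
        intro u hu v hv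
        rw [mem_centralizer_singleton_iff, commutatorElement_def]
        have a1 := h3 (comm_el hu hb)
        have a2 := h3 (comm_el hv hb)
        -- b u b⁻¹ = c⁻¹ u, b v b⁻¹ = c'⁻¹ v
        have e1 : b * u * b⁻¹ = (u * b * u⁻¹ * b⁻¹)⁻¹ * u := by group
        have e2 : b * v * b⁻¹ = (v * b * v⁻¹ * b⁻¹)⁻¹ * v := by group
        obtain ⟨c, hc⟩ : ∃ c, c = (u * b * u⁻¹ * b⁻¹)⁻¹ := ⟨_, rfl⟩
        obtain ⟨c', hc'⟩ : ∃ c', c' = (v * b * v⁻¹ * b⁻¹)⁻¹ := ⟨_, rfl⟩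
        rw [← hc] at e1
        rw [← hc'] at e2
        have b1 : ∀ l ∈ L, Commute l c := fun l hl => hDZ c (hc ▸ inv_mem a1) l hl
        have b2 : ∀ l ∈ L, Commute l c' := fun l hl => hDZ c' (hc' ▸ inv_mem a2) l hl
        have hcL : c ∈ L := (mem_inf.1 (hc ▸ inv_mem a1 : c ∈ L ⊓ F)).1
        have e3 : b * (u * v * u⁻¹ * v⁻¹) * b⁻¹ = u * v * u⁻¹ * v⁻¹ := by
          calc b * (u * v * u⁻¹ * v⁻¹) * b⁻¹ = (b * u * b⁻¹) * (b * v * b⁻¹) * (b * u * b⁻¹)⁻¹ * (b * v * b⁻¹)⁻¹ := by group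
            _ = (c * u) * (c' * v) * (c * u)⁻¹ * (c' * v)⁻¹ := by rw [e1, e2]
            _ = c * (u * c') * v * u⁻¹ * c⁻¹ * v⁻¹ * c'⁻¹ := by group
            _ = c * (c' * u) * v * u⁻¹ * c⁻¹ * v⁻¹ * c'⁻¹ := by rw [(b2 u hu).eq]
            _ = (c * c') * (u * v * u⁻¹) * c⁻¹ * v⁻¹ * c'⁻¹ := by group
            _ = (c' * c) * (u * v * u⁻¹) * c⁻¹ * v⁻¹ * c'⁻¹ := by rw [(b2 c hcL).eq]
            _ = c' * (c * (u * v * u⁻¹)) * c⁻¹ * v⁻¹ * c'⁻¹ := by group
            _ = c' * ((u * v * u⁻¹) * c) * c⁻¹ * v⁻¹ * c'⁻¹ := by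
              rw [(b1 (u * v * u⁻¹) (mul_mem (mul_mem hu hv) (inv_mem hu))).eq]
            _ = (c' * (u * v * u⁻¹ * v⁻¹)) * c'⁻¹ := by group
            _ = ((u * v * u⁻¹ * v⁻¹) * c') * c'⁻¹ := by
              rw [(b2 (u * v * u⁻¹ * v⁻¹) (mul_mem (mul_mem (mul_mem hu hv) (inv_mem hu)) (inv_mem hv))).eq]
            _ = u * v * u⁻¹ * v⁻¹ := by group
        have := congrArg (fun z => z * b) e3
        simp only [inv_mul_cancel_right] at this
        exact this.symm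
      exact (mem_centralizer_singleton_iff.1 (h6 hx)).symm
    rw [commutator_le]
    intro x hx b hb
    rw [mem_bot, commutatorElement_def]
    have h6 := h5 x (hDL' (h3 hx)) b hb
    rw [← h6]; group
  · -- (5)
    obtain ⟨C₀, hC₀⟩ : ∃ C₀ : Subgroup H, C₀ = centralizer ((F ⊔ L : Subgroup H) : Set H) := ⟨_, rfl⟩
    rw [← hC₀]
    -- C_X(FL) ≤ FL
    obtain ⟨C, hC⟩ : ∃ C : Subgroup H, C = X ⊓ C₀ := ⟨_, rfl⟩
    have hFLX : F ⊔ L ≤ X := sup_le hFX hLX
    have hXFL : X ≤ normalizer ((F ⊔ L : Subgroup H) : Set H) := norm_sup' hXF hXL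
    have hQFn : Q ≤ normalizer (F : Set H) := hQF.trans (centralizer_le_normalizer _)
    have hQFL : Q ≤ normalizer ((F ⊔ L : Subgroup H) : Set H) := norm_sup' hQFn hQL
    have hXC : X ≤ normalizer (C : Set H) := by
      rw [hC, hC₀]; exact norm_inf' le_normalizer (norm_cent hXFL)
    have hQC : Q ≤ normalizer (C : Set H) := by
      rw [hC, hC₀]; exact norm_inf' (hXtop Q) (norm_cent hQFL)
    have hCFL : C ≤ F ⊔ L := by
      rw [← (split hQ (hC ▸ inf_le_left) hXC hQC).1]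
      refine sup_le ?_ ?_
      · refine le_trans ?_ le_sup_right
        rw [hL]; exact Subgroup.commutator_mono (hC ▸ inf_le_left) le_rfl
      · refine le_trans ?_ le_sup_left
        rw [h1]
        intro c hc
        obtain ⟨hc1, hc2⟩ := mem_inf.1 hc
        rw [hC, hC₀] at hc1
        refine mem_inf.2 ⟨(mem_inf.1 hc1).1, ?_⟩
        have h3 : L ⊔ Q ≤ centralizer ({c} : Set H) := by
          refine sup_le ?_ ?_
          · intro l hl
            rw [mem_centralizer_singleton_iff]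
            exact mem_centralizer_iff.1 (mem_inf.1 hc1).2 l (le_sup_right (a := F) hl)
          · intro l hl
            rw [mem_centralizer_singleton_iff]
            exact mem_centralizer_iff.1 hc2 l hl
        rw [mem_centralizer_iff]
        intro l hl
        exact mem_centralizer_singleton_iff.1 (h3 hl)
    rw [Nat.coprime_comm, Nat.Prime.coprime_iff_not_dvd hp.out]
    intro hd
    obtain ⟨B, hB⟩ := exists_sylIn (p := p) C₀
    apply hB.ne_bot hd
    have hBc : B ≤ centralizer ((F ⊔ L : Subgroup H) : Set H) := hC₀ ▸ hB.1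
    -- [X, B] ≤ C_X(FL)
    have h3 : ⁅⁅F ⊔ L, X⁆, B⁆ = ⊥ := by
      rw [eq_bot_iff]
      have h4 : ⁅F ⊔ L, B⁆ = ⊥ := by
        rw [Subgroup.commutator_comm, commutator_eq_bot_iff_le_centralizer]; exact hBc
      rw [← h4]
      refine Subgroup.commutator_mono ?_ le_rfl
      rw [commutator_le]
      intro f hf x hx
      rw [commutatorElement_def]
      have := (le_norm_iff.1 hXFL) x hx _ (inv_mem hf)
      have e : f * x * f⁻¹ * x⁻¹ = f * (x * f⁻¹ * x⁻¹) := by group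
      rw [e]; exact mul_mem hf this
    have h4 : ⁅⁅B, F ⊔ L⁆, X⁆ = ⊥ := by
      rw [commutator_eq_bot_iff_le_centralizer.2 hBc, Subgroup.commutator_bot_left]
    have h5 : ⁅⁅X, B⁆, F ⊔ L⁆ = ⊥ := Subgroup.commutator_commutator_eq_bot_of_rotate h4 h3
    have h6 : ⁅X, B⁆ ≤ F ⊔ L := by
      refine le_trans ?_ hCFL
      rw [hC, hC₀]
      exact le_inf (Subgroup.commutator_le_left _ _) (commutator_eq_bot_iff_le_centralizer.1 h5)
    have h7 : ⁅X, B⁆ = ⊥ := by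
      rw [(split hB.2.1 le_rfl (hXtop X) (hXtop B)).2, Subgroup.commutator_comm, commutator_eq_bot_iff_le_centralizer]
      exact hBc.trans (centralizer_le (SetLike.coe_subset_coe.2 h6))
    refine eq_bot_of_cent hO hB.2.1 ?_
    rw [← hX]
    rw [Subgroup.commutator_comm, commutator_eq_bot_iff_le_centralizer] at h7
    exact h7

end

end Cfsg.Agent.H6
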