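import Cfsg.Agent.H6.NormSplit
import Cfsg.Agent.H6.Comm
import Cfsg.Agent.H6.Chief
import Cfsg.Agent.L0.Coprime

set_option autoImplicit false
open Cfsg

namespace Cfsg.Agent.H6

section
variable {G : Type*} [Group G] [Finite G] {p : ℕ} [hp : Fact p.Prime]

theorem wc_split_core (S : Sylow p G) (hZR : zc (S : Subgroup G) ≤ pPrimePCore p G) :
    ∃ W K : Subgroup G, (∀ x : G, x ∈ W ↔ (x ∈ (S : Subgroup G) ∧ ∀ g : G, g * x * g⁻¹ ∈ (S : Subgroup G) → g * x * g⁻¹ = x)) ∧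
      K ≤ zc (S : Subgroup G) ∧ W ⊓ K = ⊥ ∧ W ⊔ K = zc (S : Subgroup G) := by
  set O := pPrimeCore p G with hO
  have hOcop : (Nat.card ↥O).Coprime p := L0.pPrimeCore_coprime p G
  set f := QuotientGroup.mk' O with hf
  set R := (pCore p (G ⧸ O)).comap f with hR
  haveI hRn : R.Normal := inferInstance
  have hSO : (S : Subgroup G) ⊓ O = ⊥ := inf_eq_bot_of_coprime S.2 hOcop
  have hSm := (sylow_map_sylIn S O)
  have hcoreS : pCore p (G ⧸ O) ≤ (S : Subgroup G).map f := by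
    have h1 := pCoreOf_le_sylIn hSm
    have etop : pCoreOf p (⊤ : Subgroup (G ⧸ O)) = pCore p (G ⧸ O) := by
      unfold pCoreOf
      exact L0.pCore_map_equiv p (Subgroup.topEquiv : (⊤ : Subgroup (G ⧸ O)) ≃* (G ⧸ O))
    rwa [etop] at h1
  set Q := (S : Subgroup G) ⊓ R with hQ
  have hZQ : zc (S : Subgroup G) ≤ Q := by
    exact le_inf inf_le_left hZR
  have hSN : (S : Subgroup G) ≤ Subgroup.normalizer (Q : Set G) :=
    le_norm_inf Subgroup.le_normalizer (norm_of_normal _)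
  refine wc_split S (Q := Q) inf_le_left hSN hZQ ?_
  intro x hx g hg
  obtain ⟨hxS, hxc⟩ := Subgroup.mem_inf.1 hx
  -- Frattini: `g = d * m` with `d ∈ R`
  obtain ⟨d, hd, m, hm, rfl⟩ := frattini' S R g
  -- `d ∈ Q O`
  have hd' : ∃ o ∈ O, ∃ s ∈ Q, d = o * s := by
    obtain ⟨s, hs, hse⟩ := hcoreS (show f d ∈ pCore p (G ⧸ O) from hd)
    have h1 : d * s⁻¹ ∈ O := by
      rw [← QuotientGroup.eq_one_iff]
      change f (d * s⁻¹) = 1
      rw [map_mul, map_inv, hse, mul_inv_cancel]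
    refine ⟨d * s⁻¹, h1, s, ⟨hs, ?_⟩, by group⟩
    change f s ∈ pCore p (G ⧸ O)
    rw [hse]; exact hd
  obtain ⟨o, ho, s, hs, rfl⟩ := hd'
  have hmx : m * x = x * m := Subgroup.mem_centralizer_iff.1 hxc m hm
  have hsx : s * x = x * s := Subgroup.mem_centralizer_iff.1 hxc s (hSN (Subgroup.mem_inf.1 hs).1)
  have e : o * s * m * x * (o * s * m)⁻¹ = o * x * o⁻¹ := by
    calc o * s * m * x * (o * s * m)⁻¹ = o * s * (m * x) * m⁻¹ * s⁻¹ * o⁻¹ := by group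
      _ = o * (s * x) * s⁻¹ * o⁻¹ := by rw [hmx]; group
      _ = o * x * o⁻¹ := by rw [hsx]; group
  rw [e] at hg ⊢
  have h2 : o * x * o⁻¹ * x⁻¹ ∈ (S : Subgroup G) ⊓ O := by
    refine ⟨Subgroup.mul_mem _ hg (Subgroup.inv_mem _ hxS), ?_⟩
    have h3 : x * o⁻¹ * x⁻¹ ∈ O := (inferInstance : O.Normal).conj_mem _ (O.inv_mem ho) x
    have e2 : o * x * o⁻¹ * x⁻¹ = o * (x * o⁻¹ * x⁻¹) := by group
    rw [e2]
    exact O.mul_mem ho h3
  rw [hSO, Subgroup.mem_bot, mul_inv_eq_one] at h2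
  exact h2

end
end Cfsg.Agent.H6
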