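import Cfsg.Agent.S2827

set_option autoImplicit false
set_option linter.unusedSectionVars false
set_option linter.unusedSimpArgs false
open Cfsg Subgroup
open scoped Pointwise

namespace Cfsg.Agent.H6

section
variable {p : ℕ} [hp : Fact p.Prime]

theorem pcl_iff {K : Type*} [Group K] [Finite K] :
    IsPClosed p K ↔ ∃ P : Subgroup K, P.Normal ∧ IsPGroup p ↥P ∧ ¬ p ∣ P.index := by
  constructor
  · intro h
    obtain ⟨S⟩ := (inferInstance : Nonempty (Sylow p K))
    haveI := h S
    exact ⟨S, h S, S.2, S.not_dvd_index⟩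
  · rintro ⟨P, hP, hPp, hPi⟩ S
    have h1 : P ≤ (S : Subgroup K) := (L0.le_pCore hPp).trans (L0.pCore_le_sylow S)
    have h2 : (S : Subgroup K) ≤ P := by
      rw [← relIndex_eq_one]
      obtain ⟨n, hn⟩ := IsPGroup.iff_card.1 S.2
      have h3 : P.relIndex (S : Subgroup K) ∣ p ^ n := by rw [← hn]; exact relIndex_dvd_card _ _
      obtain ⟨m, -, hm⟩ := (Nat.dvd_prime_pow hp.out).1 h3
      rcases Nat.eq_zero_or_pos m with h4 | h4
      · rw [hm, h4, pow_zero]
      · exfalso
        apply hPi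
        refine dvd_trans ?_ (relIndex_dvd_index_of_le h1)
        rw [hm]; exact dvd_pow_self _ h4.ne'
    rw [← le_antisymm h1 h2]; exact hP

theorem pcl_surj {K Q : Type*} [Group K] [Finite K] [Group Q] [Finite Q] (f : K →* Q) (hf : Function.Surjective f)
    (hk : IsPGroup p ↥f.ker) : IsPClosed p K ↔ IsPClosed p Q := by
  rw [pcl_iff, pcl_iff]
  constructor
  · rintro ⟨P, hP, hPp, hPi⟩
    exact ⟨P.map f, hP.map f hf, hPp.map f, fun h => hPi (h.trans (index_map_dvd P hf))⟩
  · rintro ⟨P, hP, hPp, hPi⟩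
    exact ⟨P.comap f, hP.comap f, hPp.comap_of_ker_isPGroup f hk, by rwa [index_comap_of_surjective P hf]⟩

variable {H Q : Type*} [Group H] [Finite H] [Group Q] [Finite Q]

theorem pcl_sub (f : H →* Q) (hk : IsPGroup p ↥f.ker) (N : Subgroup H) :
    IsPClosed p ↥N ↔ IsPClosed p ↥(N.map f) := by
  refine pcl_surj (f.subgroupMap N) (f.subgroupMap_surjective N) ?_
  intro x
  have h1 : ((x : ↥N) : H) ∈ f.ker := by
    have := x.2
    rw [MonoidHom.mem_ker] at this ⊢
    exact congrArg Subtype.val this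
  obtain ⟨k, hk'⟩ := hk ⟨_, h1⟩
  refine ⟨k, ?_⟩
  have h2 : ((x : ↥N) : H) ^ p ^ k = 1 := congrArg Subtype.val hk'
  apply Subtype.ext
  apply Subtype.ext
  exact h2

theorem ker_le_sylow (f : H →* Q) (hk : IsPGroup p ↥f.ker) (S : Sylow p H) : f.ker ≤ (S : Subgroup H) :=
  (L0.le_pCore hk).trans (L0.pCore_le_sylow S)

theorem res_iff (f : H →* Q) (hf : Function.Surjective f) (hk : IsPGroup p ↥f.ker) {N : Subgroup H} (hN : N.Normal) :
    pResidual p H ≤ N ↔ pResidual p Q ≤ N.map f := by
  obtain ⟨S⟩ := (inferInstance : Nonempty (Sylow p H))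
  constructor
  · intro h
    refine Agent.S2827.res_le_of (hN.map f hf) (S.2.map f) ?_
    rw [← Subgroup.map_sup, eq_top_iff, ← Subgroup.map_top_of_surjective f hf]
    refine Subgroup.map_mono ?_
    rw [← sup_res S]
    exact sup_le le_sup_right (h.trans le_sup_left)
  · intro h
    refine Agent.S2827.res_le_of hN S.2 ?_
    have h1 : (N ⊔ (S : Subgroup H)).map f = ⊤ := by
      rw [eq_top_iff, ← sup_res (S.mapSurjective hf), Subgroup.map_sup]
      exact sup_le le_sup_right (h.trans le_sup_left)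
    have h2 := congrArg (Subgroup.comap f) h1
    rw [Subgroup.comap_map_eq, Subgroup.comap_top] at h2
    rw [eq_top_iff, ← h2]
    exact sup_le le_rfl ((ker_le_sylow f hk S).trans le_sup_right)

theorem core_comap (f : H →* Q) (hf : Function.Surjective f) (hk : IsPGroup p ↥f.ker) :
    pCore p H = (pCore p Q).comap f := by
  apply le_antisymm
  · rw [← map_le_iff_le_comap]
    exact L0.pCore_map_le_of_surjective p f hf
  · haveI : ((pCore p Q).comap f).Normal := (inferInstance : (pCore p Q).Normal).comap f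
    exact L0.le_pCore ((L0.pCore_isPGroup p Q).comap_of_ker_isPGroup f hk)

theorem pirr_iff (f : H →* Q) (hf : Function.Surjective f) (hk : IsPGroup p ↥f.ker) :
    IsPIrreducible p H ↔ IsPIrreducible p Q := by
  constructor
  · rintro ⟨h1, h2⟩
    refine ⟨fun h => h1 ((pcl_surj f hf hk).2 h), fun N hN hNc => ?_⟩
    have e : (N.comap f).map f = N := Subgroup.map_comap_eq_self_of_surjective hf N
    have h3 := h2 (N.comap f) (hN.comap f) (by rw [pcl_sub f hk, e]; exact hNc)
    rw [res_iff f hf hk (hN.comap f), e] at h3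
    exact h3
  · rintro ⟨h1, h2⟩
    refine ⟨fun h => h1 ((pcl_surj f hf hk).1 h), fun N hN hNc => ?_⟩
    rw [res_iff f hf hk hN]
    exact h2 _ (hN.map f hf) (by rwa [← pcl_sub f hk])

theorem comm_iff (f : H →* Q) (hf : Function.Surjective f) (hk : IsPGroup p ↥f.ker) (N : Subgroup H) :
    ⁅N, (⊤ : Subgroup H)⁆ ≤ pCore p H ↔ ⁅N.map f, (⊤ : Subgroup Q)⁆ ≤ pCore p Q := by
  rw [core_comap f hf hk, ← map_le_iff_le_comap, map_commutator, Subgroup.map_top_of_surjective f hf]

theorem spirr_iff (f : H →* Q) (hf : Function.Surjective f) (hk : IsPGroup p ↥f.ker) :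
    IsStronglyPIrreducible p H ↔ IsStronglyPIrreducible p Q := by
  constructor
  · rintro ⟨h1, h2⟩
    refine ⟨fun h => h1 ((pcl_surj f hf hk).2 h), fun N hN hNc => ?_⟩
    have e : (N.comap f).map f = N := Subgroup.map_comap_eq_self_of_surjective hf N
    have h3 := h2 (N.comap f) (hN.comap f) (by rw [comm_iff f hf hk, e]; exact hNc)
    rw [res_iff f hf hk (hN.comap f), e] at h3
    exact h3
  · rintro ⟨h1, h2⟩
    refine ⟨fun h => h1 ((pcl_surj f hf hk).1 h), fun N hN hNc => ?_⟩
    rw [res_iff f hf hk hN]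
    exact h2 _ (hN.map f hf) (by rwa [← comm_iff f hf hk])

end

end Cfsg.Agent.H6
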