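import Cfsg.Agent.H6.PRed5
import Cfsg.Agent.H6.PRed3
import Cfsg.Agent.H6.PRed2
import Cfsg.Agent.H6.SnJoin

set_option autoImplicit false
set_option linter.unusedSectionVars false
set_option linter.unusedSimpArgs false
open Cfsg Subgroup
open scoped Pointwise

namespace Cfsg.Agent.H6

section
variable {H : Type*} [Group H] [Finite H] {p : ℕ} [hp : Fact p.Prime]

theorem omega_le_largest {L T : Subgroup H} (hL : centralizer (pCore p ↥L : Set ↥L) ≤ pCore p ↥L) (hT : SylIn p T L) :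
    omegaOne p (T ⊓ centralizer (T : Set H)) ≤ largestPReducedOf p L := by
  obtain ⟨X, hX⟩ : ∃ X, X = omegaOne p (T ⊓ centralizer (T : Set H)) := ⟨_, rfl⟩
  have hXm : ∀ x ∈ X, x ∈ T ∧ (∀ t ∈ T, t * x = x * t) ∧ x ^ p = 1 := by
    intro x hx
    rw [hX, mem_omega] at hx
    exact hx
  have hXT : X ≤ T := fun x hx => (hXm x hx).1
  have hXL : X ≤ L := hXT.trans hT.1
  obtain ⟨P, hP⟩ := hT.exists_sylow
  have h1 : SylIn p (P : Subgroup ↥L) ⊤ := sylow_sylIn_top P
  rw [hP] at h1
  have h2 : PR p (T.subgroupOf L) (X.subgroupOf L) := by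
    refine ⟨fun x hx => hXT hx, ?_, ?_, ?_⟩
    · rw [le_norm_iff]
      intro t ht x hx
      rw [mem_subgroupOf] at ht hx ⊢
      have h3 := (hXm x hx).2.1 t ht
      have e : ((t * x * t⁻¹ : ↥L) : H) = x := by
        push_cast
        rw [h3, mul_inv_cancel_right]
      rw [e]; exact hx
    · rw [elab_iff]
      constructor
      · intro a ha b hb
        exact Subtype.ext ((hXm b hb).2.1 a (hXT ha))
      · intro a ha
        exact Subtype.ext ((hXm a ha).2.2)
    · intro K hK _ _ k hk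
      rw [mem_centralizer_iff]
      intro x hx
      exact Subtype.ext ((hXm x hx).2.1 k (hK hk)).symm
  have h3 := pr_normalClosure (cp_top_iff.2 hL) h1 le_rfl h2
  have h4 := le_largest h3
  rw [← hX]
  intro x hx
  exact ⟨⟨x, hXL hx⟩, h4 (subset_normalClosure (show (⟨x, hXL hx⟩ : ↥L) ∈ X.subgroupOf L from hx)), rfl⟩

theorem zcl_le_largest {L : Subgroup H} (hL : centralizer (pCore p ↥L : Set ↥L) ≤ pCore p ↥L) :
    sylowCenterClosure p L ≤ largestPReducedOf p L := by
  unfold sylowCenterClosure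
  exact iSup_le fun S => omega_le_largest hL (sylow_sylIn S)

theorem omega_le_zcl {L T : Subgroup H} (hT : SylIn p T L) :
    omegaOne p (T ⊓ centralizer (T : Set H)) ≤ sylowCenterClosure p L := by
  obtain ⟨P, hP⟩ := hT.exists_sylow
  have e : (P : Subgroup ↥L).map L.subtype = T := by
    rw [hP, subgroupOf_map_subtype, inf_eq_left.2 hT.1]
  unfold sylowCenterClosure
  have := le_iSup (fun S : Sylow p ↥L => omegaOne p (((S : Subgroup ↥L).map L.subtype) ⊓
      Subgroup.centralizer (((S : Subgroup ↥L).map L.subtype : Subgroup H) : Set H))) P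
  simp only [e] at this
  exact this

theorem s2821 (T : Sylow p H) (L : Subgroup H) (hTL : (T : Subgroup H) ≤ L)
    (hL : Subgroup.centralizer (Cfsg.pCore p ↥L : Set ↥L) ≤ Cfsg.pCore p ↥L) (T₀ : Subgroup H)
    (hT₀ : T₀ = (T : Subgroup H) ⊓ Subgroup.centralizer (((Cfsg.largestPReducedOf p L) : Subgroup H) : Set H)) :
    (∃ P : Sylow p ↥(Subgroup.centralizer (((Cfsg.largestPReducedOf p L) : Subgroup H) : Set H)), (P : Subgroup ↥(Subgroup.centralizer (((Cfsg.largestPReducedOf p L) : Subgroup H) : Set H))) = T₀.subgroupOf (Subgroup.centralizer (((Cfsg.largestPReducedOf p L) : Subgroup H) : Set H))) ∧ (Cfsg.pCoreOf p L) ≤ T₀ ∧ T₀ ≤ L ⊓ Subgroup.centralizer (((Cfsg.largestPReducedOf p L) : Subgroup H) : Set H) ∧ (Cfsg.omegaOne p ((T : Subgroup H) ⊓ Subgroup.centralizer (((T : Subgroup H) : Subgroup H) : Set H))) ≤ Cfsg.sylowCenterClosure p L ∧ Cfsg.sylowCenterClosure p L ≤ (Cfsg.largestPReducedOf p L) ∧ (Cfsg.largestPReducedOf p L) ≤ (Cfsg.omegaOne p ((Cfsg.pCoreOf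 p L) ⊓ Subgroup.centralizer (((Cfsg.pCoreOf p L) : Subgroup H) : Set H))) := by
  have hPR := pr_largestOf (p := p) L
  have hTs := (sylow_sylIn_top T).of_le hTL le_top
  have hTN : (T : Subgroup H) ≤ normalizer ((largestPReducedOf p L : Subgroup H) : Set H) := hTL.trans hPR.2.1
  have hTs' := (sylow_sylIn_top T).of_le hTN le_top
  have h1 := sylIn_inf_normal hTs' (Subgroup.centralizer_le_normalizer _) (norm_cent le_rfl)
  refine ⟨?_, ?_, ?_, omega_le_zcl hTs, zcl_le_largest hL, ?_⟩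
  · rw [hT₀]; exact h1.exists_sylow
  · rw [hT₀]; exact le_inf (pCoreOf_le_sylIn hTs) hPR.core
  · rw [hT₀]; exact inf_le_inf_right _ hTL
  · intro y hy
    rw [mem_omega]
    refine ⟨hPR.le_core hy, ?_, (elab_iff.1 hPR.2.2.1).2 y hy⟩
    intro t ht
    exact (mem_centralizer_iff.1 (hPR.core ht) y hy).symm

end

end Cfsg.Agent.H6
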