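import Cfsg.Agent.H6.Critical
import Cfsg.Agent.H6.SolvCons
import Cfsg.Agent.H1.Coprime3
import Cfsg.Agent.H1.ThomJ
import Cfsg.Agent.L0.Coprime2

set_option autoImplicit false
set_option linter.unusedSectionVars false
set_option linter.unusedSimpArgs false
set_option linter.unusedVariables false
set_option linter.style.haveILetI false
open Cfsg
open scoped commutatorElement

namespace Cfsg.Agent.H6

theorem orderOf_dvd_card_of_mem {G : Type*} [Group G] {x : G} {H : Subgroup G} (hx : x ∈ H) : orderOf x ∣ Nat.card H := by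
  have := orderOf_dvd_natCard (⟨x, hx⟩ : ↥H)
  rwa [Subgroup.orderOf_mk] at this

theorem s4_hom {X : Type*} [Group X] [Finite X] (V H : Subgroup X) [V.Normal] (hsup : V ⊔ H = ⊤)
    (h4 : (V ⊓ H).relIndex V = 4) {r t : X} (hr : r ∈ H) (ht : t ∈ H) (hr3 : r ^ 3 = 1) (ht2 : t ^ 2 = 1)
    (hrt : t * r * t⁻¹ = r⁻¹) (hv : ∃ v ∈ V, v⁻¹ * r * v ∉ H) :
    ∃ f : X →* Equiv.Perm (Fin 4), Function.Surjective f := by
  have hidx : H.index = 4 := by rw [H1.index_eq_relIndex_of_sup_eq_top hsup, h4]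
  have hcard : Nat.card (X ⧸ H) = 4 := by rw [← Subgroup.index_eq_card, hidx]
  set ρ := MulAction.toPermHom X (X ⧸ H) with hρ
  have hKH : ρ.ker ≤ H := by
    intro k hk
    rw [MonoidHom.mem_ker] at hk
    have h1 : k • ((1 : X) : X ⧸ H) = ((1 : X) : X ⧸ H) := by
      have := congrArg (fun σ : Equiv.Perm (X ⧸ H) => σ ((1 : X) : X ⧸ H)) hk
      exact this
    have h2 : ((k * 1 : X) : X ⧸ H) = ((1 : X) : X ⧸ H) := h1
    rw [QuotientGroup.eq] at h2
    have := H.inv_mem h2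
    simpa using this
  have hrK : ρ r ≠ 1 := by
    intro h1
    obtain ⟨v, hv, hvH⟩ := hv
    apply hvH
    have h2 : r • ((v : X) : X ⧸ H) = ((v : X) : X ⧸ H) := congrArg (fun σ : Equiv.Perm (X ⧸ H) => σ (v : X ⧸ H)) h1
    have h3 : ((r * v : X) : X ⧸ H) = (v : X ⧸ H) := h2
    have h5 := QuotientGroup.eq.1 h3.symm
    rwa [← mul_assoc] at h5
  have hr3' : ρ r ^ 3 = 1 := by rw [← map_pow, hr3, map_one]
  have htK : ρ t ≠ 1 := by
    intro h1
    have h2 := congrArg ρ hrt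
    rw [map_mul, map_mul, map_inv, map_inv, h1, one_mul, inv_one, mul_one] at h2
    apply hrK
    have h3 : ρ r * ρ r = 1 := by nth_rewrite 1 [h2]; group
    rw [pow_succ, pow_two, h3, one_mul] at hr3'
    exact hr3'
  have ht2' : ρ t ^ 2 = 1 := by rw [← map_pow, ht2, map_one]
  have o3 : orderOf (ρ r) = 3 := orderOf_eq_prime hr3' hrK
  have o2 : orderOf (ρ t) = 2 := orderOf_eq_prime ht2' htK
  have d3 : 3 ∣ Nat.card (H.map ρ) := by
    rw [← o3]
    exact orderOf_dvd_card_of_mem ⟨r, hr, rfl⟩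
  have d2 : 2 ∣ Nat.card (H.map ρ) := by
    rw [← o2]
    exact orderOf_dvd_card_of_mem ⟨t, ht, rfl⟩
  have d6 : 6 ∣ Nat.card (H.map ρ) := Nat.Coprime.mul_dvd_of_dvd_of_dvd (by norm_num : Nat.Coprime 2 3) d2 d3
  have hΓ : Nat.card ρ.range = Nat.card (H.map ρ) * 4 := by
    rw [← Subgroup.index_ker, ← Subgroup.relIndex_mul_index hKH, hidx, Subgroup.relIndex_ker]
  have hP : Nat.card (Equiv.Perm (X ⧸ H)) = 24 := by
    rw [Nat.card_perm, hcard]; rfl
  have h24 : 24 ∣ Nat.card ρ.range := by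
    rw [hΓ]
    obtain ⟨k, hk⟩ := d6
    rw [hk]; exact ⟨k, by ring⟩
  have htop : ρ.range = ⊤ := by
    apply Subgroup.eq_top_of_card_eq
    rw [hP]
    apply le_antisymm
    · rw [← hP]; exact Subgroup.card_le_card_group _
    · exact Nat.le_of_dvd Nat.card_pos h24
  obtain ⟨e⟩ : Nonempty ((X ⧸ H) ≃ Fin 4) := by
    have := Finite.equivFin (X ⧸ H)
    rw [hcard] at this
    exact ⟨this⟩
  refine ⟨(Equiv.permCongrHom e).toMonoidHom.comp ρ, ?_⟩
  exact (Equiv.permCongrHom e).surjective.comp (MonoidHom.range_eq_top.1 htop)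

theorem inf_zpowers_bot {G : Type*} [Group G] [Finite G] {V : Subgroup G} (hV : IsPGroup 2 ↥V) {r : G} (hr : Odd (orderOf r)) :
    V ⊓ Subgroup.zpowers r = ⊥ := by
  apply Subgroup.inf_eq_bot_of_coprime
  obtain ⟨k, hk⟩ := IsPGroup.iff_card.1 hV
  rw [hk, Nat.card_zpowers]
  exact Nat.Coprime.pow_left k (Nat.coprime_two_left.2 hr)

/-- an `S₄`-section from an `S₃`-action on a 2-group -/
theorem s4_sec {G : Type*} [Group G] [Finite G] (V : Subgroup G) [hVn : V.Normal] (hV : IsPGroup 2 ↥V) {r t : G}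
    (hr3 : r ^ 3 = 1) (ht2 : t ^ 2 = 1) (hrt : t * r * t⁻¹ = r⁻¹)
    (h4 : (V ⊓ Subgroup.centralizer {r}).relIndex V = 4) : Sec (Equiv.Perm (Fin 4)) G := by
  have hodd : Odd (orderOf r) := by
    have h1 : orderOf r ∣ 3 := orderOf_dvd_of_pow_eq_one hr3
    exact Odd.of_dvd_nat (by decide) h1
  have hVr := inf_zpowers_bot hV hodd
  set N := Subgroup.normalizer ((Subgroup.zpowers r : Subgroup G) : Set G) with hN
  have hrN : r ∈ N := Subgroup.le_normalizer (Subgroup.mem_zpowers r)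
  have htN : t ∈ N := by
    rw [hN, Subgroup.mem_normalizer_iff]
    have key : ∀ g : G, g * r * g⁻¹ = r⁻¹ → ∀ h ∈ Subgroup.zpowers r, g * h * g⁻¹ ∈ Subgroup.zpowers r := by
      rintro g hg _ ⟨k, rfl⟩
      have : g * r ^ k * g⁻¹ = (g * r * g⁻¹) ^ k := (conj_zpow).symm
      change g * r ^ k * g⁻¹ ∈ _
      rw [this, hg]
      exact Subgroup.zpow_mem _ (Subgroup.inv_mem _ (Subgroup.mem_zpowers r)) k
    intro h
    refine ⟨key t hrt h, ?_⟩
    intro hh
    have h1 : t⁻¹ * r * t⁻¹⁻¹ = r⁻¹ := by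
      have : t⁻¹ = t := by
        rw [inv_eq_iff_mul_eq_one, ← pow_two]; exact ht2
      rw [this]; nth_rewrite 2 [← this]
      rw [this]; exact hrt
    have h2 := key t⁻¹ h1 _ hh
    have e : t⁻¹ * (t * h * t⁻¹) * t⁻¹⁻¹ = h := by group
    rwa [e] at h2
  have hVN : V ⊓ N = V ⊓ Subgroup.centralizer {r} := by
    apply le_antisymm
    · rintro v ⟨hv, hvN⟩
      refine ⟨hv, ?_⟩
      change v ∈ Subgroup.centralizer {r}
      rw [Subgroup.mem_centralizer_singleton_iff]
      have h1 : v * r * v⁻¹ ∈ Subgroup.zpowers r := (Subgroup.mem_normalizer_iff.1 hvN r).1 (Subgroup.mem_zpowers r)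
      have h2 : v * r * v⁻¹ * r⁻¹ ∈ V ⊓ Subgroup.zpowers r := by
        refine ⟨?_, Subgroup.mul_mem _ h1 (Subgroup.inv_mem _ (Subgroup.mem_zpowers r))⟩
        have e : v * r * v⁻¹ * r⁻¹ = v * (r * v⁻¹ * r⁻¹) := by group
        change v * r * v⁻¹ * r⁻¹ ∈ V
        rw [e]
        exact V.mul_mem hv (hVn.conj_mem _ (V.inv_mem hv) r)
      rw [hVr, Subgroup.mem_bot] at h2
      calc v * r = (v * r * v⁻¹ * r⁻¹) * (r * v) := by group
        _ = r * v := by rw [h2, one_mul]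
    · refine inf_le_inf_left _ ?_
      intro c hc
      rw [Subgroup.mem_centralizer_singleton_iff] at hc
      rw [hN]
      apply centralizer_le_norm
      rw [Subgroup.mem_centralizer_iff]
      rintro _ ⟨k, rfl⟩
      exact ((show Commute r c from hc.symm).zpow_left k).eq
  set X := V ⊔ N with hX
  have hVX : V ≤ X := le_sup_left
  have hNX : N ≤ X := le_sup_right
  obtain ⟨f, hf⟩ := s4_hom (X := ↥X) (V.subgroupOf X) (N.subgroupOf X) (by
    apply Subgroup.map_injective X.subtype_injective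
    rw [Subgroup.map_sup, Subgroup.map_subgroupOf_eq_of_le hVX, Subgroup.map_subgroupOf_eq_of_le hNX,
      ← MonoidHom.range_eq_map, Subgroup.range_subtype]) (by
    have h1 : ((V.subgroupOf X ⊓ N.subgroupOf X)).relIndex (V.subgroupOf X) = (V ⊓ N).relIndex V := by
      have := Subgroup.relIndex_map_map_of_injective (V.subgroupOf X ⊓ N.subgroupOf X) (V.subgroupOf X) X.subtype_injective
      rw [Subgroup.map_inf_eq _ _ _ X.subtype_injective, Subgroup.map_subgroupOf_eq_of_le hVX,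
        Subgroup.map_subgroupOf_eq_of_le hNX] at this
      exact this.symm
    rw [h1, hVN, h4]) (r := ⟨r, hNX hrN⟩) (t := ⟨t, hNX htN⟩) hrN htN (Subtype.ext hr3) (Subtype.ext ht2)
    (Subtype.ext hrt) (by
    by_contra hcon
    push Not at hcon
    have h1 : V ≤ Subgroup.centralizer {r} := by
      intro v hv
      rw [Subgroup.mem_centralizer_singleton_iff]
      have h2 := hcon ⟨v, hVX hv⟩ hv
      have h3 : v⁻¹ * r * v ∈ N := h2
      have h4 : v⁻¹ * r * v * r⁻¹ ∈ V ⊓ Subgroup.centralizer {r} := by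
        rw [← hVN]
        refine ⟨?_, N.mul_mem h3 (N.inv_mem hrN)⟩
        have e : v⁻¹ * r * v * r⁻¹ = v⁻¹ * (r * v * r⁻¹) := by group
        change v⁻¹ * r * v * r⁻¹ ∈ V
        rw [e]
        exact V.mul_mem (V.inv_mem hv) (hVn.conj_mem _ hv r)
      set c := v⁻¹ * r * v * r⁻¹ with hc
      have h5 : c * r = r * c := Subgroup.mem_centralizer_singleton_iff.1 (Subgroup.mem_inf.1 h4).2
      have h6 : v⁻¹ * r * v⁻¹⁻¹ = c * r := by rw [hc]; group
      have h7 : (c * r) ^ 3 = 1 := by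
        rw [← h6, conj_pow, hr3]; group
      rw [(show Commute c r from h5).mul_pow, hr3, mul_one] at h7
      obtain ⟨k, hk⟩ := hV ⟨c, (Subgroup.mem_inf.1 h4).1⟩
      have h8 : c ^ (2 ^ k) = 1 := by simpa using congrArg Subtype.val hk
      have h9 : c = 1 := by
        rw [← orderOf_eq_one_iff]
        exact Nat.eq_one_of_dvd_coprimes (Nat.Coprime.pow_right k (by norm_num : Nat.Coprime 3 2))
          (orderOf_dvd_of_pow_eq_one h7) (orderOf_dvd_of_pow_eq_one h8)
      rw [h9, one_mul] at h6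
      calc v * r = v * (v⁻¹ * r * v⁻¹⁻¹) := by rw [h6]
        _ = r * v := by group
    rw [inf_eq_left.2 h1, Subgroup.relIndex_self] at h4
    norm_num at h4)
  exact ⟨X, f, hf⟩

end Cfsg.Agent.H6
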