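import Cfsg.Agent.H6.S4Sec

set_option autoImplicit false
set_option linter.unusedSectionVars false
set_option linter.unusedSimpArgs false
set_option linter.unusedVariables false
set_option linter.style.haveILetI false
open Cfsg
open scoped commutatorElement

namespace Cfsg.Agent.H6

theorem zpow_of_sq {G : Type*} [Group G] {u : G} (hu : u ^ 2 = 1) (i : ℤ) : u ^ i = 1 ∨ u ^ i = u := by
  rcases Int.even_or_odd' i with ⟨k, rfl | rfl⟩
  · left
    have : (2 : ℤ) * k = ((2 : ℕ) : ℤ) * k := rfl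
    rw [this, zpow_mul, zpow_natCast, hu, one_zpow]
  · right
    have : (2 : ℤ) * k = ((2 : ℕ) : ℤ) * k := rfl
    rw [zpow_add, this, zpow_mul, zpow_natCast, hu, one_zpow, zpow_one, one_mul]

/-- a hyperplane with a larger centralizer -/
theorem exists_hyperplane {H : Type*} [Group H] [Finite H] {R B : Subgroup H} (hBc : ∀ a ∈ B, ∀ b ∈ B, a * b = b * a)
    (hB2 : ∀ b ∈ B, b ^ 2 = 1) (hBR : B ≤ Subgroup.normalizer (R : Set H)) (hR : Odd (Nat.card R))
    (h : ¬ R ≤ Subgroup.centralizer (B : Set H)) :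
    ∃ D ≤ B, D.relIndex B = 2 ∧ ¬ R ⊓ Subgroup.centralizer (D : Set H) ≤ Subgroup.centralizer (B : Set H) := by
  obtain ⟨D, ⟨hDB, hD⟩, hmax⟩ := (Set.toFinite {D : Subgroup H | D ≤ B ∧
    ¬ R ⊓ Subgroup.centralizer (D : Set H) ≤ Subgroup.centralizer (B : Set H)}).exists_maximal ⟨⊥, bot_le, by
      intro h1
      apply h
      intro x hx
      apply h1
      refine ⟨hx, ?_⟩
      change x ∈ Subgroup.centralizer _
      rw [Subgroup.mem_centralizer_iff]
      intro y hy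
      have : y = 1 := by simpa using hy
      rw [this]; simp⟩
  refine ⟨D, hDB, ?_, hD⟩
  have hne : ¬ B ≤ D := by
    intro h1
    apply hD
    rw [le_antisymm hDB h1]
    exact inf_le_right
  obtain ⟨u, huB, huD⟩ := SetLike.not_le_iff_exists.1 hne
  rw [Subgroup.relIndex_eq_two_iff_exists_notMem_and]
  refine ⟨u, huB, huD, ?_⟩
  intro b hbB
  by_contra hcon
  push Not at hcon
  obtain ⟨hbu, hbD⟩ := hcon
  apply hD
  have hu2 := hB2 u huB
  have hb2 := hB2 b hbB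
  have hub : Commute u b := hBc u huB b hbB
  set E : Subgroup H :=
    { carrier := {a | ∃ i k : ℤ, a = u ^ i * b ^ k}
      one_mem' := ⟨0, 0, by simp⟩
      mul_mem' := by
        rintro x y ⟨i, k, rfl⟩ ⟨i', k', rfl⟩
        refine ⟨i + i', k + k', ?_⟩
        have h1 : b ^ k * u ^ i' = u ^ i' * b ^ k := (hub.symm.zpow_zpow k i').eq
        rw [zpow_add, zpow_add]
        calc u ^ i * b ^ k * (u ^ i' * b ^ k') = u ^ i * (b ^ k * u ^ i') * b ^ k' := by group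
          _ = u ^ i * (u ^ i' * b ^ k) * b ^ k' := by rw [h1]
          _ = _ := by group
      inv_mem' := by
        rintro x ⟨i, k, rfl⟩
        refine ⟨-i, -k, ?_⟩
        have h1 : b ^ (-k) * u ^ (-i) = u ^ (-i) * b ^ (-k) := (hub.symm.zpow_zpow _ _).eq
        rw [mul_inv_rev, ← zpow_neg, ← zpow_neg, h1] } with hE
  have huE : u ∈ E := ⟨1, 0, by simp⟩
  have hbE : b ∈ E := ⟨0, 1, by simp⟩
  have hEB : E ≤ B := by
    rintro _ ⟨i, k, rfl⟩
    exact B.mul_mem (B.zpow_mem huB i) (B.zpow_mem hbB k)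
  have hED : ∀ v ∈ E, v ≠ 1 → v ∉ D := by
    rintro _ ⟨i, k, rfl⟩ hv
    rcases zpow_of_sq hu2 i with h1 | h1 <;> rcases zpow_of_sq hb2 k with h2 | h2 <;> rw [h1, h2] at hv ⊢
    · simp at hv
    · rwa [one_mul]
    · rwa [mul_one]
    · rw [hub.eq]; exact hbu
  have hEcomm : IsMulCommutative ↥E := ⟨⟨fun a b => Subtype.ext (hBc a (hEB a.2) b (hEB b.2))⟩⟩
  have hEnc : ¬ IsCyclic ↥E := by
    intro hc
    obtain ⟨g, hg⟩ := hc.exists_generator
    have hg2 : (g : H) ^ 2 = 1 := hB2 g (hEB g.2)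
    have h1 : ∀ e ∈ E, e = 1 ∨ e = g := by
      intro e he
      obtain ⟨k, hk⟩ := hg ⟨e, he⟩
      have h2 : (g : H) ^ k = e := congrArg Subtype.val hk
      rw [← h2]
      exact zpow_of_sq hg2 k
    have hu1 : u ≠ 1 := fun h => huD (by rw [h]; exact D.one_mem)
    have hb1 : b ≠ 1 := fun h => hbD (by rw [h]; exact D.one_mem)
    have h3 := (h1 u huE).resolve_left hu1
    have h4 := (h1 b hbE).resolve_left hb1
    apply hbu
    rw [h3, h4, ← pow_two, hg2]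
    exact D.one_mem
  set R' := R ⊓ Subgroup.centralizer (D : Set H) with hR'
  have hER' : E ≤ Subgroup.normalizer (R' : Set H) := by
    rw [le_norm_iff]
    intro e he r hr
    obtain ⟨hr1, hr2⟩ := Subgroup.mem_inf.1 hr
    refine ⟨le_norm_iff.1 hBR e (hEB he) r hr1, ?_⟩
    change e * r * e⁻¹ ∈ Subgroup.centralizer _
    rw [Subgroup.mem_centralizer_iff] at hr2 ⊢
    intro d hd
    have h1 := hr2 d hd
    have h2 : d * e = e * d := hBc d (hDB hd) e (hEB he)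
    have h3 : Commute d e := h2
    have h4 : Commute d r := h1
    exact ((h3.mul_right h4).mul_right h3.inv_right).eq
  have hcop : (Nat.card E).Coprime (Nat.card R') := by
    have h1 : IsPGroup 2 ↥E := by
      intro e
      refine ⟨1, ?_⟩
      apply Subtype.ext
      have := hB2 e (hEB e.2)
      simpa using this
    obtain ⟨k, hk⟩ := IsPGroup.iff_card.1 h1
    rw [hk]
    apply Nat.Coprime.pow_left
    rw [Nat.coprime_two_left]
    exact Odd.of_dvd_nat hR (Subgroup.card_dvd_of_le inf_le_left)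
  have hgen := L0.closure_centralizers_eq hEcomm hEnc hER' hcop
  rw [← hgen, Subgroup.closure_le]
  rintro x ⟨hxR, v, hvE, hv1, hvx⟩
  have hvD := hED v hvE hv1
  by_contra hxB
  have hlt : ¬ (D ⊔ Subgroup.zpowers v ≤ D) := by
    intro h1
    exact hvD (h1 (Subgroup.mem_sup_right (Subgroup.mem_zpowers v)))
  apply hlt
  apply hmax _ le_sup_left
  refine ⟨sup_le hDB (by rw [Subgroup.zpowers_le]; exact hEB hvE), ?_⟩
  intro h1
  apply hxB
  apply h1
  refine ⟨(Subgroup.mem_inf.1 hxR).1, ?_⟩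
  have h2 : D ⊔ Subgroup.zpowers v ≤ Subgroup.centralizer {x} := by
    apply sup_le
    · intro d hd
      rw [Subgroup.mem_centralizer_singleton_iff]
      exact Subgroup.mem_centralizer_iff.1 (Subgroup.mem_inf.1 hxR).2 d hd
    · rw [Subgroup.zpowers_le, Subgroup.mem_centralizer_singleton_iff]
      exact hvx
  change x ∈ Subgroup.centralizer _
  rw [Subgroup.mem_centralizer_iff]
  intro y hy
  exact Subgroup.mem_centralizer_singleton_iff.1 (h2 hy)

section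
variable {G : Type*} [Group G] [Finite G]

/-- the setup: a self-centralizing normal 2-subgroup `Q`, and `V ≤ Ω₁(Z(Q))` normal -/
structure QV (Q V : Subgroup G) : Prop where
  qn : Q.Normal
  vn : V.Normal
  q2 : IsPGroup 2 ↥Q
  le : V ≤ Q
  cent : ∀ v ∈ V, ∀ q ∈ Q, v * q = q * v
  v2 : ∀ v ∈ V, v ^ 2 = 1
  self : Subgroup.centralizer (Q : Set G) ≤ Q

variable {Q V : Subgroup G}

theorem eq_one_of_sq_odd {w : G} {n : ℕ} (hn : Odd n) (h : w ^ n = 1) (h2 : w ^ 2 = 1) : w = 1 := by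
  obtain ⟨m, rfl⟩ := hn
  rw [pow_succ, pow_mul, h2, one_pow, one_mul] at h
  exact h

theorem QV.odd_stab (h : QV Q V) {z : G} (hz : Odd (orderOf z)) (h1 : ∀ q ∈ Q, z * q * z⁻¹ * q⁻¹ ∈ V)
    (h2 : ∀ v ∈ V, z * v = v * z) : z = 1 := by
  have hcen : z ∈ Subgroup.centralizer (Q : Set G) := by
    rw [Subgroup.mem_centralizer_iff]
    intro q hq
    set w := z * q * z⁻¹ * q⁻¹ with hw
    have hwV := h1 q hq
    have hzw : Commute z w := h2 w hwV
    have key : ∀ n : ℕ, z ^ n * q * (z ^ n)⁻¹ = w ^ n * q := by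
      intro n
      induction n with
      | zero => simp
      | succ n ih =>
        have e1 : z ^ (n + 1) * q * (z ^ (n + 1))⁻¹ = z * (z ^ n * q * (z ^ n)⁻¹) * z⁻¹ := by
          rw [pow_succ']; group
        rw [e1, ih]
        have e2 : z * (w ^ n * q) * z⁻¹ = (z * w ^ n * z⁻¹) * (z * q * z⁻¹) := by group
        have e3 : z * w ^ n * z⁻¹ = w ^ n := by rw [(hzw.pow_right n).eq]; group
        have e4 : z * q * z⁻¹ = w * q := by rw [hw]; group
        rw [e2, e3, e4, ← mul_assoc, ← pow_succ]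
    have h3 := key (orderOf z)
    rw [pow_orderOf_eq_one] at h3
    have h4 : w ^ orderOf z = 1 := by
      have : 1 * q = w ^ orderOf z * q := by rw [← h3]; simp
      exact (mul_right_cancel this).symm
    have h5 := eq_one_of_sq_odd hz h4 (h.v2 w hwV)
    have h6 : z * q * z⁻¹ * q⁻¹ = 1 := by rw [← hw]; exact h5
    calc q * z = (z * q * z⁻¹ * q⁻¹)⁻¹ * (z * q) := by group
      _ = z * q := by rw [h6]; group
  have hzQ := h.self hcen
  obtain ⟨k, hk⟩ := h.q2 ⟨z, hzQ⟩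
  have hk' : z ^ 2 ^ k = 1 := by simpa using congrArg Subtype.val hk
  rw [← orderOf_eq_one_iff]
  exact Nat.eq_one_of_dvd_coprimes (Nat.Coprime.pow_right k (Nat.coprime_two_right.2 hz))
    dvd_rfl (orderOf_dvd_of_pow_eq_one hk')

theorem QV.act_eq (h : QV Q V) {g k v : G} (hgk : g⁻¹ * k ∈ Q) (hv : v ∈ V) : g * v * g⁻¹ = k * v * k⁻¹ := by
  have h1 := h.cent v hv _ hgk
  have h2 : k = g * (g⁻¹ * k) := by group
  have h3 : (g⁻¹ * k) * v * (g⁻¹ * k)⁻¹ = v := by rw [← h1]; group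
  calc g * v * g⁻¹ = g * ((g⁻¹ * k) * v * (g⁻¹ * k)⁻¹) * g⁻¹ := by rw [h3]
    _ = k * v * k⁻¹ := by group

/-- odd part of an element -/
theorem exists_odd_part {y : G} (N : Subgroup G) {m : ℕ} (hm : Odd m) (hy : y ^ m ∈ N) (hyN : y ∉ N) :
    ∃ k : ℕ, Odd (orderOf (y ^ 2 ^ k)) ∧ y ^ 2 ^ k ∉ N := by
  obtain ⟨k, m', hm', hn⟩ := Nat.exists_eq_pow_mul_and_not_dvd (orderOf_pos y).ne' 2 (by norm_num)
  refine ⟨k, ?_, ?_⟩
  · have h1 : orderOf (y ^ 2 ^ k) ∣ m' := by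
      apply orderOf_dvd_of_pow_eq_one
      rw [← pow_mul, ← hn, pow_orderOf_eq_one]
    exact Odd.of_dvd_nat (Nat.not_even_iff_odd.1 (fun h => hm' h.two_dvd)) h1
  · intro h1
    apply hyN
    have hcop : Nat.Coprime (2 ^ k) m := Nat.Coprime.pow_left k (Nat.coprime_two_left.2 hm)
    have h2 := Nat.gcd_eq_gcd_ab (2 ^ k) m
    rw [hcop] at h2
    have h3 : y = (y ^ 2 ^ k) ^ (Nat.gcdA (2 ^ k) m) * (y ^ m) ^ (Nat.gcdB (2 ^ k) m) := by
      rw [← zpow_natCast, ← zpow_natCast, ← zpow_mul, ← zpow_mul, ← zpow_add, ← h2]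
      simp
    rw [h3]
    exact N.mul_mem (N.zpow_mem h1 _) (N.zpow_mem hy _)

theorem QV.strict (h : QV Q V) {B S : Subgroup G} (hS : IsPGroup 2 ↥S) (hVS : V ≤ S) (hBS : B ≤ S) {a x : G}
    (hab : ∀ b ∈ B, a * b = b * a) (hxB : ∀ b ∈ B, (b * x)⁻¹ * (x * b) ∈ Q)
    (haQ : ∀ q ∈ Q, a * q * a⁻¹ * q⁻¹ ∈ V) {m : ℕ} (hm : Odd m)
    (hy : (x * a * x⁻¹ * a⁻¹) ^ m ∈ Q) (hyQ : x * a * x⁻¹ * a⁻¹ ∉ Q)
    (hC : V ⊓ Subgroup.centralizer (B : Set G) ≤ Subgroup.centralizer {a}) : False := by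
  haveI := h.qn
  haveI := h.vn
  obtain ⟨k, hk, hkQ⟩ := exists_odd_part Q hm hy hyQ
  set y := x * a * x⁻¹ * a⁻¹ with hydef
  set z := y ^ 2 ^ k with hz
  -- `y` centralizes `C_V(B)`
  have hyV : ∀ v ∈ V ⊓ Subgroup.centralizer (B : Set G), y * v * y⁻¹ = v := by
    intro v hv
    have hv' := hv
    obtain ⟨hvV, hvB⟩ := Subgroup.mem_inf.1 hv'
    have hav : a * v = v * a := (Subgroup.mem_centralizer_singleton_iff.1 (hC hv)).symm
    have h1 : x⁻¹ * v * x ∈ V ⊓ Subgroup.centralizer (B : Set G) := by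
      refine ⟨by
        have := h.vn.conj_mem v hvV x⁻¹
        rwa [inv_inv] at this, ?_⟩
      change _ ∈ Subgroup.centralizer _
      rw [Subgroup.mem_centralizer_iff]
      intro b hb
      have h2 := h.act_eq (hxB b hb) (v := x⁻¹ * v * x) (by
        have := h.vn.conj_mem v hvV x⁻¹
        rwa [inv_inv] at this)
      -- `b x (x⁻¹ v x) x⁻¹ b⁻¹ = x b (x⁻¹ v x) b⁻¹ x⁻¹`
      have h3 : b * v = v * b := Subgroup.mem_centralizer_iff.1 hvB b hb
      have h4 : (b * x) * (x⁻¹ * v * x) * (b * x)⁻¹ = v := by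
        calc (b * x) * (x⁻¹ * v * x) * (b * x)⁻¹ = (b * v) * b⁻¹ := by group
          _ = v * b * b⁻¹ := by rw [h3]
          _ = v := by group
      rw [h4] at h2
      calc b * (x⁻¹ * v * x) = x⁻¹ * ((x * b) * (x⁻¹ * v * x) * (x * b)⁻¹) * x * b := by group
        _ = x⁻¹ * v * x * b := by rw [← h2]
    have hax : a * (x⁻¹ * v * x) = (x⁻¹ * v * x) * a := (Subgroup.mem_centralizer_singleton_iff.1 (hC h1)).symm
    calc y * v * y⁻¹ = x * a * x⁻¹ * (a⁻¹ * (v * a)) * x * a⁻¹ * x⁻¹ := by rw [hydef]; group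
      _ = x * a * x⁻¹ * (a⁻¹ * (a * v)) * x * a⁻¹ * x⁻¹ := by rw [hav]
      _ = x * (a * (x⁻¹ * v * x)) * a⁻¹ * x⁻¹ := by group
      _ = x * ((x⁻¹ * v * x) * a) * a⁻¹ * x⁻¹ := by rw [hax]
      _ = v := by group
  have hpowV : ∀ (g v : G), g * v * g⁻¹ = v → ∀ n : ℕ, g ^ n * v * (g ^ n)⁻¹ = v := by
    intro g v hg n
    have : Commute g v := by
      change g * v = v * g
      calc g * v = (g * v * g⁻¹) * g := by group
        _ = v * g := by rw [hg]
    rw [(this.pow_left n).eq]; group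
  have hzV : ∀ v ∈ V ⊓ Subgroup.centralizer (B : Set G), z * v * z⁻¹ = v := fun v hv => hpowV y v (hyV v hv) _
  -- `y` acts trivially on `Q / V`
  have hgQ : ∀ g k : G, (∀ q ∈ Q, g * q * g⁻¹ * q⁻¹ ∈ V) → (∀ q ∈ Q, k * q * k⁻¹ * q⁻¹ ∈ V) →
      ∀ q ∈ Q, (g * k) * q * (g * k)⁻¹ * q⁻¹ ∈ V := by
    intro g k hg hk q hq
    have h1 := h.vn.conj_mem _ (hk q hq) g
    have h2 := hg q hq
    have e : (g * k) * q * (g * k)⁻¹ * q⁻¹ = (g * (k * q * k⁻¹ * q⁻¹) * g⁻¹) * (g * q * g⁻¹ * q⁻¹) := by group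
    rw [e]; exact V.mul_mem h1 h2
  have hyq : ∀ q ∈ Q, y * q * y⁻¹ * q⁻¹ ∈ V := by
    have h1 : ∀ q ∈ Q, (x * a * x⁻¹) * q * (x * a * x⁻¹)⁻¹ * q⁻¹ ∈ V := by
      intro q hq
      have h2 : x⁻¹ * q * x⁻¹⁻¹ ∈ Q := h.qn.conj_mem q hq x⁻¹
      have h3 := h.vn.conj_mem _ (haQ _ h2) x
      have e : x * (a * (x⁻¹ * q * x⁻¹⁻¹) * a⁻¹ * (x⁻¹ * q * x⁻¹⁻¹)⁻¹) * x⁻¹ =
          (x * a * x⁻¹) * q * (x * a * x⁻¹)⁻¹ * q⁻¹ := by group
      rwa [e] at h3
    have h2 : ∀ q ∈ Q, a⁻¹ * q * a⁻¹⁻¹ * q⁻¹ ∈ V := by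
      intro q hq
      have h3 := haQ _ (h.qn.conj_mem q hq a⁻¹)
      have e : a * (a⁻¹ * q * a⁻¹⁻¹) * a⁻¹ * (a⁻¹ * q * a⁻¹⁻¹)⁻¹ = (a⁻¹ * q * a⁻¹⁻¹ * q⁻¹)⁻¹ := by group
      rw [e] at h3
      have := V.inv_mem h3
      rwa [inv_inv] at this
    intro q hq
    rw [hydef]
    exact hgQ _ _ h1 h2 q hq
  have hzq : ∀ q ∈ Q, z * q * z⁻¹ * q⁻¹ ∈ V := by
    have : ∀ n : ℕ, ∀ q ∈ Q, y ^ n * q * (y ^ n)⁻¹ * q⁻¹ ∈ V := by
      intro n
      induction n with
      | zero => intro q hq; simp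
      | succ n ih => rw [pow_succ']; exact hgQ _ _ hyq ih
    exact this _
  -- `z` does not centralize `V`
  have hz1 : z ≠ 1 := fun h1 => hkQ (by rw [h1]; exact Q.one_mem)
  have hznot : ¬ ∀ v ∈ V, z * v = v * z := fun h2 => hz1 (h.odd_stab hk hzq h2)
  push Not at hznot
  obtain ⟨v₀, hv₀, hv₀z⟩ := hznot
  have hVc : ∀ v ∈ V, ∀ w ∈ V, v * w = w * v := fun v hv w hw => h.cent v hv w (h.le hw)
  set M : Subgroup G :=
    { carrier := {w | ∃ v ∈ V, w = z * v * z⁻¹ * v⁻¹}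
      one_mem' := ⟨1, V.one_mem, by group⟩
      mul_mem' := by
        rintro _ _ ⟨v, hv, rfl⟩ ⟨w, hw, rfl⟩
        refine ⟨v * w, V.mul_mem hv hw, ?_⟩
        have h1 : z * w * z⁻¹ ∈ V := h.vn.conj_mem w hw z
        have h2 : Commute v⁻¹ (z * w * z⁻¹) := hVc _ (V.inv_mem hv) _ h1
        have h3 : Commute v⁻¹ w⁻¹ := hVc _ (V.inv_mem hv) _ (V.inv_mem hw)
        calc z * v * z⁻¹ * v⁻¹ * (z * w * z⁻¹ * w⁻¹) = z * v * z⁻¹ * (v⁻¹ * (z * w * z⁻¹)) * w⁻¹ := by group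
          _ = z * v * z⁻¹ * ((z * w * z⁻¹) * v⁻¹) * w⁻¹ := by rw [h2.eq]
          _ = z * (v * w) * z⁻¹ * (v⁻¹ * w⁻¹) := by group
          _ = z * (v * w) * z⁻¹ * (w⁻¹ * v⁻¹) := by rw [h3.eq]
          _ = _ := by group
      inv_mem' := by
        rintro _ ⟨v, hv, rfl⟩
        refine ⟨v⁻¹, V.inv_mem hv, ?_⟩
        have h1 : z * v⁻¹ * z⁻¹ ∈ V := h.vn.conj_mem _ (V.inv_mem hv) z
        calc (z * v * z⁻¹ * v⁻¹)⁻¹ = v * (z * v⁻¹ * z⁻¹) := by group
          _ = (z * v⁻¹ * z⁻¹) * v := hVc v hv _ h1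
          _ = _ := by group } with hM
  have hMV : M ≤ V := by
    rintro _ ⟨v, hv, rfl⟩
    exact V.mul_mem (h.vn.conj_mem v hv z) (V.inv_mem hv)
  have hM1 : ¬ M ≤ ⊥ := by
    intro h1
    have h2 : z * v₀ * z⁻¹ * v₀⁻¹ ∈ (⊥ : Subgroup G) := h1 ⟨v₀, hv₀, rfl⟩
    rw [Subgroup.mem_bot] at h2
    apply hv₀z
    calc z * v₀ = (z * v₀ * z⁻¹ * v₀⁻¹) * (v₀ * z) := by group
      _ = v₀ * z := by rw [h2, one_mul]
  -- `B` normalizes `M`
  have hzB : ∀ b ∈ B, (b * z)⁻¹ * (z * b) ∈ Q := by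
    intro b hb
    have e1 : QuotientGroup.mk' Q b * QuotientGroup.mk' Q x = QuotientGroup.mk' Q x * QuotientGroup.mk' Q b := by
      rw [← map_mul, ← map_mul]
      exact QuotientGroup.eq.2 (hxB b hb)
    have e2 : Commute (QuotientGroup.mk' Q b) (QuotientGroup.mk' Q a) := by
      change _ * _ = _ * _
      rw [← map_mul, ← map_mul, hab b hb]
    have e3 : Commute (QuotientGroup.mk' Q b) (QuotientGroup.mk' Q x) := e1
    have e4 : Commute (QuotientGroup.mk' Q b) (QuotientGroup.mk' Q z) := by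
      rw [hz, hydef, map_pow, map_mul, map_mul, map_mul, map_inv, map_inv]
      exact (((e3.mul_right e2).mul_right e3.inv_right).mul_right e2.inv_right).pow_right _
    rw [← QuotientGroup.eq]
    change QuotientGroup.mk' Q (b * z) = QuotientGroup.mk' Q (z * b)
    rw [map_mul, map_mul]
    exact e4.eq
  have hBM : B ≤ Subgroup.normalizer (M : Set G) := by
    rw [le_norm_iff]
    rintro b hb _ ⟨v, hv, rfl⟩
    have hbv : b * v * b⁻¹ ∈ V := h.vn.conj_mem v hv b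
    refine ⟨b * v * b⁻¹, hbv, ?_⟩
    have h1 := h.act_eq (hzB b hb) hv
    calc b * (z * v * z⁻¹ * v⁻¹) * b⁻¹ = ((b * z) * v * (b * z)⁻¹) * (b * v⁻¹ * b⁻¹) := by group
      _ = ((z * b) * v * (z * b)⁻¹) * (b * v⁻¹ * b⁻¹) := by rw [h1]
      _ = _ := by group
  -- a fixed point
  obtain ⟨w, hwM, hw1, hwB⟩ := exists_fixed_mod (G := ↥S) hS.isNilpotent (A := ⊥) (B := M.subgroupOf S)
    (Q := B.subgroupOf S) (by
      rw [le_norm_iff]
      intro b hb w hw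
      exact le_norm_iff.1 hBM b hb w hw) (by
      intro h3
      apply hM1
      have h4 := Subgroup.map_mono (f := S.subtype) h3
      rwa [Subgroup.map_subgroupOf_eq_of_le (hMV.trans hVS), Subgroup.map_bot] at h4)
  have hwM' : (w : G) ∈ M := hwM
  have hwV := hMV hwM'
  have hwC : (w : G) ∈ V ⊓ Subgroup.centralizer (B : Set G) := by
    refine ⟨hwV, ?_⟩
    change (w : G) ∈ Subgroup.centralizer _
    rw [Subgroup.mem_centralizer_iff]
    intro b hb
    have h5 := hwB ⟨b, hBS hb⟩ hb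
    rw [Subgroup.mem_bot, commutatorElement_eq_one_iff_mul_comm] at h5
    exact (congrArg Subtype.val h5).symm
  have hzw := hzV _ hwC
  obtain ⟨v, hv, hwv⟩ := hwM'
  have hcom : Commute z (w : G) := by
    change z * (w : G) = w * z
    calc z * (w : G) = (z * w * z⁻¹) * z := by group
      _ = w * z := by rw [hzw]
  have key : ∀ n : ℕ, z ^ n * v * (z ^ n)⁻¹ = (w : G) ^ n * v := by
    intro n
    induction n with
    | zero => simp
    | succ n ih =>
      have e1 : z ^ (n + 1) * v * (z ^ (n + 1))⁻¹ = z * (z ^ n * v * (z ^ n)⁻¹) * z⁻¹ := by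
        rw [pow_succ']; group
      rw [e1, ih]
      have e2 : z * ((w : G) ^ n * v) * z⁻¹ = (z * (w : G) ^ n * z⁻¹) * (z * v * z⁻¹) := by group
      have e3 : z * (w : G) ^ n * z⁻¹ = (w : G) ^ n := by rw [(hcom.pow_right n).eq]; group
      have e4 : z * v * z⁻¹ = w * v := by rw [hwv]; group
      rw [e2, e3, e4, ← mul_assoc, ← pow_succ]
  have h3 := key (orderOf z)
  rw [pow_orderOf_eq_one] at h3
  have h4 : (w : G) ^ orderOf z = 1 := by
    have : 1 * v = (w : G) ^ orderOf z * v := by rw [← h3]; simp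
    exact (mul_right_cancel this).symm
  have h5 := eq_one_of_sq_odd hk h4 (h.v2 _ hwV)
  apply hw1
  rw [Subgroup.mem_bot]
  exact Subtype.ext h5

end
end Cfsg.Agent.H6
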