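import Cfsg.Agent.H6.S4Thom

set_option autoImplicit false
set_option linter.unusedSectionVars false
set_option linter.unusedSimpArgs false
set_option linter.unusedVariables false
set_option linter.style.haveILetI false
open Cfsg
open scoped commutatorElement

namespace Cfsg.Agent.H6

section
variable {G : Type*} [Group G] [Finite G] {Q V : Subgroup G}

theorem relIndex_ne (A B : Subgroup G) : A.relIndex B ≠ 0 := by
  unfold Subgroup.relIndex
  exact Subgroup.index_ne_zero_of_finite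

theorem mem_norm_of_conj_le {M : Subgroup G} {g : G} (h : ∀ m ∈ M, g * m * g⁻¹ ∈ M) : g ∈ Subgroup.normalizer (M : Set G) := by
  rw [mem_norm]
  apply Subgroup.eq_of_le_of_card_ge
  · rintro _ ⟨m, hm, rfl⟩
    exact h m hm
  · rw [card_cj]

/-- the dual chain inequality -/
theorem QV.chain (h : QV Q V) {S : Subgroup G} (hS : IsPGroup 2 ↥S) (hVS : V ≤ S) [hQn : Q.Normal] {R : Subgroup (G ⧸ Q)} [hRn : R.Normal]
    (hR : Odd (Nat.card R)) (hself : Subgroup.centralizer (R : Set (G ⧸ Q)) ≤ R) {A : Subgroup G} (hAS : A ≤ S)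
    (hAc : ∀ a ∈ A, ∀ b ∈ A, a * b = b * a) (hA2 : ∀ a ∈ A, a ^ 2 = 1) (hAQ : ∀ a ∈ A, ∀ q ∈ Q, a * q * a⁻¹ * q⁻¹ ∈ V) :
    ∀ (n : ℕ) (B : Subgroup G), B ≤ A → Nat.card B = n →
      ((B ⊓ Q).relIndex B ≤ (V ⊓ Subgroup.centralizer (B : Set G)).relIndex V ∧
      (¬ B ≤ Q → (V ⊓ Subgroup.centralizer (B : Set G)).relIndex V ≤ (B ⊓ Q).relIndex B →
        ∃ a ∈ B, a ∉ Q ∧ (V ⊓ Subgroup.centralizer {a}).relIndex V ≤ 2)) := by
  intro n
  induction n using Nat.strong_induction_on with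
  | _ n ih =>
  intro B hBA hn
  by_cases hBQ : B ≤ Q
  · refine ⟨?_, fun h1 => absurd hBQ h1⟩
    rw [inf_eq_left.2 hBQ, Subgroup.relIndex_self]
    exact Nat.pos_of_ne_zero (relIndex_ne _ _)
  set f := QuotientGroup.mk' Q with hf
  have hB2' : IsPGroup 2 ↥B := by
    intro b
    refine ⟨1, ?_⟩
    apply Subtype.ext
    have := hA2 b (hBA b.2)
    simpa using this
  have hfm : ∀ g : G, f g = 1 ↔ g ∈ Q := fun g => QuotientGroup.eq_one_iff g
  have hnot : ¬ R ≤ Subgroup.centralizer ((B.map f : Subgroup (G ⧸ Q)) : Set (G ⧸ Q)) := by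
    intro h1
    have h2 : B.map f ≤ R := (Subgroup.le_centralizer_iff.1 h1).trans hself
    have h3 : B.map f = ⊥ := by
      have h4 : B.map f ⊓ R = ⊥ := by
        apply Subgroup.inf_eq_bot_of_coprime
        obtain ⟨k, hk⟩ := IsPGroup.iff_card.1 (hB2'.map f)
        rw [hk]
        exact Nat.Coprime.pow_left k (Nat.coprime_two_left.2 hR)
      rwa [inf_eq_left.2 h2] at h4
    apply hBQ
    rw [Subgroup.map_eq_bot_iff, QuotientGroup.ker_mk'] at h3
    exact h3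
  obtain ⟨D', hD'B, hD'i, hD'c⟩ := exists_hyperplane (R := R) (B := B.map f) (by
    rintro _ ⟨a, ha, rfl⟩ _ ⟨b, hb, rfl⟩
    rw [← map_mul, ← map_mul, hAc a (hBA ha) b (hBA hb)]) (by
    rintro _ ⟨a, ha, rfl⟩
    rw [← map_pow, hA2 a (hBA ha), map_one]) (norm_of_normal _) hR hnot
  set D := B ⊓ D'.comap f with hD
  have hDB : D ≤ B := inf_le_left
  have hDi : D.relIndex B = 2 := by
    rw [hD, inf_comm, Subgroup.inf_relIndex_right, Subgroup.relIndex_comap, hD'i]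
  have hDQ : D ⊓ Q = B ⊓ Q := by
    apply le_antisymm (inf_le_inf_right _ hDB)
    rintro x ⟨hx, hxQ⟩
    refine ⟨⟨hx, ?_⟩, hxQ⟩
    change f x ∈ D'
    rw [(hfm x).2 hxQ]; exact D'.one_mem
  obtain ⟨x', hx', hx'B⟩ := SetLike.not_le_iff_exists.1 hD'c
  obtain ⟨hx'R, hx'D⟩ := Subgroup.mem_inf.1 hx'
  obtain ⟨x, rfl⟩ := QuotientGroup.mk'_surjective Q x'
  change f x ∈ _ at hx' hx'R hx'D
  have hex : ∃ a ∈ B, f x * f a ≠ f a * f x := by
    by_contra hcon
    push Not at hcon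
    apply hx'B
    rw [Subgroup.mem_centralizer_iff]
    rintro _ ⟨a, ha, rfl⟩
    exact (hcon a ha).symm
  obtain ⟨a, haB, hxa⟩ := hex
  have haD : a ∉ D := by
    intro h1
    apply hxa
    exact (Subgroup.mem_centralizer_iff.1 hx'D (f a) (Subgroup.mem_inf.1 h1).2).symm
  have hstrict : ¬ V ⊓ Subgroup.centralizer (D : Set G) ≤ Subgroup.centralizer {a} := by
    intro hC
    have hyR : f (x * a * x⁻¹ * a⁻¹) ∈ R := by
      have e : f (x * a * x⁻¹ * a⁻¹) = f x * (f a * (f x)⁻¹ * (f a)⁻¹) := by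
        simp only [map_mul, map_inv]; group
      rw [e]
      exact R.mul_mem hx'R (hRn.conj_mem _ (R.inv_mem hx'R) (f a))
    refine h.strict hS hVS (hDB.trans (hBA.trans hAS)) (a := a) (x := x) (fun b hb => hAc a (hBA haB) b (hBA (hDB hb))) ?_
      (hAQ a (hBA haB)) (m := Nat.card R) hR ?_ ?_ hC
    · intro b hb
      rw [← QuotientGroup.eq]
      change f (b * x) = f (x * b)
      rw [map_mul, map_mul]
      exact Subgroup.mem_centralizer_iff.1 hx'D (f b) (Subgroup.mem_inf.1 hb).2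
    · rw [← hfm, map_pow]
      have := pow_card_eq_one' (x := (⟨_, hyR⟩ : ↥R))
      exact congrArg Subtype.val this
    · intro h1
      rw [← hfm] at h1
      apply hxa
      have e : f (x * a * x⁻¹ * a⁻¹) = (f x * f a) * (f a * f x)⁻¹ := by
        simp only [map_mul, map_inv]; group
      rw [e] at h1
      exact mul_inv_eq_one.1 h1
  have hBD : V ⊓ Subgroup.centralizer (B : Set G) ≤ V ⊓ Subgroup.centralizer (D : Set G) :=
    inf_le_inf_left _ (Subgroup.centralizer_le (SetLike.coe_subset_coe.2 hDB))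
  have hBa : V ⊓ Subgroup.centralizer (B : Set G) ≤ V ⊓ Subgroup.centralizer {a} :=
    inf_le_inf_left _ (Subgroup.centralizer_le (Set.singleton_subset_iff.2 haB))
  have ht : 2 ≤ (V ⊓ Subgroup.centralizer (B : Set G)).relIndex (V ⊓ Subgroup.centralizer (D : Set G)) := by
    have h1 : (V ⊓ Subgroup.centralizer (B : Set G)).relIndex (V ⊓ Subgroup.centralizer (D : Set G)) ≠ 1 := by
      intro h1
      rw [Subgroup.relIndex_eq_one] at h1
      exact hstrict ((h1.trans hBa).trans inf_le_right)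
    have h2 := relIndex_ne (V ⊓ Subgroup.centralizer (B : Set G)) (V ⊓ Subgroup.centralizer (D : Set G))
    omega
  have hV1 := Subgroup.relIndex_mul_relIndex _ _ V hBD inf_le_left
  have hQ1 : (D ⊓ Q).relIndex D * 2 = (B ⊓ Q).relIndex B := by
    have := Subgroup.relIndex_mul_relIndex (D ⊓ Q) D B inf_le_left hDB
    rw [hDi] at this
    rw [this, hDQ]
  have hDn : Nat.card D < n := by
    rw [← hn]
    apply card_lt_of_lt
    refine lt_of_le_of_ne hDB ?_
    intro h1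
    rw [h1, Subgroup.relIndex_self] at hDi
    norm_num at hDi
  obtain ⟨ih1, ih2⟩ := ih _ hDn D (hDB.trans hBA) rfl
  refine ⟨?_, ?_⟩
  · rw [← hV1, ← hQ1]
    nlinarith
  · intro _ hle
    rw [← hV1, ← hQ1] at hle
    have h3 : (V ⊓ Subgroup.centralizer (D : Set G)).relIndex V ≤ (D ⊓ Q).relIndex D := by nlinarith
    by_cases hDQ' : D ≤ Q
    · refine ⟨a, haB, ?_, ?_⟩
      · intro haQ
        apply haD
        refine ⟨haB, ?_⟩
        change f a ∈ D'
        rw [(hfm a).2 haQ]; exact D'.one_mem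
      · have h4 : (D ⊓ Q).relIndex D = 1 := by rw [inf_eq_left.2 hDQ', Subgroup.relIndex_self]
        rw [h4, hV1] at hle
        refine le_trans (Subgroup.relIndex_le_of_le_left hBa (relIndex_ne _ _)) ?_
        simpa using hle
    · obtain ⟨b, hb, hbQ, hb2⟩ := ih2 hDQ' h3
      exact ⟨b, hDB hb, hbQ, hb2⟩

/-- an odd-order permutation of at most four points has order dividing three -/
theorem aut_small {M : Type*} [Group M] [Finite M] (hM : Nat.card M ≤ 4) (σ : MulAut M) (hσ : Odd (orderOf σ)) :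
    σ ^ 3 = 1 ∧ (Nat.card M ≤ 2 → σ = 1) := by
  have h1 : orderOf (MulAut.toPerm M σ) = orderOf σ := by
    apply orderOf_injective
    intro a b hab
    ext m
    exact congrArg (fun τ : Equiv.Perm M => τ m) hab
  have h2 : orderOf σ ∣ (Nat.card M).factorial := by
    rw [← h1, ← Nat.card_perm]
    exact orderOf_dvd_natCard _
  refine ⟨?_, ?_⟩
  · have h3 : orderOf σ ∣ 24 := h2.trans (by
      have := Nat.factorial_dvd_factorial hM
      exact this)
    have h4 : orderOf σ ∣ 3 := by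
      have : (orderOf σ).Coprime 8 := by
        have : Nat.Coprime (orderOf σ) (2 ^ 3) := Nat.Coprime.pow_right 3 (Nat.coprime_two_right.2 hσ)
        exact this
      have e : 24 = 8 * 3 := rfl
      rw [e] at h3
      exact this.dvd_of_dvd_mul_left h3
    exact orderOf_dvd_iff_pow_eq_one.1 h4
  · intro h5
    have h3 : orderOf σ ∣ 2 := h2.trans (by
      have := Nat.factorial_dvd_factorial h5
      exact this)
    rw [← orderOf_eq_one_iff]
    exact Nat.eq_one_of_dvd_coprimes (Nat.coprime_two_right.2 hσ) dvd_rfl h3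

/-- the final contradiction: an element of `A` acting as a transvection -/
theorem QV.sec (h : QV Q V) {a x : G} (ha2 : a ^ 2 = 1)
    (haQ : ∀ q ∈ Q, a * q * a⁻¹ * q⁻¹ ∈ V) {m : ℕ} (hm : Odd m)
    (hy : (x * a * x⁻¹ * a⁻¹) ^ m ∈ Q) (hyQ : x * a * x⁻¹ * a⁻¹ ∉ Q)
    (hC : (V ⊓ Subgroup.centralizer {a}).relIndex V ≤ 2) : Sec (Equiv.Perm (Fin 4)) G := by
  haveI := h.qn
  haveI hVn := h.vn
  obtain ⟨k, hk, hkQ⟩ := exists_odd_part Q hm hy hyQ
  set y := x * a * x⁻¹ * a⁻¹ with hydef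
  set z := y ^ 2 ^ k with hz
  have ha' : a⁻¹ = a := by rw [inv_eq_iff_mul_eq_one, ← pow_two]; exact ha2
  have hay : a * y * a⁻¹ = y⁻¹ := by
    rw [hydef]
    calc a * (x * a * x⁻¹ * a⁻¹) * a⁻¹ = a * x * a * x⁻¹ * (a⁻¹ * a⁻¹) := by group
      _ = a * x * a⁻¹ * x⁻¹ * (a * a) := by rw [ha']
      _ = a * x * a⁻¹ * x⁻¹ := by rw [← pow_two, ha2, mul_one]
      _ = _ := by group
  have haz : a * z * a⁻¹ = z⁻¹ := by rw [hz, ← conj_pow, hay, inv_pow]
  -- trivial on `Q / V`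
  have hgQ : ∀ g k : G, (∀ q ∈ Q, g * q * g⁻¹ * q⁻¹ ∈ V) → (∀ q ∈ Q, k * q * k⁻¹ * q⁻¹ ∈ V) →
      ∀ q ∈ Q, (g * k) * q * (g * k)⁻¹ * q⁻¹ ∈ V := by
    intro g k hg hk q hq
    have h1 := h.vn.conj_mem _ (hk q hq) g
    have h2 := hg q hq
    have e : (g * k) * q * (g * k)⁻¹ * q⁻¹ = (g * (k * q * k⁻¹ * q⁻¹) * g⁻¹) * (g * q * g⁻¹ * q⁻¹) := by group
    rw [e]; exact V.mul_mem h1 h2
  have hyq : ∀ q ∈ Q, y * q * y⁻¹ * q⁻¹ ∈ V := by
    have h1 : ∀ q ∈ Q, (x * a * x⁻¹) * q * (x * a * x⁻¹)⁻¹ * q⁻¹ ∈ V := by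
      intro q hq
      have h2 : x⁻¹ * q * x⁻¹⁻¹ ∈ Q := h.qn.conj_mem q hq x⁻¹
      have h3 := h.vn.conj_mem _ (haQ _ h2) x
      have e : x * (a * (x⁻¹ * q * x⁻¹⁻¹) * a⁻¹ * (x⁻¹ * q * x⁻¹⁻¹)⁻¹) * x⁻¹ =
          (x * a * x⁻¹) * q * (x * a * x⁻¹)⁻¹ * q⁻¹ := by group
      rwa [e] at h3
    have h2 : ∀ q ∈ Q, a⁻¹ * q * a⁻¹⁻¹ * q⁻¹ ∈ V := by rw [ha']; exact haQ
    intro q hq
    rw [hydef]
    exact hgQ _ _ h1 h2 q hq
  have hpq : ∀ g : G, (∀ q ∈ Q, g * q * g⁻¹ * q⁻¹ ∈ V) → ∀ n : ℕ, ∀ q ∈ Q, g ^ n * q * (g ^ n)⁻¹ * q⁻¹ ∈ V := by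
    intro g hg n
    induction n with
    | zero => intro q hq; simp
    | succ n ih => rw [pow_succ']; exact hgQ _ _ hg ih
  have hzq : ∀ q ∈ Q, z * q * z⁻¹ * q⁻¹ ∈ V := hpq y hyq _
  have hz1 : z ≠ 1 := fun h1 => hkQ (by rw [h1]; exact Q.one_mem)
  have hVc : ∀ v ∈ V, ∀ w ∈ V, v * w = w * v := fun v hv w hw => h.cent v hv w (h.le hw)
  -- the hom `v ↦ [z, v]`
  have hmem : ∀ v ∈ V, z * v * z⁻¹ * v⁻¹ ∈ V := fun v hv => V.mul_mem (h.vn.conj_mem v hv z) (V.inv_mem hv)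
  set ψ : ↥V →* ↥V :=
    { toFun := fun v => ⟨z * v * z⁻¹ * (v : G)⁻¹, hmem v v.2⟩
      map_one' := Subtype.ext (by simp)
      map_mul' := by
        rintro ⟨v, hv⟩ ⟨w, hw⟩
        apply Subtype.ext
        change z * (v * w) * z⁻¹ * (v * w)⁻¹ = (z * v * z⁻¹ * v⁻¹) * (z * w * z⁻¹ * w⁻¹)
        have h1 : z * w * z⁻¹ ∈ V := h.vn.conj_mem w hw z
        have h2 : Commute v⁻¹ (z * w * z⁻¹) := hVc _ (V.inv_mem hv) _ h1
        have h3 : Commute v⁻¹ w⁻¹ := hVc _ (V.inv_mem hv) _ (V.inv_mem hw)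
        symm
        calc z * v * z⁻¹ * v⁻¹ * (z * w * z⁻¹ * w⁻¹) = z * v * z⁻¹ * (v⁻¹ * (z * w * z⁻¹)) * w⁻¹ := by group
          _ = z * v * z⁻¹ * ((z * w * z⁻¹) * v⁻¹) * w⁻¹ := by rw [h2.eq]
          _ = z * (v * w) * z⁻¹ * (v⁻¹ * w⁻¹) := by group
          _ = z * (v * w) * z⁻¹ * (w⁻¹ * v⁻¹) := by rw [h3.eq]
          _ = _ := by group } with hψ
  set M : Subgroup G := ψ.range.map V.subtype with hM
  have hMm : ∀ v ∈ V, z * v * z⁻¹ * v⁻¹ ∈ M := fun v hv => ⟨ψ ⟨v, hv⟩, ⟨_, rfl⟩, rfl⟩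
  have hMV : M ≤ V := Subgroup.map_subtype_le _
  have hker : ψ.ker = (V ⊓ Subgroup.centralizer {z}).subgroupOf V := by
    ext ⟨v, hv⟩
    rw [MonoidHom.mem_ker, Subgroup.mem_subgroupOf, Subgroup.mem_inf, Subgroup.mem_centralizer_singleton_iff]
    constructor
    · intro h1
      have h2 : z * v * z⁻¹ * v⁻¹ = 1 := congrArg Subtype.val h1
      refine ⟨hv, ?_⟩
      calc v * z = (z * v * z⁻¹ * v⁻¹)⁻¹ * (z * v) := by group
        _ = z * v := by rw [h2]; group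
    · rintro ⟨_, h2⟩
      apply Subtype.ext
      change z * v * z⁻¹ * v⁻¹ = 1
      change v * z = z * v at h2
      rw [← h2]; group
  have hMcard : Nat.card M = (V ⊓ Subgroup.centralizer {z}).relIndex V := by
    rw [hM, L0.card_map_subtype, ← Subgroup.index_ker, hker]; rfl
  -- the index is at most four
  have h4 : (V ⊓ Subgroup.centralizer {z}).relIndex V ≤ 4 := by
    have e1 : (V ⊓ Subgroup.centralizer {x * a * x⁻¹}).relIndex V = (V ⊓ Subgroup.centralizer {a}).relIndex V := by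
      have h1 : cj x (V ⊓ Subgroup.centralizer {a}) = V ⊓ Subgroup.centralizer {x * a * x⁻¹} := by
        rw [cj_inf, cj_of_mem_norm (norm_of_normal (⊤ : Subgroup G) (Subgroup.mem_top x))]
        congr 1
        ext g
        rw [mem_cj, Subgroup.mem_centralizer_singleton_iff, Subgroup.mem_centralizer_singleton_iff]
        constructor
        · intro h2
          calc g * (x * a * x⁻¹) = x * (x⁻¹ * g * x * a) * x⁻¹ := by group
            _ = x * (a * (x⁻¹ * g * x)) * x⁻¹ := by rw [h2]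
            _ = _ := by group
        · intro h2
          calc x⁻¹ * g * x * a = x⁻¹ * (g * (x * a * x⁻¹)) * x := by group
            _ = x⁻¹ * ((x * a * x⁻¹) * g) * x := by rw [h2]
            _ = _ := by group
      have h2 : cj x V = V := cj_of_mem_norm (norm_of_normal (⊤ : Subgroup G) (Subgroup.mem_top x))
      rw [← h1]
      nth_rewrite 2 [← h2]
      exact relIndex_cj _ _ _
    have e2 : (V ⊓ Subgroup.centralizer {x * a * x⁻¹}) ⊓ (V ⊓ Subgroup.centralizer {a}) ≤ V ⊓ Subgroup.centralizer {z} := by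
      rintro v ⟨⟨hv, hv1⟩, ⟨_, hv2⟩⟩
      refine ⟨hv, ?_⟩
      have c1 : Commute v (x * a * x⁻¹) := Subgroup.mem_centralizer_singleton_iff.1 hv1
      have c2 : Commute v a := Subgroup.mem_centralizer_singleton_iff.1 hv2
      change v ∈ Subgroup.centralizer {z}
      rw [Subgroup.mem_centralizer_singleton_iff, hz, hydef]
      exact ((c1.mul_right c2.inv_right).pow_right _).eq
    refine le_trans (Subgroup.relIndex_le_of_le_left e2 (relIndex_ne _ _)) ?_
    refine le_trans Subgroup.relIndex_inf_le ?_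
    rw [e1]
    nlinarith
  -- `z` normalizes `M`
  have hzM : z ∈ Subgroup.normalizer (M : Set G) := by
    apply mem_norm_of_conj_le
    rintro _ ⟨_, ⟨⟨v, hv⟩, rfl⟩, rfl⟩
    change z * (z * v * z⁻¹ * v⁻¹) * z⁻¹ ∈ M
    have h1 : z * v * z⁻¹ ∈ V := h.vn.conj_mem v hv z
    have h2 := hMm _ h1
    have e : z * (z * v * z⁻¹) * z⁻¹ * (z * v * z⁻¹)⁻¹ = z * (z * v * z⁻¹ * v⁻¹) * z⁻¹ := by group
    rwa [e] at h2
  set σ := M.normalizerMonoidHom ⟨z, hzM⟩ with hσ
  have hσa : ∀ m : ↥M, ((σ m : ↥M) : G) = z * m * z⁻¹ := fun m => rfl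
  have hσo : Odd (orderOf σ) := by
    have h1 : orderOf σ ∣ orderOf z := by
      have h2 := orderOf_map_dvd M.normalizerMonoidHom ⟨z, hzM⟩
      rwa [Subgroup.orderOf_mk] at h2
    exact Odd.of_dvd_nat hk h1
  obtain ⟨h3, h2'⟩ := aut_small (M := ↥M) (by rw [hMcard]; exact h4) σ hσo
  -- an element centralizing `M`, acting through `M`
  have hcen : ∀ g : G, Odd (orderOf g) → (∀ v ∈ V, g * v * g⁻¹ * v⁻¹ ∈ M) → (∀ w ∈ M, g * w = w * g) → ∀ v ∈ V, g * v = v * g := by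
    intro g hg hgV hgM v hv
    set w := g * v * g⁻¹ * v⁻¹ with hw
    have hwM := hgV v hv
    have hgw : Commute g w := hgM w hwM
    have key : ∀ n : ℕ, g ^ n * v * (g ^ n)⁻¹ = w ^ n * v := by
      intro n
      induction n with
      | zero => simp
      | succ n ih =>
        have e1 : g ^ (n + 1) * v * (g ^ (n + 1))⁻¹ = g * (g ^ n * v * (g ^ n)⁻¹) * g⁻¹ := by
          rw [pow_succ']; group
        rw [e1, ih]
        have e2 : g * (w ^ n * v) * g⁻¹ = (g * w ^ n * g⁻¹) * (g * v * g⁻¹) := by group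
        have e3 : g * w ^ n * g⁻¹ = w ^ n := by rw [(hgw.pow_right n).eq]; group
        have e4 : g * v * g⁻¹ = w * v := by rw [hw]; group
        rw [e2, e3, e4, ← mul_assoc, ← pow_succ]
    have h5 := key (orderOf g)
    rw [pow_orderOf_eq_one] at h5
    have h6 : w ^ orderOf g = 1 := by
      have : 1 * v = w ^ orderOf g * v := by rw [← h5]; simp
      exact (mul_right_cancel this).symm
    have h7 : g * v * g⁻¹ * v⁻¹ = 1 := by rw [← hw]; exact eq_one_of_sq_odd hg h6 (h.v2 w (hMV hwM))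
    calc g * v = (g * v * g⁻¹ * v⁻¹) * (v * g) := by group
      _ = v * g := by rw [h7, one_mul]
  -- `z ^ 3 = 1`
  have hz3M : ∀ w ∈ M, z ^ 3 * w = w * z ^ 3 := by
    intro w hw
    have h5 := congrArg (fun τ : MulAut ↥M => ((τ ⟨w, hw⟩ : ↥M) : G)) h3
    have h6 : z * (z * (z * w * z⁻¹) * z⁻¹) * z⁻¹ = w := h5
    calc z ^ 3 * w = (z * (z * (z * w * z⁻¹) * z⁻¹) * z⁻¹) * z ^ 3 := by simp only [pow_succ, pow_zero]; group
      _ = w * z ^ 3 := by rw [h6]
  have hz3V : ∀ n : ℕ, ∀ v ∈ V, z ^ n * v * (z ^ n)⁻¹ * v⁻¹ ∈ M := by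
    intro n
    induction n with
    | zero => intro v hv; simp
    | succ n ih =>
      intro v hv
      have h5 := ih v hv
      have h6 := hMm v hv
      have h7 : z * (z ^ n * v * (z ^ n)⁻¹ * v⁻¹) * z⁻¹ ∈ M := (Subgroup.mem_normalizer_iff.1 hzM _).1 h5
      have e : z ^ (n + 1) * v * (z ^ (n + 1))⁻¹ * v⁻¹ = (z * (z ^ n * v * (z ^ n)⁻¹ * v⁻¹) * z⁻¹) * (z * v * z⁻¹ * v⁻¹) := by
        rw [pow_succ']; group
      rw [e]; exact M.mul_mem h7 h6
  have hz3o : Odd (orderOf (z ^ 3)) := Odd.of_dvd_nat hk (orderOf_pow_dvd 3)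
  have hz3 : z ^ 3 = 1 := h.odd_stab hz3o (hpq z hzq 3) (hcen _ hz3o (hz3V 3) hz3M)
  -- the index is exactly four
  have h5 : (V ⊓ Subgroup.centralizer {z}).relIndex V = 4 := by
    rw [← hMcard] at h4 ⊢
    have h6 : ¬ Nat.card M ≤ 2 := by
      intro h7
      have h8 := h2' h7
      apply hz1
      apply h.odd_stab hk hzq
      apply hcen z hk (by
        intro v hv
        exact hMm v hv)
      intro w hw
      have h9 := congrArg (fun τ : MulAut ↥M => ((τ ⟨w, hw⟩ : ↥M) : G)) h8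
      have h10 : z * w * z⁻¹ = w := h9
      calc z * w = (z * w * z⁻¹) * z := by group
        _ = w * z := by rw [h10]
    have h7 : IsPGroup 2 ↥M := h.q2.to_le (hMV.trans h.le)
    obtain ⟨j, hj⟩ := IsPGroup.iff_card.1 h7
    rw [hj] at h4 h6 ⊢
    have h8 : j ≤ 2 := (Nat.pow_le_pow_iff_right (by norm_num : 1 < 2)).1 (by simpa using h4)
    interval_cases j
    · norm_num at h6
    · norm_num at h6
    · norm_num
  exact s4_sec V (h.q2.to_le h.le) hz3 ha2 haz h5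

end
end Cfsg.Agent.H6
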