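import Cfsg.Agent.H6.SCh3
import Cfsg.Agent.H6.Repl

/-! Tightly embedded subgroups: the direct product lemma -/

set_option autoImplicit false
set_option linter.unusedSectionVars false
open Cfsg Subgroup

namespace Cfsg.Agent.H6

section
variable {G : Type*} [Group G] [Finite G]

local instance fact2 : Fact (Nat.Prime 2) := ⟨Nat.prime_two⟩

def TE (Q : Subgroup G) : Prop := ∀ x, x ∉ normalizer (Q : Set G) → Odd (Nat.card ↥(Q ⊓ cj x Q))

theorem eq_bot_of_odd {K D : Subgroup G} (hK : IsPGroup 2 ↥K) (hD : Odd (Nat.card D)) (h : K ≤ D) : K = ⊥ := by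
  by_contra hne
  have h1 := dvd_card_of_ne_bot hK hne
  have h2 := h1.trans (Subgroup.card_dvd_of_le h)
  exact (Nat.not_even_iff_odd.2 hD) (even_iff_two_dvd.2 h2)

theorem TE.mem {Q K : Subgroup G} (h : TE Q) (hK : IsPGroup 2 ↥K) (hK1 : K ≠ ⊥) {x : G} (h1 : K ≤ Q) (h2 : K ≤ cj x Q) :
    x ∈ normalizer (Q : Set G) := by
  by_contra hcon
  exact hK1 (eq_bot_of_odd hK (h x hcon) (le_inf h1 h2))

theorem TE.cj {Q : Subgroup G} (h : TE Q) (g : G) : TE (cj g Q) := by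
  intro x hx
  have h1 := h (g⁻¹ * x * g) (fun hc => hx ?_)
  · have h2 : H6.cj g Q ⊓ H6.cj x (H6.cj g Q) = H6.cj g (Q ⊓ H6.cj (g⁻¹ * x * g) Q) := by
      rw [cj_inf, ← cj_mul, ← cj_mul]
      have : g * (g⁻¹ * x * g) = x * g := by group
      rw [this]
    rw [h2, card_cj]; exact h1
  · rw [mem_norm] at hc ⊢
    have := congrArg (H6.cj g) hc
    rw [← cj_mul] at this
    have e : g * (g⁻¹ * x * g) = x * g := by group
    rw [e, cj_mul] at this
    exact this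

theorem te_half {Q Q' T Q₂ : Subgroup G} (hTE : TE Q') (hD : Odd (Nat.card ↥(Q ⊓ Q'))) (hT : IsPGroup 2 ↥T) (hT1 : T ≠ ⊥)
    (hTQ' : T ≤ Q') (hTN : T ≤ normalizer (Q : Set G)) (hQ₂ : IsPGroup 2 ↥Q₂) (hQ₂Q : Q₂ ≤ Q)
    (hTQ₂ : T ≤ normalizer (Q₂ : Set G)) :
    Q₂ ⊓ normalizer (Q' : Set G) = Q₂ ⊓ centralizer (T : Set G) ∧
    (Q₂ ⊓ normalizer (Q' : Set G) ≠ Q₂ → ∃ f : ↥T →* ↥(Q₂ ⊓ normalizer (Q' : Set G)), Function.Injective f) := by
  have hda : ∀ K : Subgroup G, IsPGroup 2 ↥K → K ≤ Q → K ≤ Q' → K = ⊥ := fun K hK h1 h2 =>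
    eq_bot_of_odd hK hD (le_inf h1 h2)
  have hd : Q₂ ⊓ Q' = ⊥ := hda _ (hQ₂.to_le inf_le_left) (inf_le_left.trans hQ₂Q) inf_le_right
  have ha : Q₂ ⊓ normalizer (Q' : Set G) = Q₂ ⊓ centralizer (T : Set G) := by
    refine le_antisymm ?_ ?_
    · intro u hu
      obtain ⟨hu1, hu2⟩ := mem_inf.1 hu
      refine mem_inf.2 ⟨hu1, ?_⟩
      rw [mem_centralizer_iff]
      intro t ht
      have h1 : u * t * u⁻¹ * t⁻¹ ∈ Q₂ ⊓ Q' := by
        refine mem_inf.2 ⟨?_, ?_⟩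
        · have h2 := (Subgroup.mem_normalizer_iff.1 (hTQ₂ ht) u⁻¹).1 (inv_mem hu1)
          have e : u * t * u⁻¹ * t⁻¹ = u * (t * u⁻¹ * t⁻¹) := by group
          rw [e]; exact mul_mem hu1 h2
        · exact mul_mem ((Subgroup.mem_normalizer_iff.1 hu2 t).1 (hTQ' ht)) (inv_mem (hTQ' ht))
      rw [hd, mem_bot] at h1
      have := congrArg (fun s => s * t * u) h1
      simpa [mul_assoc] using this.symm
    · refine le_inf inf_le_left ?_
      intro r hr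
      refine hTE.mem hT hT1 hTQ' ?_
      have h1 : cj r T = T := by
        rw [← mem_norm]; exact centralizer_le_normalizer _ (mem_inf.1 hr).2
      nth_rewrite 1 [← h1]
      exact cj_mono hTQ'
  refine ⟨ha, ?_⟩
  intro hne
  obtain ⟨R, hR⟩ : ∃ R, R = Q₂ ⊓ normalizer (Q' : Set G) := ⟨_, rfl⟩
  rw [← hR] at hne ha ⊢
  have hRQ : R ≤ Q₂ := hR ▸ inf_le_left
  have hRT : R ≤ centralizer (T : Set G) := ha ▸ inf_le_right
  have hRTd : R ⊓ T = ⊥ := by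
    rw [eq_bot_iff, ← hd]
    exact inf_le_inf hRQ hTQ'
  have hcomm : ∀ r ∈ R, ∀ t ∈ T, r * t = t * r := fun r hr t ht => (mem_centralizer_iff.1 (hRT hr) t ht).symm
  -- the element x
  obtain ⟨x, hxQ, hxR, hxn⟩ : ∃ x ∈ Q₂, x ∉ R ∧ x ∈ normalizer ((R ⊔ T : Subgroup G) : Set G) := by
    have hPp : IsPGroup 2 ↥(Q₂ ⊔ T) := hQ₂.to_sup_of_normal_left' hT hTQ₂
    have hlt : R ⊔ T < Q₂ ⊔ T := by
      refine lt_of_le_of_ne (sup_le_sup_right hRQ T) fun he => hne ?_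
      refine le_antisymm hRQ ?_
      intro q hq
      have h1 : q ∈ R ⊔ T := he.symm ▸ mem_sup_left hq
      have hRn : T ≤ normalizer (R : Set G) := by
        rw [le_centralizer_iff] at hRT
        exact hRT.trans (centralizer_le_normalizer _)
      obtain ⟨r, hr, t, ht, hrt⟩ := (L0.mem_sup_of_normalizes hRn).1 h1
      have h2 : t ∈ Q₂ ⊓ Q' := by
        refine mem_inf.2 ⟨?_, hTQ' ht⟩
        have : t = r⁻¹ * q := by rw [← hrt]; group
        rw [this]; exact mul_mem (inv_mem (hRQ hr)) hq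
      rw [hd, mem_bot] at h2
      rw [h2, mul_one] at hrt
      rwa [← hrt]
    have h1 := lt_inf_normalizer hPp hlt
    obtain ⟨y, hy, hyn⟩ := SetLike.exists_of_lt h1
    obtain ⟨hy1, hy2⟩ := mem_inf.1 hy
    obtain ⟨q, hq, t, ht, rfl⟩ := (L0.mem_sup_of_normalizes hTQ₂).1 hy1
    have htL : t ∈ R ⊔ T := mem_sup_right ht
    refine ⟨q, hq, fun hqR => hyn (mul_mem (mem_sup_left hqR) htL), ?_⟩
    have := mul_mem hy2 (inv_mem (le_normalizer htL))
    simpa using this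
  have hxT : ∀ t ∈ T, x * t * x⁻¹ ∈ R ⊔ T := fun t ht =>
    (Subgroup.mem_normalizer_iff.1 hxn t).1 (mem_sup_right ht)
  have hTT : ∀ t ∈ T, x * t * x⁻¹ ∈ T → t = 1 := by
    intro t ht h1
    by_contra ht1
    apply hxR
    have h2 : x ∈ normalizer (Q' : Set G) := by
      refine hTE.mem (K := zpowers (x * t * x⁻¹)) (hT.to_le (by rwa [zpowers_le])) ?_ ?_ ?_
      · rw [Ne, zpowers_eq_bot]
        intro h3
        apply ht1
        have := congrArg (fun s => x⁻¹ * s * x) h3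
        simpa [mul_assoc] using this
      · rw [zpowers_le]; exact hTQ' h1
      · rw [zpowers_le]; exact conj_mem_cj (hTQ' ht)
    rw [hR]; exact mem_inf.2 ⟨hxQ, h2⟩
  let φ : ↥R × ↥T →* G := MonoidHom.noncommCoprod R.subtype T.subtype (fun r t => hcomm r r.2 t t.2)
  have hφ : ∀ r t, φ (r, t) = (r : G) * t := fun r t => rfl
  have hφi : Function.Injective φ := by
    rw [injective_iff_map_eq_one]
    rintro ⟨r, t⟩ h
    rw [hφ] at h
    have h1 : (t : G) ∈ R ⊓ T := by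
      refine mem_inf.2 ⟨?_, t.2⟩
      have : (t : G) = (r : G)⁻¹ := (inv_eq_of_mul_eq_one_right h).symm
      rw [this]; exact inv_mem r.2
    rw [hRTd, mem_bot] at h1
    rw [h1, mul_one] at h
    exact Prod.ext (Subtype.ext h) (Subtype.ext h1)
  have hφr : ∀ y ∈ R ⊔ T, y ∈ φ.range := by
    intro y hy
    have hRn : T ≤ normalizer (R : Set G) := by
      rw [le_centralizer_iff] at hRT
      exact hRT.trans (centralizer_le_normalizer _)
    obtain ⟨r, hr, t, ht, rfl⟩ := (L0.mem_sup_of_normalizes hRn).1 hy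
    exact ⟨(⟨r, hr⟩, ⟨t, ht⟩), rfl⟩
  let c : ↥T →* ↥φ.range := ((MulAut.conj x).toMonoidHom.comp T.subtype).codRestrict φ.range
    (fun t => hφr _ (hxT t t.2))
  let e := MonoidHom.ofInjective hφi
  refine ⟨(MonoidHom.fst ↥R ↥T).comp (e.symm.toMonoidHom.comp c), ?_⟩
  rw [injective_iff_map_eq_one]
  intro t ht
  have h1 : (e.symm (c t)).1 = 1 := ht
  have h2 : φ (e.symm (c t)) = x * t * x⁻¹ := by
    have h3 : e (e.symm (c t)) = c t := e.apply_symm_apply _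
    exact congrArg Subtype.val h3
  have h3 : φ (e.symm (c t)) ∈ T := by
    have h4 : φ (e.symm (c t)) = ((e.symm (c t)).1 : G) * ((e.symm (c t)).2 : G) := rfl
    rw [h4, h1, OneMemClass.coe_one, one_mul]
    exact (e.symm (c t)).2.2
  rw [h2] at h3
  exact Subtype.ext (hTT t t.2 h3)

theorem exists_fixed_ne_one {Q₂ T : Subgroup G} (hQ : IsPGroup 2 ↥Q₂) (hT : IsPGroup 2 ↥T) (hn : T ≤ normalizer (Q₂ : Set G))
    (hQ1 : Q₂ ≠ ⊥) : Q₂ ⊓ centralizer (T : Set G) ≠ ⊥ := by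
  obtain ⟨P, hP⟩ : ∃ P, P = Q₂ ⊔ T := ⟨_, rfl⟩
  have hPp : IsPGroup 2 ↥P := hP ▸ hQ.to_sup_of_normal_left' hT hn
  haveI : Group.IsNilpotent ↥P := hPp.isNilpotent
  have hQP : Q₂ ≤ P := hP ▸ le_sup_left
  have hTP : T ≤ P := hP ▸ le_sup_right
  haveI : (Q₂.subgroupOf P).Normal := by
    rw [Subgroup.normal_subgroupOf_iff_le_normalizer hQP, hP]
    exact sup_le le_normalizer hn
  have h1 := H1.inf_center_ne_bot (Q₂.subgroupOf P) (by
    intro h
    rw [Subgroup.subgroupOf_eq_bot, disjoint_iff, inf_eq_left.2 hQP] at h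
    exact hQ1 h)
  intro h2
  apply h1
  rw [eq_bot_iff]
  intro y hy
  obtain ⟨hy1, hy2⟩ := mem_inf.1 hy
  have h3 : (y : G) ∈ Q₂ ⊓ centralizer (T : Set G) := by
    refine mem_inf.2 ⟨hy1, ?_⟩
    rw [mem_centralizer_iff]
    intro t ht
    exact congrArg Subtype.val ((mem_center_iff.1 hy2) ⟨t, hTP ht⟩)
  rw [h2, mem_bot] at h3
  exact Subgroup.mem_bot.2 (Subtype.ext h3)

theorem equiv_cj (g : G) (H : Subgroup G) : Nonempty (↥H ≃* ↥(cj g H)) :=
  ⟨H.equivMapOfInjective _ (MulAut.conj g).injective⟩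

theorem te_main {Q T S : Subgroup G} {g : G} (hQe : Even (Nat.card Q)) (hTE : TE Q) (hg : g ∉ normalizer (Q : Set G))
    (hT1 : T ≠ ⊥) (hTs : SylIn 2 T (cj g Q ⊓ normalizer (Q : Set G))) (hTS : T ≤ S) (hSs : SylIn 2 S (Q ⊔ T)) :
    T ⊓ Q = ⊥ ∧
      T ⊓ (S ⊓ normalizer (T : Set G) ⊓ Q) = ⊥ ∧
      ⁅T, S ⊓ normalizer (T : Set G) ⊓ Q⁆ = ⊥ ∧
      T ⊔ (S ⊓ normalizer (T : Set G) ⊓ Q) = S ⊓ normalizer (T : Set G) ∧
      Nonempty (↥(S ⊓ normalizer (T : Set G) ⊓ Q) ≃* T) := by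
  obtain ⟨Q', hQ'⟩ : ∃ Q', Q' = cj g Q := ⟨_, rfl⟩
  rw [← hQ'] at hTs
  have hTE' : TE Q' := hQ' ▸ hTE.cj g
  have hD : Odd (Nat.card ↥(Q ⊓ Q')) := hQ' ▸ hTE g hg
  have hTp := hTs.isPGroup
  have hTQ' : T ≤ Q' := hTs.le.trans inf_le_left
  have hTN : T ≤ normalizer (Q : Set G) := hTs.le.trans inf_le_right
  have hTQ : T ⊓ Q = ⊥ := eq_bot_of_odd (hTp.to_le inf_le_left) hD (le_inf inf_le_right (inf_le_left.trans hTQ'))
  obtain ⟨Q₂, hQ₂⟩ : ∃ Q₂, Q₂ = S ⊓ Q := ⟨_, rfl⟩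
  have hQ₂s : SylIn 2 Q₂ Q := by
    rw [hQ₂]
    exact sylIn_inf_normal hSs le_sup_left (sup_le le_normalizer hTN)
  have hTQ₂ : T ≤ normalizer (Q₂ : Set G) := by
    rw [hQ₂]; exact le_norm_inf (hTS.trans le_normalizer) hTN
  have hQ₂1 : Q₂ ≠ ⊥ := hQ₂s.ne_bot (even_iff_two_dvd.1 hQe)
  obtain ⟨ha, hb⟩ := te_half hTE' hD hTp hT1 hTQ' hTN hQ₂s.isPGroup hQ₂s.le hTQ₂
  obtain ⟨R, hR⟩ : ∃ R, R = Q₂ ⊓ normalizer (Q' : Set G) := ⟨_, rfl⟩
  rw [← hR] at ha hb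
  have hXR : S ⊓ normalizer (T : Set G) ⊓ Q = R := by
    rw [ha, hQ₂]
    refine le_antisymm ?_ ?_
    · intro r hr
      obtain ⟨hr1, hr3⟩ := mem_inf.1 hr
      obtain ⟨hr1, hr2⟩ := mem_inf.1 hr1
      refine mem_inf.2 ⟨mem_inf.2 ⟨hr1, hr3⟩, ?_⟩
      rw [mem_centralizer_iff]
      intro t ht
      have h1 : r * t * r⁻¹ * t⁻¹ ∈ T ⊓ Q := by
        refine mem_inf.2 ⟨mul_mem ((Subgroup.mem_normalizer_iff.1 hr2 t).1 ht) (inv_mem ht), ?_⟩
        have h2 := (Subgroup.mem_normalizer_iff.1 (hTN ht) r⁻¹).1 (inv_mem hr3)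
        have e : r * t * r⁻¹ * t⁻¹ = r * (t * r⁻¹ * t⁻¹) := by group
        rw [e]; exact mul_mem hr3 h2
      rw [hTQ, mem_bot] at h1
      have := congrArg (fun s => s * t * r) h1
      simpa [mul_assoc] using this.symm
    · refine le_inf (le_inf (inf_le_left.trans inf_le_left) (inf_le_right.trans (centralizer_le_normalizer _))) (inf_le_left.trans inf_le_right)
  rw [hXR]
  have hRQ₂ : R ≤ Q₂ := hR ▸ inf_le_left
  have hRQ : R ≤ Q := hRQ₂.trans hQ₂s.le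
  have hRN : R ≤ normalizer (Q' : Set G) := hR ▸ inf_le_right
  have hRp : IsPGroup 2 ↥R := hQ₂s.isPGroup.to_le hRQ₂
  have hR1 : R ≠ ⊥ := ha ▸ exists_fixed_ne_one hQ₂s.isPGroup hTp hTQ₂ hQ₂1
  have hRT : R ≤ centralizer (T : Set G) := ha ▸ inf_le_right
  -- the Sylow subgroup of Q'
  have hTRp : IsPGroup 2 ↥(T ⊔ R) := hTp.to_sup_of_normal_left' hRp (hRT.trans (centralizer_le_normalizer _))
  obtain ⟨S', hS', hTRS⟩ := exists_sylIn_ge hTRp (H := Q' ⊔ R) (sup_le_sup_right hTQ' R)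
  obtain ⟨T₂, hT₂⟩ : ∃ T₂, T₂ = S' ⊓ Q' := ⟨_, rfl⟩
  have hT₂s : SylIn 2 T₂ Q' := by
    rw [hT₂]
    exact sylIn_inf_normal hS' le_sup_left (sup_le le_normalizer hRN)
  have hTT₂ : T ≤ T₂ := hT₂ ▸ le_inf (le_sup_left.trans hTRS) hTQ'
  have hRT₂ : R ≤ normalizer (T₂ : Set G) := by
    rw [hT₂]; exact le_norm_inf ((le_sup_right.trans hTRS).trans le_normalizer) hRN
  obtain ⟨ha', hb'⟩ := te_half hTE (by rwa [inf_comm]) hRp hR1 hRQ hRN hT₂s.isPGroup hT₂s.le hRT₂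
  have hV : T₂ ⊓ normalizer (Q : Set G) = T := by
    symm
    refine hTs.eq_of_le (hT₂s.isPGroup.to_le inf_le_left) (inf_le_inf_right _ hT₂s.le) (le_inf hTT₂ hTN)
  rw [hV] at hb'
  -- the orders
  have hQT : Nonempty (↥Q₂ ≃* ↥T₂) := by
    have h1 : SylIn 2 (cj g Q₂) Q' := hQ' ▸ hQ₂s.cj g
    obtain ⟨h, hh, he⟩ := h1.conj hT₂s
    obtain ⟨e1⟩ := equiv_cj g Q₂
    obtain ⟨e2⟩ := equiv_cj h (cj g Q₂)
    rw [he] at e2
    exact ⟨e1.trans e2⟩
  have hcard : Nat.card Q₂ = Nat.card T₂ := by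
    obtain ⟨e⟩ := hQT
    exact Nat.card_congr e.toEquiv
  have hiso : Nonempty (↥R ≃* ↥T) := by
    by_cases h1 : R = Q₂
    · by_cases h2 : T = T₂
      · rw [h1, h2]; exact hQT
      · obtain ⟨f, hf⟩ := hb' h2
        have h3 := Nat.card_le_card_of_injective f hf
        have h4 := card_lt_of_lt (lt_of_le_of_ne hTT₂ h2)
        rw [h1] at h3
        omega
    · obtain ⟨f, hf⟩ := hb h1
      have h3 := Nat.card_le_card_of_injective f hf
      by_cases h2 : T = T₂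
      · have h4 := card_lt_of_lt (lt_of_le_of_ne hRQ₂ h1)
        rw [h2] at h3
        omega
      · obtain ⟨f', hf'⟩ := hb' h2
        have h4 := Nat.card_le_card_of_injective f' hf'
        have h5 : Function.Bijective f' := (Nat.bijective_iff_injective_and_card f').2 ⟨hf', by omega⟩
        exact ⟨MulEquiv.ofBijective f' h5⟩
  refine ⟨hTQ, ?_, ?_, ?_, hiso⟩
  · rw [eq_bot_iff, ← hTQ]; exact inf_le_inf_left _ hRQ
  · rw [Subgroup.commutator_eq_bot_iff_le_centralizer, le_centralizer_iff]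
    exact hRT
  · refine le_antisymm (sup_le (le_inf hTS le_normalizer) ?_) ?_
    · rw [← hXR]; exact inf_le_left
    · intro x hx
      obtain ⟨hx1, hx2⟩ := mem_inf.1 hx
      obtain ⟨q, hq, t, ht, rfl⟩ := (L0.mem_sup_of_normalizes hTN).1 (hSs.le hx1)
      have h1 : q ∈ R := by
        rw [← hXR]
        refine mem_inf.2 ⟨mem_inf.2 ⟨?_, ?_⟩, hq⟩
        · have := mul_mem hx1 (inv_mem (hTS ht))
          simpa using this
        · have := mul_mem hx2 (inv_mem (le_normalizer ht))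
          simpa using this
      exact mul_mem (mem_sup_right h1) (mem_sup_left ht)

end

end Cfsg.Agent.H6
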