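import Cfsg.Agent.H6.YMin
import Cfsg.Agent.H6.Critical4
import Cfsg.Agent.H6.CopFrat
import Cfsg.Agent.S0012

/-! `Y`-minimal groups: commutators in the normal closure of `O_p(L) ∩ Y` -/

set_option autoImplicit false
set_option linter.unusedSectionVars false
open Cfsg Subgroup
open scoped commutatorElement

namespace Cfsg.Agent.H6

section
variable {p : ℕ} [hp : Fact p.Prime] {L : Type*} [Group L] [Finite L]

/-- commutators and powers in a product `B * B'` modulo a normal subgroup `C` -/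
theorem two_ab {A B B' C : Subgroup L} (hC : C.Normal) (hA : A = B ⊔ B') (hB : ∀ a ∈ B, ∀ b ∈ B, a * b = b * a)
    (hB' : ∀ a ∈ B', ∀ b ∈ B', a * b = b * a) (hc : ⁅B, B'⁆ ≤ C) (hp1 : ∀ a ∈ B, a ^ p = 1) (hp2 : ∀ a ∈ B', a ^ p = 1) :
    ⁅A, A⁆ ≤ C ∧ ∀ a ∈ A, a ^ p ∈ C := by
  obtain ⟨π, hπ⟩ : ∃ π : L →* L ⧸ C, π = QuotientGroup.mk' C := ⟨_, rfl⟩
  have hk : ∀ x, π x = 1 ↔ x ∈ C := fun x => by rw [hπ, ← MonoidHom.mem_ker, QuotientGroup.ker_mk']
  have hkc : ∀ x y, ⁅x, y⁆ ∈ C → π x * π y = π y * π x := by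
    intro x y h
    rw [← hk, map_commutatorElement, commutatorElement_eq_one_iff_mul_comm] at h
    exact h
  have h1 : B.map π ≤ centralizer ((B.map π : Subgroup _) : Set _) := by
    rintro _ ⟨a, ha, rfl⟩
    rw [mem_centralizer_iff]
    rintro _ ⟨b, hb, rfl⟩
    rw [← map_mul, ← map_mul, hB b hb a ha]
  have h2 : B'.map π ≤ centralizer ((B'.map π : Subgroup _) : Set _) := by
    rintro _ ⟨a, ha, rfl⟩
    rw [mem_centralizer_iff]
    rintro _ ⟨b, hb, rfl⟩
    rw [← map_mul, ← map_mul, hB' b hb a ha]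
  have h3 : B.map π ≤ centralizer ((B'.map π : Subgroup _) : Set _) := by
    rintro _ ⟨a, ha, rfl⟩
    rw [mem_centralizer_iff]
    rintro _ ⟨b, hb, rfl⟩
    exact (hkc a b (hc (commutator_mem_commutator ha hb))).symm
  have h4 : B'.map π ≤ centralizer ((B.map π : Subgroup _) : Set _) := le_centralizer_iff.1 h3
  have h5 : A.map π = B.map π ⊔ B'.map π := by rw [hA, Subgroup.map_sup]
  have h6 : B.map π ≤ centralizer ((A.map π : Subgroup _) : Set _) := by
    rw [le_centralizer_iff, h5]; exact sup_le h1 h4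
  have h7 : B'.map π ≤ centralizer ((A.map π : Subgroup _) : Set _) := by
    rw [le_centralizer_iff, h5]; exact sup_le h3 h2
  have h8 : A.map π ≤ centralizer ((A.map π : Subgroup _) : Set _) := by
    conv_lhs => rw [h5]
    exact sup_le h6 h7
  constructor
  · rw [commutator_le]
    intro x hx y hy
    rw [← hk, map_commutatorElement, commutatorElement_eq_one_iff_mul_comm]
    exact mem_centralizer_iff.1 (h8 (mem_map_of_mem π hy)) _ (mem_map_of_mem π hx)
  · intro a ha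
    have h9 : a ∈ closure ((B : Set L) ∪ B') := by rw [← sup_eq_closure, ← hA]; exact ha
    suffices a ∈ A ∧ a ^ p ∈ C from this.2
    clear ha
    induction h9 using closure_induction with
    | mem x hx =>
      rcases hx with hx | hx
      · exact ⟨hA ▸ mem_sup_left hx, by rw [hp1 x hx]; exact one_mem _⟩
      · exact ⟨hA ▸ mem_sup_right hx, by rw [hp2 x hx]; exact one_mem _⟩
    | one => exact ⟨one_mem _, by rw [one_pow]; exact one_mem _⟩
    | mul x y _ _ hx hy =>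
      obtain ⟨hx1, hx2⟩ := hx
      obtain ⟨hy1, hy2⟩ := hy
      refine ⟨mul_mem hx1 hy1, ?_⟩
      have hc' : Commute (π x) (π y) := mem_centralizer_iff.1 (h8 (mem_map_of_mem π hy1)) _ (mem_map_of_mem π hx1)
      rw [← hk, map_pow] at hx2 hy2 ⊢
      rw [map_mul, hc'.mul_pow, hx2, hy2, one_mul]
    | inv x _ hx => exact ⟨inv_mem hx.1, by rw [inv_pow]; exact inv_mem hx.2⟩

theorem s2837 {Y L₀ : Subgroup L} (h : YM Y L₀) (hYel : IsElementaryAbelian p Y) (hOY : pCore p L ≤ normalizer (Y : Set L))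
    (A : Subgroup L) (hA : A = normalClosure (((pCore p L ⊓ Y : Subgroup L)) : Set L)) (g : L) (hg : g ∉ L₀) :
    (frattini ↥A).map A.subtype = ⁅A, A⁆ ∧ ⁅A, A⁆ = ⁅A ⊓ Y, A⁆ ∧ ⁅A ⊓ Y, A⁆ = ⁅A ⊓ Y, A ⊓ cj g Y⁆ ∧ ⁅A ⊓ Y, A⁆ ≤ Y ⊓ center L ∧
      Y ⊓ cj g Y = Y ⊓ center L ∧ (A ⊓ Y) ⊓ (A ⊓ cj g Y) = Y ⊓ center L ∧ A ⊓ center L = Y ⊓ center L := by
  have hab : ∀ a ∈ Y, ∀ b ∈ Y, a * b = b * a := fun a ha b hb => congrArg Subtype.val (hYel.1.is_comm.comm ⟨a, ha⟩ ⟨b, hb⟩)
  have hpw : ∀ a ∈ Y, a ^ p = 1 := hYel.2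
  have hYp : IsPGroup p ↥Y := fun y => ⟨1, by rw [pow_one]; exact Subtype.ext (hpw y y.2)⟩
  obtain ⟨O, hO⟩ : ∃ O, O = pCore p L := ⟨_, rfl⟩
  rw [← hO] at hOY hA
  haveI hOn : O.Normal := by rw [hO]; infer_instance
  obtain ⟨B, hB⟩ : ∃ B, B = O ⊓ Y := ⟨_, rfl⟩
  rw [← hB] at hA
  haveI hAn : A.Normal := by rw [hA]; infer_instance
  have hOt : normalizer (O : Set L) = ⊤ := normalizer_eq_top_iff.2 hOn
  have hAt : normalizer (A : Set L) = ⊤ := normalizer_eq_top_iff.2 hAn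
  have hcO : cj g O = O := cj_of_mem_norm (hOt.ge (mem_top _))
  have hcA : cj g A = A := cj_of_mem_norm (hAt.ge (mem_top _))
  have hBA : B ≤ A := by rw [hA]; exact subset_normalClosure
  have hBY : B ≤ Y := hB ▸ inf_le_right
  have hBO : B ≤ O := hB ▸ inf_le_left
  have hAO : A ≤ O := by rw [hA]; exact normalClosure_le_normal hBO
  have hOYB : ⁅O, Y⁆ ≤ B := by
    rw [hB]
    refine le_inf (commutator_le_left _ _) ?_
    rw [commutator_comm]; exact comm_le_iff_norm.2 hOY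
  have hcY : ∀ x : L, ⁅O, cj x Y⁆ ≤ cj x B := by
    intro x
    have := cj_mono (g := x) hOYB
    rwa [cj_commutator, cj_of_mem_norm (hOt.ge (mem_top x))] at this
  have hB'O : cj g B ≤ O := by rw [← hcO]; exact cj_mono hBO
  have hB'Y : cj g B ≤ cj g Y := cj_mono hBY
  -- `A = B * B^g`
  have hW : A = B ⊔ cj g B := by
    refine le_antisymm ?_ (sup_le hBA (by rw [← hcA]; exact cj_mono hBA))
    have h1 : Y ≤ normalizer ((B ⊔ cj g B : Subgroup L) : Set L) := by
      rw [← comm_le_iff_norm]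
      have h2 : ⁅B ⊔ cj g B, Y⁆ ≤ ⁅O, Y⁆ := commutator_mono (sup_le hBO hB'O) le_rfl
      exact h2.trans (hOYB.trans le_sup_left)
    have h2 : cj g Y ≤ normalizer ((B ⊔ cj g B : Subgroup L) : Set L) := by
      rw [← comm_le_iff_norm]
      have h2 : ⁅B ⊔ cj g B, cj g Y⁆ ≤ ⁅O, cj g Y⁆ := commutator_mono (sup_le hBO hB'O) le_rfl
      exact h2.trans ((hcY g).trans le_sup_right)
    have h3 : (B ⊔ cj g B).Normal := by
      rw [← normalizer_eq_top_iff, eq_top_iff, ← h.gen hg]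
      exact sup_le h1 h2
    rw [hA]
    exact normalClosure_le_normal (fun x hx => mem_sup_left hx)
  have hAY : A ⊓ Y = B := le_antisymm (by rw [hB]; exact inf_le_inf_right _ hAO) (le_inf hBA hBY)
  have hAY' : A ⊓ cj g Y = cj g B := by
    have := congrArg (cj g) hAY
    rwa [cj_inf, hcA] at this
  have hYg := h.inf hab hg
  have hnB : ∀ x : L, O ≤ normalizer ((cj x B : Subgroup L) : Set L) := by
    intro x
    rw [← cj_normalizer]
    have h1 : O ≤ normalizer (B : Set L) := by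
      rw [hB]; exact norm_inf' (hOt.ge.trans' le_top) hOY
    have := cj_mono (g := x) h1
    rwa [cj_of_mem_norm (hOt.ge (mem_top x))] at this
  have hnB1 : O ≤ normalizer (B : Set L) := by simpa using hnB 1
  -- the commutator
  obtain ⟨C, hC⟩ : ∃ C, C = ⁅B, cj g B⁆ := ⟨_, rfl⟩
  have hC1 : C ≤ Y ⊓ center L := by
    rw [← hYg, hC]
    refine le_inf ?_ ?_
    · rw [commutator_comm]
      refine le_trans ?_ hBY
      rw [commutator_comm]
      exact comm_le_iff_norm.2 (hB'O.trans hnB1)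
    · refine le_trans ?_ hB'Y
      rw [commutator_comm]
      exact comm_le_iff_norm.2 (hBO.trans (hnB g))
  have hCn : C.Normal := by
    refine ⟨fun x hx y => ?_⟩
    have := mem_center_iff.1 (hC1 hx).2 y
    rw [this]; simpa using hx
  have habB : ∀ a ∈ B, ∀ b ∈ B, a * b = b * a := fun a ha b hb => hab a (hBY ha) b (hBY hb)
  have habB' : ∀ a ∈ cj g B, ∀ b ∈ cj g B, a * b = b * a := by
    rintro _ ⟨a, ha, rfl⟩ _ ⟨b, hb, rfl⟩
    rw [← map_mul, ← map_mul, habB a ha b hb]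
  obtain ⟨hAA, hAp⟩ := two_ab (p := p) hCn hW habB habB' (by rw [hC]) (fun a ha => hpw a (hBY ha)) (by
    rintro _ ⟨a, ha, rfl⟩
    rw [← map_pow, hpw a (hBY ha), map_one])
  have hCBA : C ≤ ⁅B, A⁆ := by
    rw [hC]; exact commutator_mono le_rfl (hW ▸ le_sup_right)
  have hBAA : ⁅B, A⁆ ≤ ⁅A, A⁆ := commutator_mono hBA le_rfl
  have e1 : ⁅A, A⁆ = C := le_antisymm hAA (hCBA.trans hBAA)
  have e2 : ⁅B, A⁆ = C := le_antisymm (hBAA.trans hAA) hCBA
  have hAp' : IsPGroup p ↥A := (L0.pCore_isPGroup p L).to_le (hO ▸ hAO)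
  have hZA : Y ⊓ center L ≤ A := by
    have h1 : (Y ⊓ center L).Normal := by
      refine ⟨fun x hx y => ?_⟩
      have := mem_center_iff.1 hx.2 y
      rw [this]; simpa using hx
    have h2 : Y ⊓ center L ≤ O := by rw [hO]; exact L0.le_pCore (hYp.to_le inf_le_left)
    refine le_trans ?_ hBA
    rw [hB]
    exact le_inf h2 inf_le_left
  rw [hAY, hAY', e1, e2, ← hC, hYg]
  refine ⟨?_, rfl, rfl, hC1, rfl, ?_, ?_⟩
  · refine le_antisymm ?_ ?_
    · rw [Subgroup.map_le_iff_le_comap]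
      refine frattini_le_of_pow (p := p) _ ?_ ?_
      · rw [_root_.commutator_def, commutator_le]
        intro x _ y _
        rw [mem_comap, map_commutatorElement, ← e1]
        exact commutator_mem_commutator x.2 y.2
      · intro x
        exact hAp x x.2
    · rw [← e1]
      rw [commutator_le]
      intro x hx y hy
      refine ⟨⁅(⟨x, hx⟩ : ↥A), (⟨y, hy⟩ : ↥A)⁆, ?_, rfl⟩
      exact (S0012.result p hAp').1 (commutator_mem_commutator (mem_top _) (mem_top _))
  · rw [← hAY', ← hAY, hAY', ← hAY', ← hYg]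
    refine le_antisymm (inf_le_inf inf_le_right inf_le_right) (le_inf (le_inf ?_ inf_le_left) (le_inf ?_ inf_le_right))
    · rw [hYg]; exact hZA
    · rw [hYg]; exact hZA
  · refine le_antisymm ?_ (le_inf hZA inf_le_right)
    rintro z ⟨hz1, hz2⟩
    have hz1' : z ∈ B ⊔ cj g B := hW ▸ hz1
    refine mem_inf.2 ⟨?_, hz2⟩
    have hz2' := mem_center_iff.1 hz2
    obtain ⟨b, hb, c, hc, hbc⟩ := (L0.mem_sup_of_normalizes' (hBO.trans (hnB g))).1 (by rw [sup_comm]; exact hz1')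
    have h1 : (⊤ : Subgroup L) ≤ centralizer {c} := by
      rw [← h.gen hg]
      refine sup_le ?_ ?_
      · intro y hy
        rw [mem_centralizer_singleton_iff]
        have e : c = b⁻¹ * z := by rw [← hbc]; group
        rw [e, ← mul_assoc, hab y hy b⁻¹ (inv_mem (hBY hb)), mul_assoc, hz2' y, mul_assoc]
      · intro y hy
        rw [mem_centralizer_singleton_iff]
        obtain ⟨y', hy', rfl⟩ := hy
        obtain ⟨c', hc', rfl⟩ := hB'Y hc
        rw [← map_mul, ← map_mul, hab y' hy' c' hc']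
    have h2 : c ∈ Y := by
      obtain ⟨c', hc', e⟩ := hB'Y hc
      have h3 := mem_centralizer_singleton_iff.1 (h1 (mem_top g))
      have e2 : g * c' * g⁻¹ = c := e
      have e3 : c' = g⁻¹ * (c * g) := by rw [← e2]; group
      rw [← h3] at e3
      have e4 : c' = c := by rw [e3]; group
      rwa [e4] at hc'
    rw [← hbc]
    exact mul_mem (hBY hb) h2

end

end Cfsg.Agent.H6
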